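import Cfsg.Agent.H319.One.Weights
import Cfsg.Agent.H319.One.Base
import Cfsg.Agent.H593.RobinsonRank
import Mathlib.FieldTheory.IsAlgClosed.AlgebraicClosure
import Mathlib.GroupTheory.PGroup
import Cfsg.Agent.H994.KE.Base_m3
import Cfsg.Agent.Nodes.BNOf
import Cfsg.Agent.Nodes.PosPair
import Cfsg.Agent.H461.E2.Cent
import Cfsg.Agent.H129.TorusChar
import Cfsg.Agent.H795.Tw
import Cfsg.Agent.H341.ThreeList_m3
import Cfsg.Agent.S1082
import Cfsg.Agent.S0293
import Mathlib
import Cfsg.Agent.ClassicalGeometry.AutPSL.Main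
import Cfsg.Agent.H124.LinCyc
import Cfsg.Agent.StdL2.Cover
import Cfsg.Agent.H198.UnitGamma
import Cfsg.Agent.H795.SplitRow
import Cfsg.Agent.H634.ElPSU_m3
import Cfsg.Agent.H969.TwF.WSub
import Cfsg.Agent.S2128
import Cfsg.Agent.S1068
import Cfsg.Agent.S1072
import Cfsg.Agent.Lib.Refl
import Cfsg.Agent.H970.CycOne
import Cfsg.Agent.H774.K0.Prime
import Cfsg.Agent.H657.PrinQuot
import Cfsg.Agent.H657.BrauerFeit
import Cfsg.Agent.S4888
import Cfsg.Agent.H379.P4.TwoElt
import Cfsg.Agent.S0242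
import Cfsg.Agent.S0245
import Cfsg.Agent.S0246
import Cfsg.Agent.H198.SympGamma
import Cfsg.Agent.H129.ChainFast
import Cfsg.Agent.KFacts.Th.Main
import Cfsg.Agent.KFacts.Baby.RowB_m3
import Cfsg.Agent.BabyM.Instance
import Cfsg.Agent.BabyM.WordsTh
import Cfsg.Agent.S1700
import Cfsg.Agent.ClassicalGeometry.PSL2Basic
import Cfsg.Agent.S2299
import Cfsg.Agent.H525.PslK
import Cfsg.Agent.H142.GmnBlock
import Cfsg.Agent.H692.RealOver
import Cfsg.Prelude.Def_Blocks
import Cfsg.Agent.S0133
import Cfsg.Agent.H686.CharKit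
import Cfsg.Agent.FastGrp
import Cfsg.Agent.Prune
set_option linter.all false

section
prune_inst 0x7ff0acf8aba845dfdfff7e3fa6d1cffc12820fffe6dff9437fe0619f0bdf030009c52b850de010fe0e96401410b87813fb7eeeffa06bdc7ffffd5ff41ffbec0f8566b500519488340f382ff703f0778a7f3fffffffffffffffffffffffffffbeffbdffbfffff

-- part: H319/One/Line
section
prune_inst 0xe010640579a2020000040510a00020814d000000004008008086094001096040040288010aa000160a6080000000000000000480400000000a000400002406091080820020400108400008000000000000000000000000000000000000000000200400000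
set_option linter.all false
open scoped Cfsg.Agent.FastGrp

/-!
# The line lemma (helper319, S4880)

* `fx A` : the dimension of the space of vectors fixed by the matrix `A`; `fx_conj`, `fx_map`, `fx_inv_transpose`;
* `line` : `P` elementary abelian of order `p ^ (a + 2)`, all `x ≠ 1` with `fx (ρ x) = f`: with `c` the dimension of the
  space of vectors fixed by `P`: `dim = c + t (1 + p + ... + p ^ (a + 1))`, `f = c + t (1 + ... + p ^ a)`, the order of
  `|F|` modulo `p` divides `t`, and `t > 0` if `ρ` is injective;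
* `classical_false` : the form used for the classical groups.
-/

set_option autoImplicit false
set_option linter.unusedSectionVars false

namespace Cfsg.Agent.H319.One

open Module Finset Weights

section Fx

variable {F F' : Type*} [Field F] [Field F'] {ι : Type*} [Fintype ι] [DecidableEq ι]

/-- The dimension of the space of fixed vectors. -/
noncomputable def fx (A : Matrix ι ι F) : ℕ := finrank F ↥(LinearMap.ker (Matrix.toLin' (A - 1)))

theorem fx_add_rank (A : Matrix ι ι F) : fx A + (A - 1).rank = Fintype.card ι := by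
  have h1 := LinearMap.finrank_range_add_finrank_ker (Matrix.toLin' (A - 1))
  rw [Module.finrank_fintype_fun_eq_card] at h1
  rw [add_comm]
  exact h1

theorem fx_of_rank {A : Matrix ι ι F} {B : Matrix ι ι F'} (h : (A - 1).rank = (B - 1).rank) : fx A = fx B := by
  have h1 := fx_add_rank A
  have h2 := fx_add_rank B
  omega

theorem rank_mul_unit (A : Matrix ι ι F) (g : GL ι F) : (A * (g : Matrix ι ι F)).rank = A.rank := by
  apply Matrix.rank_mul_eq_left_of_isUnit_det
  exact (Matrix.isUnit_iff_isUnit_det _).1 g.isUnit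

theorem rank_unit_mul (A : Matrix ι ι F) (g : GL ι F) : ((g : Matrix ι ι F) * A).rank = A.rank := by
  apply Matrix.rank_mul_eq_right_of_isUnit_det
  exact (Matrix.isUnit_iff_isUnit_det _).1 g.isUnit

theorem fx_conj (g : GL ι F) (A : Matrix ι ι F) : fx ((g : Matrix ι ι F) * A * ((g⁻¹ : GL ι F) : Matrix ι ι F)) = fx A := by
  apply fx_of_rank
  have h1 : (g : Matrix ι ι F) * A * ((g⁻¹ : GL ι F) : Matrix ι ι F) - 1 =
      (g : Matrix ι ι F) * (A - 1) * ((g⁻¹ : GL ι F) : Matrix ι ι F) := by
    rw [mul_sub, sub_mul, mul_one, Units.mul_inv]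
  rw [h1, rank_mul_unit, rank_unit_mul]

theorem fx_map (σ : F →+* F') (A : Matrix ι ι F) : fx (A.map σ) = fx A := by
  apply fx_of_rank
  have h1 : A.map σ - 1 = (A - 1).map σ := by
    ext i j
    by_cases hij : i = j
    · subst hij
      simp
    · simp [Matrix.one_apply_ne hij]
  rw [h1]
  exact Cfsg.Agent.H593.RobinsonRank.rank_map σ _

theorem eq_one_of_fx {A : Matrix ι ι F} (h : fx A = Fintype.card ι) : A = 1 := by
  have h1 := fx_add_rank A
  have h2 : (A - 1).rank = 0 := by omega
  rw [Matrix.rank, finrank_eq_zero_iff_of_free (R := F)] at h2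
  have h3 : LinearMap.range (A - 1).mulVecLin = ⊥ := Submodule.eq_bot_of_subsingleton
  have h4 : (A - 1).mulVecLin = 0 := LinearMap.range_eq_bot.1 h3
  have h5 : A - 1 = 0 := by
    apply Matrix.toLin'.injective
    rw [map_zero]
    exact h4
  exact sub_eq_zero.1 h5

end Fx

section Avg

variable {P : Type*} [CommGroup P] [Fintype P] {L : Type*} [Field L] {ι : Type*} [Fintype ι] [DecidableEq ι]

/-- the associated representation -/
noncomputable def rp (ρ : P →* Matrix ι ι L) : P →* Module.End L (ι → L) :=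
  (Matrix.toLinAlgEquiv' : Matrix ι ι L ≃ₐ[L] ((ι → L) →ₗ[L] (ι → L))).toRingEquiv.toMonoidHom.comp ρ

theorem rp_apply (ρ : P →* Matrix ι ι L) (x : P) (v : ι → L) : rp ρ x v = (ρ x).mulVec v := by
  show Matrix.toLinAlgEquiv' (ρ x) v = _
  rw [Matrix.toLinAlgEquiv'_apply]

/-- the average over a subgroup -/
noncomputable def avg (ρ : P →* Matrix ι ι L) (Q : Finset P) : Matrix ι ι L := (Q.card : L)⁻¹ • ∑ x ∈ Q, ρ x

theorem fixS_eq (ρ : P →* Matrix ι ι L) (Q : Subgroup P) (Q' : Finset P) (hQ' : ∀ x, x ∈ Q' ↔ x ∈ Q)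
    (hQ : (Q'.card : L) ≠ 0) : fixS (rp ρ) Q = LinearMap.ker (Matrix.toLin' (avg ρ Q' - 1)) := by
  ext v
  have h0 : (avg ρ Q').mulVec v = (Q'.card : L)⁻¹ • ∑ x ∈ Q', (ρ x).mulVec v := by
    rw [avg, Matrix.smul_mulVec, Matrix.sum_mulVec]
  rw [LinearMap.mem_ker, Matrix.toLin'_apply, Matrix.sub_mulVec, Matrix.one_mulVec, sub_eq_zero, h0]
  constructor
  · intro h
    have h1 : ∑ x ∈ Q', (ρ x).mulVec v = ∑ x ∈ Q', v := by
      refine Finset.sum_congr rfl fun x hx => ?_
      rw [← rp_apply]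
      exact h x ((hQ' x).1 hx)
    rw [h1, Finset.sum_const, ← Nat.cast_smul_eq_nsmul L, smul_smul, inv_mul_cancel₀ hQ, one_smul]
  · intro h y hy
    rw [← h, rp_apply, Matrix.mulVec_smul, Matrix.mulVec_sum]
    congr 1
    refine Finset.sum_bij (fun x _ => y * x) (fun x hx => ?_) (fun x _ z _ hxz => mul_left_cancel hxz)
      (fun z hz => ⟨y⁻¹ * z, ?_, mul_inv_cancel_left _ _⟩) (fun x hx => ?_)
    · rw [hQ'] at hx ⊢
      exact Q.mul_mem hy hx
    · rw [hQ'] at hz ⊢
      exact Q.mul_mem (Q.inv_mem hy) hz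
    · rw [Matrix.mulVec_mulVec, ← map_mul]

theorem finrank_fixS_eq (ρ : P →* Matrix ι ι L) (Q : Subgroup P) (Q' : Finset P) (hQ' : ∀ x, x ∈ Q' ↔ x ∈ Q)
    (hQ : (Q'.card : L) ≠ 0) : finrank L ↥(fixS (rp ρ) Q) = fx (avg ρ Q') := by
  rw [fixS_eq ρ Q Q' hQ' hQ, fx]

theorem finrank_fixS_zpowers (ρ : P →* Matrix ι ι L) (x : P) :
    finrank L ↥(fixS (rp ρ) (Subgroup.zpowers x)) = fx (ρ x) := by
  have h1 : fixS (rp ρ) (Subgroup.zpowers x) = LinearMap.ker (Matrix.toLin' (ρ x - 1)) := by
    ext v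
    rw [LinearMap.mem_ker, Matrix.toLin'_apply, Matrix.sub_mulVec, Matrix.one_mulVec, sub_eq_zero, ← rp_apply]
    constructor
    · intro h
      exact h x (Subgroup.mem_zpowers x)
    · intro h y hy
      have h2 : Subgroup.zpowers x ≤ (MulAction.stabilizer (Module.End L (ι → L))ˣ v).comap (MonoidHom.toHomUnits (rp ρ)) := by
        rw [Subgroup.zpowers_le]
        exact h
      exact h2 hy
  rw [h1, fx]

/-- the dimensions of the fixed spaces do not change under a field extension -/
theorem finrank_fixS_map {L' : Type*} [Field L'] (i : L →+* L') (ρ : P →* Matrix ι ι L) (Q : Subgroup P)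
    (hP : (Fintype.card P : L) ≠ 0) :
    finrank L' ↥(fixS (rp ((RingHom.mapMatrix i).toMonoidHom.comp ρ)) Q) = finrank L ↥(fixS (rp ρ) Q) := by
  classical
  let Q' : Finset P := Finset.univ.filter (· ∈ Q)
  have hQ' : ∀ x, x ∈ Q' ↔ x ∈ Q := fun x => by simp [Q']
  have hc : Q'.card = Nat.card Q := by
    rw [Nat.card_eq_fintype_card, Fintype.card_subtype]
  have hd : (Q'.card : L) ≠ 0 := by
    intro h
    apply hP
    obtain ⟨k, hk⟩ := Q.card_subgroup_dvd_card
    rw [← Nat.card_eq_fintype_card, hk, Nat.cast_mul, ← hc, h, zero_mul]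
  have hd' : (Q'.card : L') ≠ 0 := by
    intro h
    apply hd
    apply i.injective
    rw [map_natCast, h, map_zero]
  rw [finrank_fixS_eq ρ Q Q' hQ' hd, finrank_fixS_eq _ Q Q' hQ' hd', ← fx_map i]
  congr 1
  rw [avg, avg]
  ext a b
  rw [Matrix.map_apply, Matrix.smul_apply, Matrix.smul_apply, Matrix.sum_apply, Matrix.sum_apply, smul_eq_mul,
    smul_eq_mul, map_mul, map_inv₀, map_natCast, map_sum]
  rfl

/-- The key formula over any field. -/
theorem key_any (ρ : P →* Matrix ι ι L) {p b f : ℕ} (hp : p.Prime) (hP : (Fintype.card P : L) ≠ 0)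
    (hexp : ∀ x : P, x ^ p = 1) (hf : ∀ x : P, x ≠ 1 → fx (ρ x) = f) (Q : Subgroup P)
    (hQ : Nat.card Q = p ^ (b + 1)) :
    Fintype.card ι + (p ^ (b + 1) - 1) * f =
      p ^ b * Fintype.card ι + (p ^ (b + 1) - p ^ b) * finrank L ↥(fixS (rp ρ) Q) := by
  let i := algebraMap L (AlgebraicClosure L)
  let ρ' := (RingHom.mapMatrix i).toMonoidHom.comp ρ
  have hP' : (Fintype.card P : AlgebraicClosure L) ≠ 0 := by
    intro h
    apply hP
    apply i.injective
    rw [map_natCast, h, map_zero]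
  have h1 := key (rp ρ') hp hP' hexp (f := f) (fun x hx => by
    rw [finrank_fixS_zpowers]
    show fx ((ρ x).map i) = f
    rw [fx_map]
    exact hf x hx) Q hQ
  rw [Module.finrank_fintype_fun_eq_card, finrank_fixS_map i ρ Q hP] at h1
  exact h1

end Avg

/-- arithmetic -/
theorem arith {p a n f c A : ℕ} (hp : 2 ≤ p) (hcA : c ≤ A)
    (h1 : n + (p ^ (a + 2) - 1) * f = p ^ (a + 1) * n + (p ^ (a + 2) - p ^ (a + 1)) * c)
    (h2 : n + (p ^ (a + 1) - 1) * f = p ^ a * n + (p ^ (a + 1) - p ^ a) * A) :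
    n = c + (A - c) * ∑ i ∈ range (a + 2), p ^ i ∧ f = c + (A - c) * ∑ i ∈ range (a + 1), p ^ i := by
  obtain ⟨t, rfl⟩ := Nat.exists_eq_add_of_le hcA
  have hp1 : 1 ≤ p := by omega
  have e1 : ∀ k, 1 ≤ p ^ k := fun k => Nat.one_le_pow _ _ (by omega)
  have e2 : ∀ k, p ^ k ≤ p ^ (k + 1) := fun k => Nat.pow_le_pow_right hp1 (Nat.le_succ k)
  have g : ∀ k, ((p : ℤ) - 1) * ∑ i ∈ range k, (p : ℤ) ^ i = (p : ℤ) ^ k - 1 := fun k => by
    rw [mul_comm]; exact geom_sum_mul (p : ℤ) k
  have h1' : (n : ℤ) + ((p : ℤ) ^ (a + 2) - 1) * f = (p : ℤ) ^ (a + 1) * n + ((p : ℤ) ^ (a + 2) - (p : ℤ) ^ (a + 1)) * c := by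
    have := congrArg (Nat.cast (R := ℤ)) h1
    push_cast [e1, e2] at this
    exact this
  have h2' : (n : ℤ) + ((p : ℤ) ^ (a + 1) - 1) * f = (p : ℤ) ^ a * n + ((p : ℤ) ^ (a + 1) - (p : ℤ) ^ a) * (c + t) := by
    have := congrArg (Nat.cast (R := ℤ)) h2
    push_cast [e1, e2] at this
    exact this
  set S : ℤ := ∑ i ∈ range (a + 2), (p : ℤ) ^ i with hS
  set S' : ℤ := ∑ i ∈ range (a + 1), (p : ℤ) ^ i with hS'
  have gS := g (a + 2)
  have gS' := g (a + 1)
  rw [← hS] at gS
  rw [← hS'] at gS'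
  have hpa : (0 : ℤ) < (p : ℤ) ^ a := by positivity
  have hp1' : (0 : ℤ) < (p : ℤ) - 1 := by
    have : (2 : ℤ) ≤ p := by exact_mod_cast hp
    linarith only [hp]
  set q : ℤ := (p : ℤ) with hq
  set u : ℤ := q ^ a with hu
  have p1 : q ^ (a + 1) = u * q := by rw [pow_succ]
  have p2 : q ^ (a + 2) = u * q * q := by rw [pow_succ, pow_succ]
  rw [p1, p2] at h1'
  rw [p1] at h2' gS'
  rw [p2] at gS
  have k1 : ((n : ℤ) - c) = S * t := by
    have h3 : u * (q - 1) ^ 2 * (((n : ℤ) - c) - S * t) = 0 := by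
      have h4 : (u * q * q - 1) * ((f : ℤ) - c) = (u * q - 1) * ((n : ℤ) - c) := by linarith only [h1']
      have h5 : (u * q - 1) * ((f : ℤ) - c) = (u - 1) * ((n : ℤ) - c) + (u * q - u) * t := by linarith only [h2']
      have h6 : (u * q - 1) * ((u * q * q - 1) * ((f : ℤ) - c)) = (u * q - 1) * ((u * q - 1) * ((n : ℤ) - c)) := by rw [h4]
      have h7 : (u * q * q - 1) * ((u * q - 1) * ((f : ℤ) - c)) =
        (u * q * q - 1) * ((u - 1) * ((n : ℤ) - c) + (u * q - u) * t) := by rw [h5]
      have h8 : u * (q - 1) ^ 2 * ((n : ℤ) - c) = u * (q - 1) * (u * q * q - 1) * t := by linear_combination h7 - h6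
      rw [mul_sub, h8, ← gS]
      ring
    rcases mul_eq_zero.1 h3 with h4 | h4
    · exfalso
      have : 0 < u * (q - 1) ^ 2 := by (clear * - hp hp1'; positivity)
      linarith only [h4, this]
    · linarith only [h4]
  have k2 : ((f : ℤ) - c) = S' * t := by
    have h3 : (q - 1) * S * (((f : ℤ) - c) - S' * t) = 0 := by
      have h4 : (u * q * q - 1) * ((f : ℤ) - c) = (u * q - 1) * ((n : ℤ) - c) := by linarith only [h1']
      rw [k1] at h4
      rw [← gS, ← gS'] at h4
      linear_combination h4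
    have hSpos : 0 < S := by
      have : 0 < (q - 1) * S := by
        rw [gS]
        have h5 : 1 ≤ u := hpa
        have h6 : 2 ≤ q := by linarith only [hp]
        have h7 : 4 ≤ q * q := by nlinarith only [hp]
        have h8 : 1 * 4 ≤ u * (q * q) := mul_le_mul h5 h7 (by norm_num) (by linarith only [hpa])
        have h9 : u * q * q = u * (q * q) := mul_assoc _ _ _
        linarith only [h8]
      exact (mul_pos_iff_of_pos_left hp1').1 this
    rcases mul_eq_zero.1 h3 with h4 | h4
    · exfalso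
      have : 0 < (q - 1) * S := mul_pos hp1' hSpos
      linarith only [h4, this]
    · linarith only [h4]
  constructor
  · zify
    rw [Nat.add_sub_cancel_left]
    linarith only [k1]
  · zify
    rw [Nat.add_sub_cancel_left]
    linarith only [k2]

section Main

variable {P : Type*} [CommGroup P] [Finite P] {F : Type*} [Field F] [Finite F] {ι : Type*} [Fintype ι] [DecidableEq ι]

/-- **The line lemma.** -/
theorem line (ρ : P →* Matrix ι ι F) {p a f : ℕ} (hp : p.Prime) (hpF : ¬ p ∣ Nat.card F)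
    (hcard : Nat.card P = p ^ (a + 2)) (hexp : ∀ x : P, x ^ p = 1) (hf : ∀ x : P, x ≠ 1 → fx (ρ x) = f) :
    ∃ c t, Fintype.card ι = c + t * ∑ i ∈ range (a + 2), p ^ i ∧ f = c + t * ∑ i ∈ range (a + 1), p ^ i ∧
      orderOf ((Nat.card F : ℕ) : ZMod p) ∣ t := by
  classical
  have : Fintype P := Fintype.ofFinite P
  have hfp : Fact p.Prime := ⟨hp⟩
  have hpF0 : (p : F) ≠ 0 := by
    intro h0
    apply hpF
    have h1 : ringChar F ∣ p := (ringChar.spec F p).1 h0
    have : Fintype F := Fintype.ofFinite F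
    obtain ⟨m, hr, hm⟩ := FiniteField.card F (ringChar F)
    have h2 : ringChar F = p := (Nat.prime_dvd_prime_iff_eq hr hp).1 h1
    rw [Nat.card_eq_fintype_card, hm, h2]
    exact dvd_pow_self p m.ne_zero
  have hP : (Fintype.card P : F) ≠ 0 := by
    rw [← Nat.card_eq_fintype_card, hcard, Nat.cast_pow]
    exact pow_ne_zero _ hpF0
  have hPG : IsPGroup p P := IsPGroup.of_card hcard
  obtain ⟨Q, hQ⟩ := Sylow.exists_subgroup_card_pow_prime (G := P) p (n := a + 1) (by
    rw [hcard]; exact pow_dvd_pow p (by omega))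
  have h1 := key_any ρ (b := a + 1) hp hP hexp hf (⊤ : Subgroup P) (by
    rw [Nat.card_congr (Subgroup.topEquiv (G := P)).toEquiv, hcard])
  have h2 := key_any ρ (b := a) hp hP hexp hf Q hQ
  set c := finrank F ↥(fixS (rp ρ) ⊤) with hc
  set A := finrank F ↥(fixS (rp ρ) Q) with hA
  have hle : fixS (rp ρ) ⊤ ≤ fixS (rp ρ) Q := fun v hv x _ => hv x (Subgroup.mem_top x)
  have hcA : c ≤ A := Submodule.finrank_mono hle
  obtain ⟨e1, e2⟩ := arith hp.two_le hcA h1 h2
  refine ⟨c, A - c, e1, e2, ?_⟩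
  -- the action on the fixed space of `Q`
  let act : MulAction P ↥(fixS (rp ρ) Q) :=
    { smul := fun x v => ⟨rp ρ x v, fixS_stable (rp ρ) Q x v v.2⟩
      one_smul := by
        intro v
        apply Subtype.ext
        show rp ρ 1 v = v
        rw [map_one]
        rfl
      mul_smul := by
        intro x y v
        apply Subtype.ext
        show rp ρ (x * y) v = rp ρ x (rp ρ y v)
        rw [map_mul]
        rfl }
  have hfin : Finite (ι → F) := inferInstance
  have hfin2 : Finite ↥(fixS (rp ρ) Q) := Finite.of_injective _ Subtype.val_injective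
  have h3 := hPG.card_modEq_card_fixedPoints (α := ↥(fixS (rp ρ) Q))
  have h4 : Nat.card (MulAction.fixedPoints P ↥(fixS (rp ρ) Q)) = Nat.card ↥(fixS (rp ρ) ⊤) := by
    refine Nat.card_congr ⟨fun v => ⟨v.1.1, fun x _ => congrArg Subtype.val (v.2 x)⟩,
      fun v => ⟨⟨v.1, hle v.2⟩, fun x => Subtype.ext (v.2 x (Subgroup.mem_top x))⟩, fun v => rfl, fun v => rfl⟩
  rw [h4, Module.natCard_eq_pow_finrank (K := F) (V := ↥(fixS (rp ρ) Q)),
    Module.natCard_eq_pow_finrank (K := F) (V := ↥(fixS (rp ρ) ⊤)), ← hA, ← hc] at h3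
  obtain ⟨t, ht⟩ := Nat.exists_eq_add_of_le hcA
  rw [ht, Nat.add_sub_cancel_left]
  rw [ht, pow_add] at h3
  have h5 : Nat.card F ^ t ≡ 1 [MOD p] := by
    have h6 : Nat.Coprime p (Nat.card F ^ c) := Nat.Coprime.pow_right _ ((Nat.Prime.coprime_iff_not_dvd hp).2 hpF)
    apply Nat.ModEq.cancel_left_of_coprime (c := Nat.card F ^ c) h6
    rw [mul_one]
    exact h3
  apply orderOf_dvd_of_pow_eq_one
  have h6 := (ZMod.natCast_eq_natCast_iff _ _ p).2 h5
  push_cast at h6
  exact h6

/-- The dimension bound. -/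
theorem line_le (ρ : P →* Matrix ι ι F) {p n f : ℕ} (hp : p.Prime) (hpF : ¬ p ∣ Nat.card F) (hn : 2 ≤ n)
    (hcard : Nat.card P = p ^ n) (hexp : ∀ x : P, x ^ p = 1) (hf : ∀ x : P, x ≠ 1 → fx (ρ x) = f)
    (hinj : Function.Injective ρ) :
    orderOf ((Nat.card F : ℕ) : ZMod p) * ∑ i ∈ range n, p ^ i ≤ Fintype.card ι := by
  obtain ⟨a, rfl⟩ := Nat.exists_eq_add_of_le' hn
  obtain ⟨c, t, h1, h2, h3⟩ := line ρ hp hpF hcard hexp hf
  have ht : 0 < t := by
    rcases Nat.eq_zero_or_pos t with h0 | h0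
    · exfalso
      rw [h0, zero_mul, add_zero] at h1 h2
      have : Nontrivial P := by
        rw [← Finite.one_lt_card_iff_nontrivial, hcard]
        exact Nat.one_lt_pow (by omega) hp.one_lt
      obtain ⟨x, hx⟩ := exists_ne (1 : P)
      apply hx
      apply hinj
      rw [map_one]
      apply eq_one_of_fx
      rw [hf x hx, h2, h1]
    · exact h0
  rw [h1]
  calc _ ≤ t * ∑ i ∈ range (a + 2), p ^ i := Nat.mul_le_mul_right _ (Nat.le_of_dvd ht h3)
    _ ≤ _ := Nat.le_add_left _ _

end Main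

/-- **The form for the classical groups.** -/
theorem classical_false {p n : ℕ} [Fact p.Prime] {S : Type*} [Group S] [Finite S] (h : Hyp p n S) {F : Type*} [Field F]
    [Fintype F] {ι : Type*} [Fintype ι] [DecidableEq ι] {X : Type*} [Group X] [Finite X]
    (ρ : X →* Matrix.GeneralLinearGroup ι F) (hρ : Function.Injective ρ) (π : X →* S) (hπ : Function.Surjective π)
    (hk : ¬ p ∣ Nat.card π.ker) (hpF : ¬ p ∣ Fintype.card F)
    (hinv : ∀ (φ : MulAut S) (x y : X), orderOf x = p → orderOf y = p → φ (π x) = π y →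
      fx ((ρ x : Matrix.GeneralLinearGroup ι F) : Matrix ι ι F) = fx ((ρ y : Matrix.GeneralLinearGroup ι F) : Matrix ι ι F))
    (hN : Fintype.card ι < orderOf ((Fintype.card F : ℕ) : ZMod p) * ∑ i ∈ range n, p ^ i) : False := by
  classical
  have hp : p.Prime := Fact.out
  obtain ⟨Q⟩ : Nonempty (Sylow p X) := inferInstance
  have hkerQ : ∀ x ∈ (Q : Subgroup X), π x = 1 → x = 1 := by
    intro x hx hx1
    obtain ⟨k, hk1⟩ := Q.2 ⟨x, hx⟩
    have hk2 : x ^ p ^ k = 1 := congrArg Subtype.val hk1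
    have h1 : orderOf x ∣ p ^ k := orderOf_dvd_of_pow_eq_one hk2
    have h2 : orderOf x ∣ Nat.card π.ker := by
      have h3 : orderOf (⟨x, hx1⟩ : π.ker) = orderOf x := Subgroup.orderOf_mk _ _
      rw [← h3]
      exact orderOf_dvd_natCard _
    have h3 : Nat.Coprime (p ^ k) (Nat.card π.ker) := Nat.Coprime.pow_left _ ((Nat.Prime.coprime_iff_not_dvd hp).2 hk)
    exact orderOf_eq_one_iff.1 (Nat.eq_one_of_dvd_coprimes h3 h1 h2)
  have hinjQ : Function.Injective (π.comp (Q : Subgroup X).subtype) := by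
    rw [injective_iff_map_eq_one]
    intro x hx
    exact Subtype.ext (hkerQ x x.2 hx)
  let Q' : Subgroup S := (Q : Subgroup X).map π
  have hQ'p : IsPGroup p Q' := Q.2.map π
  have hcard : Nat.card (Q : Subgroup X) = p ^ n := by
    have h1 : Nat.card X = Nat.card π.ker * Nat.card S := by
      rw [← Nat.card_congr (QuotientGroup.quotientKerEquivOfSurjective π hπ).toEquiv, mul_comm]
      exact Subgroup.card_eq_card_quotient_mul_card_subgroup π.ker
    obtain ⟨P0⟩ : Nonempty (Sylow p S) := inferInstance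
    rw [Sylow.card_eq_multiplicity, ← h.card P0, Sylow.card_eq_multiplicity, h1,
      Nat.factorization_mul Nat.card_pos.ne' Nat.card_pos.ne', Finsupp.add_apply, Nat.factorization_eq_zero_of_not_dvd hk,
      zero_add]
  have hcomm : ∀ a b : (Q : Subgroup X), a * b = b * a := by
    intro a b
    apply hinjQ
    rw [map_mul, map_mul]
    exact h.comm Q' hQ'p _ ⟨a, a.2, rfl⟩ _ ⟨b, b.2, rfl⟩
  have hexp : ∀ x : (Q : Subgroup X), x ^ p = 1 := by
    intro x
    apply hinjQ
    rw [map_pow, map_one]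
    obtain ⟨k, hk1⟩ := Q.2 x
    exact h.exp _ k (by rw [← map_pow, hk1, map_one])
  let _ : CommGroup (Q : Subgroup X) := { (inferInstance : Group (Q : Subgroup X)) with mul_comm := hcomm }
  have hord : ∀ x : (Q : Subgroup X), x ≠ 1 → orderOf (x : X) = p := by
    intro x hx
    rw [Subgroup.orderOf_coe]
    exact orderOf_eq_prime (hexp x) hx
  have hn1 : Nontrivial (Q : Subgroup X) := by
    rw [← Finite.one_lt_card_iff_nontrivial, hcard]
    exact Nat.one_lt_pow (by have := h.two; omega) hp.one_lt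
  obtain ⟨x0, hx0⟩ := exists_ne (1 : (Q : Subgroup X))
  let ρ' : (Q : Subgroup X) →* Matrix ι ι F := (Units.coeHom _).comp (ρ.comp (Q : Subgroup X).subtype)
  have hρ' : Function.Injective ρ' := fun a b hab => Subtype.ext (hρ (Units.ext hab))
  have h1 := line_le ρ' (p := p) (n := n) (f := fx (ρ' x0)) hp (by rwa [Nat.card_eq_fintype_card]) h.two hcard hexp
    (fun x hx => by
      obtain ⟨φ, hφ⟩ := h.one (π x0) (π x) (h.order_of_mem hQ'p ⟨x0, x0.2, rfl⟩ fun h2 => hx0 (Subtype.ext (hkerQ x0 x0.2 h2)))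
        (h.order_of_mem hQ'p ⟨x, x.2, rfl⟩ fun h2 => hx (Subtype.ext (hkerQ x x.2 h2)))
      exact (hinv φ x0 x (hord x0 hx0) (hord x hx) hφ).symm) hρ'
  rw [Nat.card_eq_fintype_card] at h1
  omega

end Cfsg.Agent.H319.One

private theorem dce_48de9bd717cd : _root_.True := by
  try have : _root_.True := by simp only [_root_.Cfsg.Agent.H319.One.avg.eq_1]
  try have : _root_.True := by simp only [_root_.Cfsg.Agent.H319.One.fx.eq_1]
  exact _root_.True.intro
end

-- part: H319/One/RootC
section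
prune_inst 0x400000
set_option linter.all false
open scoped Cfsg.Agent.FastGrp

-- part: H319/One/Comb
section
/-!
# Counting characters on lines (helper319, S4880)

`E` elementary abelian of order `p ^ (a + 2)`, `χ b` (`b ∈ Φ`, finite) characters of `E` such that the number of `b` with
`χ b x = 1` is the same for all `x ≠ 1`; `H` a group of multipliers (for `u ∈ H` a permutation `g` of `Φ` with
`χ (g b) = (χ b) ^ u`). Then `|Φ| = c + M (1 + p + ... + p ^ (a + 1))` with `c` the number of trivial characters, `|H| ∣ M` and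
`|H| * #{b | χ b = χ b₀} ≤ M` if `χ b₀ ≠ 1`.
-/

set_option autoImplicit false
set_option linter.unusedSectionVars false

namespace Cfsg.Agent.H319.One.Comb

open Finset

variable {E : Type*} [CommGroup E] [Fintype E] {K : Type*} [Field K] {Φ : Type*} [Fintype Φ] [DecidableEq Φ]

section

variable {p : ℕ} [hp : Fact p.Prime]

omit [Fintype E] in
/-- the power by a residue class -/
theorem pow_val_mul {lam : E →* Kˣ} (hl : ∀ x, lam x ^ p = 1) (u v : ZMod p) :
    lam ^ (u * v).val = (lam ^ u.val) ^ v.val := by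
  refine MonoidHom.ext fun x => ?_
  rw [MonoidHom.pow_apply, MonoidHom.pow_apply, MonoidHom.pow_apply, ← pow_mul, ZMod.val_mul]
  conv_rhs => rw [← Nat.mod_add_div (u.val * v.val) p, pow_add, pow_mul (lam x) p, hl, one_pow, mul_one]

omit [Fintype E] in
theorem hpow_zero (lam : E →* Kˣ) : lam ^ 0 = 1 := by
  refine MonoidHom.ext fun x => ?_
  rw [MonoidHom.pow_apply, pow_zero]
  rfl

omit [Fintype E] in
theorem hpow_one (lam : E →* Kˣ) : lam ^ 1 = lam := by
  refine MonoidHom.ext fun x => ?_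
  rw [MonoidHom.pow_apply, pow_one]

theorem char_pow (hexp : ∀ x : E, x ^ p = 1) (lam : E →* Kˣ) : ∀ x, lam x ^ p = 1 := by
  intro x
  rw [← map_pow, hexp, map_one]

/-- A character trivial on the kernel of `lam` is a power of `lam`. -/
theorem exists_pow (hexp : ∀ x : E, x ^ p = 1) {lam mu : E →* Kˣ} (hl : lam ≠ 1) (hm : mu ≠ 1)
    (hker : lam.ker ≤ mu.ker) : ∃ u : (ZMod p)ˣ, mu = lam ^ (u : ZMod p).val := by
  obtain ⟨x, hx⟩ : ∃ x, lam x ≠ 1 := by
    by_contra hcon
    push Not at hcon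
    exact hl (MonoidHom.ext hcon)
  have h1 : (lam x) ^ p = 1 := by rw [← map_pow, hexp, map_one]
  have h2 : (mu x) ^ p = 1 := by rw [← map_pow, hexp, map_one]
  have ho : orderOf (lam x) = p := orderOf_eq_prime h1 hx
  have hprim : IsPrimitiveRoot ((lam x : Kˣ) : K) p := by
    rw [IsPrimitiveRoot.coe_units_iff, ← ho]
    exact IsPrimitiveRoot.orderOf _
  have hroot : ∀ y, ∃ i, i < p ∧ (lam x) ^ i = lam y := by
    intro y
    have h3 : ((lam y : Kˣ) : K) ^ p = 1 := by rw [← Units.val_pow_eq_pow_val, ← map_pow, hexp, map_one, Units.val_one]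
    obtain ⟨i, hi, e⟩ := hprim.eq_pow_of_pow_eq_one h3
    exact ⟨i, hi, Units.ext (by rw [Units.val_pow_eq_pow_val, e])⟩
  obtain ⟨i, hi, e⟩ : ∃ i, i < p ∧ (lam x) ^ i = mu x := by
    have h3 : ((mu x : Kˣ) : K) ^ p = 1 := by rw [← Units.val_pow_eq_pow_val, h2, Units.val_one]
    obtain ⟨i, hi, e⟩ := hprim.eq_pow_of_pow_eq_one h3
    exact ⟨i, hi, Units.ext (by rw [Units.val_pow_eq_pow_val, e])⟩
  have h4 : mu = lam ^ i := by
    ext y
    obtain ⟨j, -, ej⟩ := hroot y
    have h5 : y * (x ^ j)⁻¹ ∈ lam.ker := by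
      rw [MonoidHom.mem_ker, map_mul, map_inv, map_pow, ej, mul_inv_cancel]
    have h6 : mu (y * (x ^ j)⁻¹) = 1 := hker h5
    rw [map_mul, map_inv, map_pow, mul_inv_eq_one] at h6
    rw [MonoidHom.pow_apply, h6, ← ej, ← e, ← pow_mul, ← pow_mul, mul_comm]
  have hi0 : i ≠ 0 := by
    rintro rfl
    apply hm
    rw [h4, hpow_zero]
  have h5 : ((i : ℕ) : ZMod p).val = i := ZMod.val_cast_of_lt hi
  have h6 : ((i : ℕ) : ZMod p) ≠ 0 := by
    intro h0
    apply hi0
    rw [← h5, h0, ZMod.val_zero]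
  refine ⟨Units.mk0 _ h6, ?_⟩
  rw [Units.val_mk0, h5]
  exact h4

theorem pow_inj (hexp : ∀ x : E, x ^ p = 1) {lam : E →* Kˣ} (hl : lam ≠ 1) {u v : ZMod p}
    (h : lam ^ u.val = lam ^ v.val) : u = v := by
  obtain ⟨x, hx⟩ : ∃ x, lam x ≠ 1 := by
    by_contra hcon
    push Not at hcon
    exact hl (MonoidHom.ext hcon)
  have h1 : (lam x) ^ p = 1 := by rw [← map_pow, hexp, map_one]
  have ho : orderOf (lam x) = p := orderOf_eq_prime h1 hx
  have h2 : (lam x) ^ u.val = (lam x) ^ v.val := by
    rw [← MonoidHom.pow_apply, h, MonoidHom.pow_apply]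
  have h3 := pow_injOn_Iio_orderOf (x := lam x) (by rw [ho]; exact ZMod.val_lt u) (by rw [ho]; exact ZMod.val_lt v) h2
  exact ZMod.val_injective p h3

end

/-- Sums of functions invariant under a subgroup. -/
theorem card_dvd_sum {G : Type*} [Group G] [Fintype G] (H : Subgroup G) (w : G → ℕ) (hw : ∀ g, ∀ u ∈ H, w (g * u) = w g) :
    Nat.card H ∣ ∑ g, w g ∧ ∀ g, Nat.card H * w g ≤ ∑ g, w g := by
  classical
  have : Fintype H := Fintype.ofFinite _
  have : Fintype (G ⧸ H) := Fintype.ofFinite _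
  have h1 : ∑ g, w g = ∑ c : G ⧸ H, Nat.card H * w c.out := by
    rw [← Fintype.sum_equiv (Subgroup.groupEquivQuotientProdSubgroup (s := H)).symm (fun x => w x.1.out) w
      (fun x => ?_)]
    · rw [Fintype.sum_prod_type]
      refine Finset.sum_congr rfl fun c _ => ?_
      show ∑ _y : H, w c.out = _
      rw [Finset.sum_const, Finset.card_univ, smul_eq_mul, Nat.card_eq_fintype_card]
    · obtain ⟨c, u⟩ := x
      have h2 : ∃ u' ∈ H, (Subgroup.groupEquivQuotientProdSubgroup (s := H)).symm (c, u) = c.out * u' := by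
        have h3 : (QuotientGroup.mk ((Subgroup.groupEquivQuotientProdSubgroup (s := H)).symm (c, u)) : G ⧸ H) = c := by
          exact congrArg Prod.fst ((Subgroup.groupEquivQuotientProdSubgroup (s := H)).apply_symm_apply (c, u))
        have h4 : (QuotientGroup.mk (c.out) : G ⧸ H) = QuotientGroup.mk ((Subgroup.groupEquivQuotientProdSubgroup (s := H)).symm (c, u)) := by
          rw [h3]
          exact Quotient.out_eq' c
        exact ⟨_, QuotientGroup.eq.1 h4, by rw [mul_inv_cancel_left]⟩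
      obtain ⟨u', hu', e⟩ := h2
      show w c.out = _
      rw [e, hw _ _ hu']
  have h2 : ∀ g, w g = w (QuotientGroup.mk g : G ⧸ H).out := by
    intro g
    have h4 : (QuotientGroup.mk g : G ⧸ H) = QuotientGroup.mk (QuotientGroup.mk g : G ⧸ H).out := (Quotient.out_eq' _).symm
    have h5 := QuotientGroup.eq.1 h4
    have h6 := hw g _ h5
    rw [mul_inv_cancel_left] at h6
    exact h6.symm
  constructor
  · rw [h1]
    exact Finset.dvd_sum fun c _ => dvd_mul_right _ _
  · intro g
    rw [h1, h2 g]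
    exact Finset.single_le_sum (f := fun c : G ⧸ H => Nat.card H * w c.out) (fun _ _ => Nat.zero_le _) (Finset.mem_univ _)

/-- **Counting.** -/
theorem count {p a Z : ℕ} [hp : Fact p.Prime] (hexp : ∀ x : E, x ^ p = 1) (hcard : Nat.card E = p ^ (a + 2))
    (χ : Φ → (E →* Kˣ)) [DecidableEq K] (hZ : ∀ x : E, x ≠ 1 → (univ.filter fun b => χ b x = 1).card = Z)
    (H : Subgroup (ZMod p)ˣ)
    (hH : ∀ u ∈ H, ∃ g : Equiv.Perm Φ, ∀ b, χ (g b) = (χ b) ^ (u : ZMod p).val) :
    ∃ c M, c = Nat.card {b // χ b = 1} ∧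
      Fintype.card Φ = c + M * ∑ i ∈ range (a + 2), p ^ i ∧
      Nat.card H ∣ M ∧
      ∀ b₀, χ b₀ ≠ 1 → Nat.card H * Nat.card {b // χ b = χ b₀} ≤ M := by
  classical
  have hpp : p.Prime := hp.out
  -- the key formula
  have key : ∀ (b : ℕ) (Q : Subgroup E), Nat.card Q = p ^ (b + 1) →
      Fintype.card Φ + (p ^ (b + 1) - 1) * Z = p ^ b * Fintype.card Φ +
        (p ^ (b + 1) - p ^ b) * (univ.filter fun i => Q ≤ (χ i).ker).card := by
    intro b Q hQ
    have h1 : ∑ x : Q, (univ.filter fun i => χ i (x : E) = 1).card = ∑ i : Φ, Nat.card ↥(Q ⊓ (χ i).ker) := by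
      simp_rw [Finset.card_filter]
      rw [Finset.sum_comm]
      refine Finset.sum_congr rfl fun i _ => ?_
      rw [← Finset.card_filter, Nat.card_eq_fintype_card, ← Fintype.card_subtype]
      exact Fintype.card_congr ⟨fun y => ⟨y.1.1, y.1.2, y.2⟩, fun y => ⟨⟨y.1, y.2.1⟩, y.2.2⟩, fun y => rfl, fun y => rfl⟩
    have h2 : ∑ x : Q, (univ.filter fun i => χ i (x : E) = 1).card = Fintype.card Φ + (p ^ (b + 1) - 1) * Z := by
      rw [← Finset.add_sum_erase Finset.univ _ (Finset.mem_univ (1 : Q))]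
      congr 1
      · rw [Finset.filter_true_of_mem, Finset.card_univ]
        intro i _
        exact map_one (χ i)
      · rw [Finset.sum_congr rfl (g := fun _ => Z) (fun x hx => hZ _ fun h4 =>
          (Finset.mem_erase.1 hx).1 (Subtype.ext h4)), Finset.sum_const, smul_eq_mul,
          Finset.card_erase_of_mem (Finset.mem_univ _), Finset.card_univ, ← Nat.card_eq_fintype_card, hQ]
    rw [← h2, h1, Finset.card_filter, Finset.mul_sum, ← Finset.card_univ (α := Φ), Finset.card_eq_sum_ones, Finset.mul_sum,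
      ← Finset.sum_add_distrib]
    refine Finset.sum_congr rfl fun i _ => ?_
    by_cases h : Q ≤ (χ i).ker
    · rw [if_pos h, inf_eq_left.2 h, hQ]
      have h3 : p ^ b ≤ p ^ (b + 1) := Nat.pow_le_pow_right hpp.pos (Nat.le_succ b)
      omega
    · rw [if_neg h, Weights.card_inf_ker hpp hexp Q hQ (χ i) h]
      omega
  have htop : Nat.card (⊤ : Subgroup E) = p ^ (a + 2) := by
    rw [Nat.card_congr (Subgroup.topEquiv (G := E)).toEquiv, hcard]
  have hker1 : ∀ i, (⊤ : Subgroup E) ≤ (χ i).ker ↔ χ i = 1 := by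
    intro i
    constructor
    · intro h
      exact MonoidHom.ext fun x => h (Subgroup.mem_top x)
    · intro h x _
      rw [MonoidHom.mem_ker, h]
      rfl
  set c := (univ.filter fun i => (⊤ : Subgroup E) ≤ (χ i).ker).card with hc
  have hle : ∀ Q : Subgroup E, c ≤ (univ.filter fun i => Q ≤ (χ i).ker).card := by
    intro Q
    apply Finset.card_le_card
    intro i hi
    rw [Finset.mem_filter] at hi ⊢
    exact ⟨hi.1, le_top.trans hi.2⟩
  have e0 := key (a + 1) ⊤ htop
  have hS : 0 < ∑ i ∈ range (a + 2), p ^ i :=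
    Finset.sum_pos (fun i _ => Nat.pow_pos hpp.pos) ⟨0, by simp⟩
  obtain ⟨Q₀, hQ₀⟩ := Sylow.exists_subgroup_card_pow_prime (G := E) p (n := a + 1) (by
    rw [hcard]; exact pow_dvd_pow p (by omega))
  obtain ⟨f1, -⟩ := arith hpp.two_le (hle Q₀) e0 (key a Q₀ hQ₀)
  set M := (univ.filter fun i => Q₀ ≤ (χ i).ker).card - c with hM
  have hMQ : ∀ Q : Subgroup E, Nat.card Q = p ^ (a + 1) → (univ.filter fun i => Q ≤ (χ i).ker).card - c = M := by
    intro Q hQ
    obtain ⟨f2, -⟩ := arith hpp.two_le (hle Q) e0 (key a Q hQ)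
    rw [f1] at f2
    have h3 := Nat.add_left_cancel f2
    exact (Nat.eq_of_mul_eq_mul_right hS h3).symm
  -- a nontrivial character
  have main : ∀ b₀, χ b₀ ≠ 1 → Nat.card H ∣ M ∧ Nat.card H * (univ.filter fun b => χ b = χ b₀).card ≤ M := by
    intro b₀ hb₀
    have hQ : Nat.card (χ b₀).ker = p ^ (a + 1) := by
      have h1 := Weights.card_inf_ker hpp hexp ⊤ (b := a + 1) htop (χ b₀) (fun h => hb₀ ((hker1 b₀).1 h))
      rwa [top_inf_eq] at h1
    have hMeq : M = (univ.filter fun i => (χ b₀).ker ≤ (χ i).ker ∧ χ i ≠ 1).card := by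
      rw [← hMQ _ hQ]
      have h1 : (univ.filter fun i => (χ b₀).ker ≤ (χ i).ker ∧ χ i ≠ 1).card + c =
          (univ.filter fun i => (χ b₀).ker ≤ (χ i).ker).card := by
        rw [hc, ← Finset.card_union_of_disjoint]
        · congr 1
          ext i
          simp only [Finset.mem_union, Finset.mem_filter, Finset.mem_univ, true_and]
          constructor
          · rintro (h | h)
            · exact h.1
            · exact le_top.trans h
          · intro h
            by_cases h2 : χ i = 1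
            · exact Or.inr ((hker1 i).2 h2)
            · exact Or.inl ⟨h, h2⟩
        · rw [Finset.disjoint_left]
          intro i hi hi'
          exact (Finset.mem_filter.1 hi).2.2 ((hker1 i).1 (Finset.mem_filter.1 hi').2)
      omega
    let w : (ZMod p)ˣ → ℕ := fun u => (univ.filter fun i => χ i = (χ b₀) ^ (u : ZMod p).val).card
    have hl := char_pow (p := p) (K := K) hexp
    have hsum : ∑ u, w u = M := by
      have hex : ∀ i, ∃ u : (ZMod p)ˣ, ((χ b₀).ker ≤ (χ i).ker ∧ χ i ≠ 1) → χ i = (χ b₀) ^ (u : ZMod p).val := by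
        intro i
        by_cases h : (χ b₀).ker ≤ (χ i).ker ∧ χ i ≠ 1
        · obtain ⟨u, hu⟩ := exists_pow hexp hb₀ h.2 h.1
          exact ⟨u, fun _ => hu⟩
        · exact ⟨1, fun h' => absurd h' h⟩
      choose f hf using hex
      rw [hMeq, Finset.card_eq_sum_card_fiberwise (f := f) (t := univ) (fun _ _ => Finset.mem_coe.2 (Finset.mem_univ _))]
      refine Finset.sum_congr rfl fun u _ => ?_
      show (univ.filter fun i => χ i = (χ b₀) ^ (u : ZMod p).val).card = _
      congr 1
      ext i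
      simp only [Finset.mem_filter, Finset.mem_univ, true_and]
      constructor
      · intro h
        have h1 : (χ b₀).ker ≤ (χ i).ker := by
          intro x hx
          rw [MonoidHom.mem_ker] at hx ⊢
          rw [h, MonoidHom.pow_apply, hx, one_pow]
        have h2 : χ i ≠ 1 := by
          intro h3
          have h4 : (χ b₀) ^ (u : ZMod p).val = (χ b₀) ^ (0 : ZMod p).val := by
            rw [← h, h3, ZMod.val_zero, hpow_zero]
          exact u.ne_zero (pow_inj hexp hb₀ h4)
        refine ⟨⟨h1, h2⟩, ?_⟩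
        apply Units.ext
        apply pow_inj hexp hb₀
        rw [← hf i ⟨h1, h2⟩, h]
      · rintro ⟨h1, rfl⟩
        exact hf i h1
    have hw : ∀ g, ∀ u ∈ H, w (g * u) = w g := by
      intro g u hu
      obtain ⟨s, hs⟩ := hH u hu
      symm
      apply Finset.card_bij (fun i _ => s i)
      · intro i hi
        rw [Finset.mem_filter] at hi ⊢
        refine ⟨Finset.mem_univ _, ?_⟩
        rw [hs, hi.2, Units.val_mul, pow_val_mul (hl _)]
      · intro i _ j _ hij
        exact s.injective hij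
      · intro j hj
        rw [Finset.mem_filter] at hj
        refine ⟨s.symm j, ?_, s.apply_symm_apply j⟩
        rw [Finset.mem_filter]
        refine ⟨Finset.mem_univ _, ?_⟩
        have h1 := hs (s.symm j)
        rw [s.apply_symm_apply, hj.2, Units.val_mul, pow_val_mul (hl _)] at h1
        -- cancel the exponent
        have h2 : ∀ lam mu : E →* Kˣ, lam ^ (u : ZMod p).val = mu ^ (u : ZMod p).val → lam = mu := by
          intro lam mu h3
          have h4 := congrArg (fun z => z ^ ((u⁻¹ : (ZMod p)ˣ) : ZMod p).val) h3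
          rw [← pow_val_mul (hl _), ← pow_val_mul (hl _), ← Units.val_mul, mul_inv_cancel, Units.val_one] at h4
          have h5 : Fact (1 < p) := ⟨hpp.one_lt⟩
          rwa [ZMod.val_one, hpow_one, hpow_one] at h4
        exact (h2 _ _ h1).symm
    obtain ⟨g1, g2⟩ := card_dvd_sum H w hw
    rw [hsum] at g1 g2
    refine ⟨g1, ?_⟩
    have h3 := g2 1
    have h4 : w 1 = (univ.filter fun b => χ b = χ b₀).card := by
      show (univ.filter fun i => χ i = (χ b₀) ^ ((1 : (ZMod p)ˣ) : ZMod p).val).card = _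
      have h5 : Fact (1 < p) := ⟨hpp.one_lt⟩
      rw [Units.val_one, ZMod.val_one, hpow_one]
    rwa [h4] at h3
  refine ⟨c, M, ?_, f1, ?_, ?_⟩
  · rw [hc, Nat.card_eq_fintype_card, Fintype.card_subtype]
    congr 1
    ext i
    simp only [Finset.mem_filter, Finset.mem_univ, true_and]
    exact hker1 i
  · by_cases hex : ∃ b₀, χ b₀ ≠ 1
    · obtain ⟨b₀, hb₀⟩ := hex
      exact (main b₀ hb₀).1
    · push Not at hex
      have h1 : c = Fintype.card Φ := by
        rw [hc, Finset.filter_true_of_mem (fun i _ => (hker1 i).2 (hex i)), Finset.card_univ]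
      have h2 : M = 0 := by
        rw [h1] at f1
        have h3 : M * ∑ i ∈ range (a + 2), p ^ i = 0 := by omega
        exact (Nat.mul_eq_zero.1 h3).resolve_right hS.ne'
      rw [h2]
      exact dvd_zero _
  · intro b₀ hb₀
    have h1 := (main b₀ hb₀).2
    rw [Nat.card_eq_fintype_card (α := {b // χ b = χ b₀}), Fintype.card_subtype]
    exact h1

end Cfsg.Agent.H319.One.Comb
end

-- part: H319/One/RootC
section
/-!
# Counting the roots on the characters of an elementary abelian group of the torus (helper319, S4880)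

`FD cs h p q n Z X θ` : `E` elementary abelian of order `p ^ n`, `X b` (`b` in the root lattice) characters of `E`, additive in `b`,
`θ` an automorphism of the lattice preserving the roots with `X (θ b) = X b ^ q`, the number of the roots trivial on `x` is `Z` for
all `x ≠ 1`.

* `FD.main`: `|Φ| = c + M (1 + p + ... + p ^ (n - 1))`, `lcm (2, ord_p q) ∣ M`, `0 < M`, the fibres over nontrivial characters
  have at most `M / lcm (2, ord_p q)` elements;
* `FD.c_zero`: if the fibres have one element, then `c = 0` (irreducible root system).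
-/

set_option autoImplicit false
set_option linter.unusedSectionVars false

namespace Cfsg.Agent.H319.One.RootC

open CoxeterSystem Cfsg.Agent.ChevalleyStructure.CoxeterGeom Cfsg.Agent.Tits.Roots Cfsg.Agent.Tits.Core
  Cfsg.Agent.Nodes.Coroot Cfsg.Agent.H795.RootConn

variable {I W : Type*} [Fintype I] [DecidableEq I] [Group W] {M : CoxeterMatrix I}
  (cs : CoxeterSystem M W) {A : I → I → ℤ} (h : IsCartan M A)

/-- The data of a toral elementary abelian Sylow subgroup. -/
structure FD {E K : Type*} [CommGroup E] [Field K] (p q n Z : ℕ)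
    (X : (I → ℤ) → (E →* Kˣ)) (θ : (I → ℤ) ≃+ (I → ℤ)) : Prop where
  exp : ∀ x : E, x ^ p = 1
  card : Nat.card E = p ^ n
  add : ∀ b c x, X (b + c) x = X b x * X c x
  root : ∀ a, IsRoot cs h (θ a) ↔ IsRoot cs h a
  act : ∀ b x, X (θ b) x = X b x ^ q
  sep : ∀ x : E, x ≠ 1 → ∃ a, IsRoot cs h a ∧ X a x ≠ 1
  cst : ∀ x : E, x ≠ 1 → {a | IsRoot cs h a ∧ X a x = 1}.ncard = Z

variable {cs h}

section

variable {E K : Type*} [CommGroup E] [Field K] {p q n Z : ℕ} {X : (I → ℤ) → (E →* Kˣ)} {θ : (I → ℤ) ≃+ (I → ℤ)}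

theorem FD.zero (D : FD cs h p q n Z X θ) (x : E) : X 0 x = 1 := by
  have h1 := D.add 0 0 x
  rw [add_zero] at h1
  exact (mul_eq_left.1 h1.symm)

theorem FD.neg (D : FD cs h p q n Z X θ) (b : I → ℤ) (x : E) : X (-b) x = (X b x)⁻¹ := by
  have h1 := D.add (-b) b x
  rw [neg_add_cancel, D.zero] at h1
  exact eq_inv_of_mul_eq_one_left h1.symm

theorem FD.nsmul (D : FD cs h p q n Z X θ) (m : ℕ) (b : I → ℤ) (x : E) : X (m • b) x = X b x ^ m := by
  induction m with
  | zero => rw [zero_smul, D.zero, pow_zero]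
  | succ m ih => rw [succ_nsmul, D.add, ih, pow_succ]

theorem FD.zsmul (D : FD cs h p q n Z X θ) (m : ℤ) (b : I → ℤ) (x : E) : X (m • b) x = X b x ^ m := by
  obtain ⟨k, rfl | rfl⟩ := Int.eq_nat_or_neg m
  · rw [natCast_zsmul, D.nsmul, zpow_natCast]
  · rw [neg_smul, natCast_zsmul, D.neg, D.nsmul, zpow_neg, zpow_natCast]

/-- exponents modulo `p` -/
theorem pow_congr_mod {u : Kˣ} (hu : u ^ p = 1) {a b : ℕ} (hab : (a : ZMod p) = b) : u ^ a = u ^ b := by
  rw [ZMod.natCast_eq_natCast_iff'] at hab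
  rw [← Nat.mod_add_div a p, ← Nat.mod_add_div b p, pow_add, pow_add, pow_mul, pow_mul, hu, one_pow, one_pow, hab]

theorem FD.pow_p (D : FD cs h p q n Z X θ) (b : I → ℤ) (x : E) : X b x ^ p = 1 := by
  rw [← map_pow, D.exp, map_one]

/-- reflections in trivial roots -/
theorem FD.refl_eq (D : FD cs h p q n Z X θ) {b c : I → ℤ} (hc : X c = 1) (m : ℤ) : X (b - m • c) = X b := by
  refine MonoidHom.ext fun x => ?_
  rw [sub_eq_add_neg, D.add, D.neg, D.zsmul, hc]
  show X b x * ((1 : Kˣ) ^ m)⁻¹ = _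
  rw [one_zpow, inv_one, mul_one]

variable [hp : Fact p.Prime]

/-- the group of the multipliers -/
def mult (D : FD cs h p q n Z X θ) : Subgroup (ZMod p)ˣ where
  carrier := {u | ∃ g : Equiv.Perm {a // IsRoot cs h a}, ∀ b, X (g b).1 = (X b.1) ^ (u : ZMod p).val}
  one_mem' := by
    have h5 : Fact (1 < p) := ⟨hp.out.one_lt⟩
    exact ⟨1, fun b => by rw [Units.val_one, ZMod.val_one, Comb.hpow_one]; rfl⟩
  mul_mem' := by
    rintro u v ⟨g, hg⟩ ⟨k, hk⟩
    refine ⟨g * k, fun b => ?_⟩
    rw [Equiv.Perm.mul_apply, hg, hk, mul_comm u v, Units.val_mul, Comb.pow_val_mul (D.pow_p b.1)]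
  inv_mem' := by
    rintro u ⟨g, hg⟩
    refine ⟨g⁻¹, fun b => ?_⟩
    have h5 : Fact (1 < p) := ⟨hp.out.one_lt⟩
    have h1 := hg (g⁻¹ b)
    have e0 : g (g⁻¹ b) = b := g.apply_symm_apply b
    rw [e0] at h1
    rw [h1, ← Comb.pow_val_mul (D.pow_p _), ← Units.val_mul, mul_inv_cancel, Units.val_one, ZMod.val_one, Comb.hpow_one]

theorem neg_one_mem_mult (D : FD cs h p q n Z X θ) : (-1 : (ZMod p)ˣ) ∈ mult D := by
  refine ⟨⟨fun a => ⟨-a.1, a.2.neg⟩, fun a => ⟨-a.1, a.2.neg⟩, fun a => by simp, fun a => by simp⟩, fun b => ?_⟩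
  refine MonoidHom.ext fun x => ?_
  show X (-b.1) x = _
  rw [D.neg, MonoidHom.pow_apply]
  symm
  apply eq_inv_of_mul_eq_one_left
  rw [← pow_succ, ← pow_zero (X b.1 x)]
  apply pow_congr_mod (D.pow_p _ _)
  push_cast
  rw [ZMod.natCast_zmod_val]
  simp

theorem q_mem_mult (D : FD cs h p q n Z X θ) (hq : (q : ZMod p) ≠ 0) : Units.mk0 (q : ZMod p) hq ∈ mult D := by
  refine ⟨⟨fun a => ⟨θ a.1, (D.root _).2 a.2⟩, fun a => ⟨θ.symm a.1, by
    rw [← D.root, AddEquiv.apply_symm_apply]; exact a.2⟩, fun a => by simp, fun a => by simp⟩, fun b => ?_⟩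
  refine MonoidHom.ext fun x => ?_
  show X (θ b.1) x = _
  rw [D.act, MonoidHom.pow_apply, Units.val_mk0]
  apply pow_congr_mod (D.pow_p _ _)
  rw [ZMod.natCast_zmod_val]

theorem lcm_dvd_mult (D : FD cs h p q n Z X θ) (h3 : 3 ≤ p) (hq : (q : ZMod p) ≠ 0) :
    Nat.lcm 2 (orderOf (q : ZMod p)) ∣ Nat.card (mult D) := by
  apply Nat.lcm_dvd
  · have h1 : orderOf (-1 : (ZMod p)ˣ) = 2 := by
      apply orderOf_eq_prime
      · rw [neg_one_sq]
      · intro h2
        have h4 : Fact (2 < p) := ⟨by omega⟩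
        have h5 := congrArg (fun z : (ZMod p)ˣ => (z : ZMod p)) h2
        simp only [Units.val_neg, Units.val_one] at h5
        exact ZMod.neg_one_ne_one h5
    rw [← h1]
    exact Subgroup.orderOf_dvd_natCard _ (neg_one_mem_mult D)
  · have h1 : orderOf (Units.mk0 (q : ZMod p) hq) = orderOf (q : ZMod p) := by
      rw [← orderOf_units, Units.val_mk0]
    rw [← h1]
    exact Subgroup.orderOf_dvd_natCard _ (q_mem_mult D hq)

/-- **Counting the roots.** -/
theorem FD.main [Finite W] (D : FD cs h p q n Z X θ) (h3 : 3 ≤ p) (hn : 2 ≤ n) (hq : (q : ZMod p) ≠ 0) :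
    ∃ c m, c = {a | IsRoot cs h a ∧ X a = 1}.ncard ∧
      {a | IsRoot cs h a}.ncard = c + m * ∑ i ∈ Finset.range n, p ^ i ∧
      Nat.lcm 2 (orderOf (q : ZMod p)) ∣ m ∧ 0 < m ∧
      ∀ b₀, IsRoot cs h b₀ → X b₀ ≠ 1 →
        Nat.lcm 2 (orderOf (q : ZMod p)) * {a | IsRoot cs h a ∧ X a = X b₀}.ncard ≤ m := by
  classical
  obtain ⟨a, rfl⟩ : ∃ a, n = a + 2 := ⟨n - 2, by omega⟩
  have hfinE : Finite E := Nat.finite_of_card_ne_zero (by rw [D.card]; exact (Nat.pow_pos hp.out.pos).ne')
  have : Fintype E := Fintype.ofFinite E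
  have hfin : Finite {a // IsRoot cs h a} := Cfsg.Agent.Nodes.BNOf.RGD.finite_roots (cs := cs) (h := h)
  have : Fintype {a // IsRoot cs h a} := Fintype.ofFinite _
  have hconv : ∀ P : (I → ℤ) → Prop, Nat.card {b : {a // IsRoot cs h a} // P b.1} = {a | IsRoot cs h a ∧ P a}.ncard := by
    intro P
    rw [← Nat.card_coe_set_eq]
    exact Nat.card_congr (Equiv.subtypeSubtypeEquivSubtypeInter (fun a => IsRoot cs h a) P)
  obtain ⟨c, m, h1, h2, h4, h5⟩ := Comb.count (Φ := {a // IsRoot cs h a}) (Z := Z) D.exp D.card (fun b => X b.1)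
    (fun x hx => by
      rw [← D.cst x hx, ← hconv (fun a => X a x = 1), Nat.card_eq_fintype_card, Fintype.card_subtype])
    (mult D) (fun u hu => hu)
  have hL := lcm_dvd_mult D h3 hq
  have hL0 : 0 < Nat.card (mult D) := Nat.card_pos
  refine ⟨c, m, ?_, ?_, hL.trans h4, ?_, ?_⟩
  · rw [h1, ← hconv (fun a => X a = 1)]
  · rw [← h2, ← Nat.card_eq_fintype_card, ← Nat.card_coe_set_eq]
    rfl
  · -- a nontrivial root
    have h6 : 1 < Nat.card E := by
      rw [D.card]
      exact Nat.one_lt_pow (by omega) hp.out.one_lt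
    obtain ⟨x, hx⟩ : ∃ x : E, x ≠ 1 := by
      have : Nontrivial E := Finite.one_lt_card_iff_nontrivial.1 h6
      exact exists_ne 1
    obtain ⟨b, hb, hbx⟩ := D.sep x hx
    have h7 : X b ≠ 1 := fun h8 => hbx (by rw [h8]; rfl)
    have h8 := h5 ⟨b, hb⟩ h7
    have h9 : 0 < Nat.card {b' : {a // IsRoot cs h a} // X b'.1 = X b} := by
      have : Nonempty {b' : {a // IsRoot cs h a} // X b'.1 = X b} := ⟨⟨⟨b, hb⟩, rfl⟩⟩
      exact Nat.card_pos
    exact lt_of_lt_of_le (Nat.mul_pos hL0 h9) h8
  · intro b₀ hb₀ hne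
    have h8 := h5 ⟨b₀, hb₀⟩ hne
    refine le_trans (Nat.mul_le_mul ?_ ?_) h8
    · exact Nat.le_of_dvd hL0 hL
    · exact (hconv (fun a => X a = X b₀)).symm.le

/-- If the fibres have one element, then no root is trivial. -/
theorem FD.c_zero [Finite W] (D : FD cs h p q n Z X θ) (hn : 1 ≤ n) (hirr : IrrC cs h)
    (hf : ∀ b₀, IsRoot cs h b₀ → X b₀ ≠ 1 → {a | IsRoot cs h a ∧ X a = X b₀}.ncard ≤ 1) :
    ∀ a, IsRoot cs h a → X a ≠ 1 := by
  intro a ha h1
  have hfinR : {a | IsRoot cs h a}.Finite := Cfsg.Agent.Nodes.BNOf.RGD.finite_roots (cs := cs) (h := h)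
  have h6 : 1 < Nat.card E := by
    rw [D.card]
    exact Nat.one_lt_pow (by omega) hp.out.one_lt
  have hfinE : Finite E := Nat.finite_of_card_ne_zero (by omega)
  obtain ⟨x, hx⟩ : ∃ x : E, x ≠ 1 := by
    have : Nontrivial E := Finite.one_lt_card_iff_nontrivial.1 h6
    exact exists_ne 1
  obtain ⟨b, hb, hbx⟩ := D.sep x hx
  have h7 : X b ≠ 1 := fun h8 => hbx (by rw [h8]; rfl)
  refine hirr {b | IsRoot cs h b ∧ X b ≠ 1} {b | IsRoot cs h b ∧ X b = 1} (fun b hb => ?_) (fun b hb => hb.1)
    (fun b hb => hb.1) (fun b hb c hc => ?_) ⟨b, hb, h7⟩ ⟨a, ha, h1⟩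
  · by_cases h8 : X b = 1
    · exact Or.inr ⟨hb, h8⟩
    · exact Or.inl ⟨hb, h8⟩
  · by_contra hcon
    have h8 := hf b hb.1 hb.2
    have h9 : {a | IsRoot cs h a ∧ X a = X b}.Finite := hfinR.subset fun a ha => ha.1
    rw [Set.ncard_le_one h9] at h8
    have h10 := h8 b ⟨hb.1, rfl⟩ (b - cpr cs h b c • c) ⟨isRoot_refl cs h hb.1 hc.1, D.refl_eq hc.2 _⟩
    have h11 : cpr cs h b c • c = 0 := by
      have h12 : b - cpr cs h b c • c = b := h10.symm
      rwa [sub_eq_self] at h12
    rcases smul_eq_zero.1 h11 with h12 | h12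
    · exact hcon h12
    · exact hc.1.ne_zero h12

/-- injectivity on the roots -/
theorem FD.inj [Finite W] (D : FD cs h p q n Z X θ) (hn : 1 ≤ n) (hirr : IrrC cs h)
    (hf : ∀ b₀, IsRoot cs h b₀ → X b₀ ≠ 1 → {a | IsRoot cs h a ∧ X a = X b₀}.ncard ≤ 1) {a b : I → ℤ}
    (ha : IsRoot cs h a) (hb : IsRoot cs h b) (hab : X a = X b) : a = b := by
  have hfinR : {a | IsRoot cs h a}.Finite := Cfsg.Agent.Nodes.BNOf.RGD.finite_roots (cs := cs) (h := h)
  have h8 := hf b hb (D.c_zero hn hirr hf b hb)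
  have h9 : {a | IsRoot cs h a ∧ X a = X b}.Finite := hfinR.subset fun a ha => ha.1
  rw [Set.ncard_le_one h9] at h8
  exact h8 a ⟨ha, hab⟩ b ⟨hb, rfl⟩

end

/-- `W` acts trivially modulo `m` on the vectors in the radical of the form modulo `m`. -/
theorem rad (cs : CoxeterSystem M W) (h : IsCartan M A) {m : ℤ} {v : I → ℤ} (hv : ∀ i, m ∣ pairing A i v) (w : W) :
    ∀ j, m ∣ (rep cs h w v - v) j := by
  have key : ∀ w : W, ∃ u : I → ℤ, rep cs h w v = v + m • u := by
    intro w
    induction w using cs.simple_induction_left with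
    | one => exact ⟨0, by rw [map_one, Module.End.one_apply, smul_zero, add_zero]⟩
    | mul_simple_left w i ih =>
      obtain ⟨u, hu⟩ := ih
      obtain ⟨c, hc⟩ := hv i
      refine ⟨refl A i u - Pi.single i c, ?_⟩
      rw [rep_mul_apply, rep_simple, hu, map_add, map_smul, refl_apply A i v, hc, smul_sub]
      have e : (Pi.single i (m * c) : I → ℤ) = m • Pi.single i c := by
        rw [← Pi.single_smul, smul_eq_mul]
      rw [e]
      abel
  intro j
  obtain ⟨u, hu⟩ := key w
  rw [hu, add_sub_cancel_left]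
  exact ⟨u j, rfl⟩

end Cfsg.Agent.H319.One.RootC
end
end

-- part: H319/One/ExcRows_mg
section
prune_inst 0xc1001001082200000004050040003a8399000000000888000006020002008c0000000020000000000000000000000000000000a00000000000000000000100000000000000000000000000000000400000000000000000000000000000000000000000000
set_option linter.all false
open scoped Cfsg.Agent.FastGrp

-- part: H319/One/RootD
section
/-!
# Consequences of the count (helper319, S4880)

* `FD.cases`: `L = lcm (2, ord_p q)`: `|Φ| = L Σ` and `X` is injective on the roots, or `|Φ| = c + m Σ` with `m ≥ 2 L`;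
* `num`: the finite list of numerical possibilities;
* `FD.theta_one`, `FD.theta_neg_one`, `FD.theta_sq`: the lattice automorphism if `X` is injective on the roots;
* `FD.three_false`: three pairs of trivial roots with many nonorthogonal roots.
-/

set_option autoImplicit false
set_option linter.unusedSectionVars false

namespace Cfsg.Agent.H319.One.RootC

open CoxeterSystem Cfsg.Agent.ChevalleyStructure.CoxeterGeom Cfsg.Agent.Tits.Roots Cfsg.Agent.Tits.Core
  Cfsg.Agent.Nodes.Coroot Cfsg.Agent.H795.RootConn Cfsg.Agent.Nodes.PosPair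

variable {I W : Type*} [Fintype I] [DecidableEq I] [Group W] {M : CoxeterMatrix I}
  {cs : CoxeterSystem M W} {A : I → I → ℤ} {h : IsCartan M A}
  {E K : Type*} [CommGroup E] [Field K] {p q n Z : ℕ} {X : (I → ℤ) → (E →* Kˣ)} {θ : (I → ℤ) ≃+ (I → ℤ)}
  [hp : Fact p.Prime]

/-- **The two cases.** -/
theorem FD.cases [Finite W] (D : FD cs h p q n Z X θ) (h3 : 3 ≤ p) (hn : 2 ≤ n) (hq : (q : ZMod p) ≠ 0)
    (hirr : IrrC cs h) {N L : ℕ} (hN : {a | IsRoot cs h a}.ncard = N) (hL : L = Nat.lcm 2 (orderOf (q : ZMod p))) :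
    (L * ∑ i ∈ Finset.range n, p ^ i = N ∧ ∀ a b, IsRoot cs h a → IsRoot cs h b → X a = X b → a = b) ∨
    ∃ m, 2 * L ≤ m ∧ L ∣ m ∧ N = {a | IsRoot cs h a ∧ X a = 1}.ncard + m * ∑ i ∈ Finset.range n, p ^ i ∧
      ∀ b₀, IsRoot cs h b₀ → X b₀ ≠ 1 → L * {a | IsRoot cs h a ∧ X a = X b₀}.ncard ≤ m := by
  obtain ⟨c, m, h1, h2, h4, h5, h6⟩ := D.main h3 hn hq
  rw [← hL] at h4 h6
  have hL0 : 0 < L := Nat.pos_of_dvd_of_pos h4 h5
  by_cases hm : m = L
  · left
    have hf : ∀ b₀, IsRoot cs h b₀ → X b₀ ≠ 1 → {a | IsRoot cs h a ∧ X a = X b₀}.ncard ≤ 1 := by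
      intro b₀ hb₀ hne
      have h7 := h6 b₀ hb₀ hne
      rw [hm] at h7
      by_contra hcon
      push Not at hcon
      have h8 : L * 2 ≤ L * {a | IsRoot cs h a ∧ X a = X b₀}.ncard := Nat.mul_le_mul_left _ hcon
      omega
    have hc : c = 0 := by
      rw [h1]
      have h7 : {a | IsRoot cs h a ∧ X a = 1} = ∅ := by
        rw [Set.eq_empty_iff_forall_notMem]
        rintro a ⟨ha, ha1⟩
        exact D.c_zero (by omega) hirr hf a ha ha1
      rw [h7, Set.ncard_empty]
    refine ⟨?_, fun a b ha hb hab => D.inj (by omega) hirr hf ha hb hab⟩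
    rw [hN, hc, zero_add, hm] at h2
    exact h2.symm
  · right
    refine ⟨m, ?_, h4, ?_, h6⟩
    · obtain ⟨j, rfl⟩ := h4
      rcases Nat.lt_or_ge j 2 with hj | hj
      · interval_cases j
        · omega
        · exact absurd (mul_one L) hm
      · rw [mul_comm 2 L]
        exact Nat.mul_le_mul_left _ hj
    · rw [← h1, ← hN]
      exact h2

/-! ### the lattice automorphism -/

theorem FD.X_theta (D : FD cs h p q n Z X θ) {a b : I → ℤ} {j : ℤ} (hj : (q : ZMod p) = (j : ZMod p)) (hb : b = j • a) :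
    X (θ a) = X b := by
  refine MonoidHom.ext fun x => ?_
  rw [D.act, hb, D.zsmul, ← zpow_natCast]
  have hx := D.pow_p a x
  have h1 : ((q : ℤ) : ZMod p) = (j : ZMod p) := by exact_mod_cast hj
  rw [ZMod.intCast_eq_intCast_iff_dvd_sub] at h1
  obtain ⟨t, ht⟩ := h1
  have h2 : j = (q : ℤ) + (p : ℤ) * t := by linarith only [ht]
  rw [h2, zpow_add, zpow_mul, zpow_natCast, zpow_natCast, hx, one_zpow, mul_one]

theorem FD.theta_one (D : FD cs h p q n Z X θ) (hi : ∀ a b, IsRoot cs h a → IsRoot cs h b → X a = X b → a = b)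
    (hq : (q : ZMod p) = 1) {a : I → ℤ} (ha : IsRoot cs h a) : θ a = a :=
  hi _ _ ((D.root a).2 ha) ha (D.X_theta (j := 1) (by push_cast; exact hq) (by rw [one_smul]))

theorem FD.theta_neg_one (D : FD cs h p q n Z X θ)
    (hi : ∀ a b, IsRoot cs h a → IsRoot cs h b → X a = X b → a = b)
    (hq : (q : ZMod p) = -1) {a : I → ℤ} (ha : IsRoot cs h a) : θ a = -a :=
  hi _ _ ((D.root a).2 ha) ha.neg (D.X_theta (j := -1) (by push_cast; exact hq) (by rw [neg_one_smul]))

theorem FD.theta_sq (D : FD cs h p q n Z X θ)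
    (hi : ∀ a b, IsRoot cs h a → IsRoot cs h b → X a = X b → a = b)
    (hq : (q : ZMod p) * q = -1) {a : I → ℤ} (ha : IsRoot cs h a) : θ (θ a) = -a := by
  refine hi _ _ ((D.root _).2 ((D.root a).2 ha)) ha.neg ?_
  refine MonoidHom.ext fun x => ?_
  rw [D.act, D.act, ← pow_mul, D.neg]
  apply eq_inv_of_mul_eq_one_left
  rw [← pow_succ, ← pow_zero (X a x)]
  apply pow_congr_mod (D.pow_p _ _)
  push_cast
  rw [hq]
  simp

/-! ### many trivial roots -/

/-- Three pairs of trivial roots. -/
theorem FD.three_false [Finite W] (D : FD cs h p q n Z X θ) {N c B : ℕ} (hN : {a | IsRoot cs h a}.ncard = N)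
    (hc : {a | IsRoot cs h a ∧ X a = 1}.ncard = c)
    (hf : ∀ b₀, IsRoot cs h b₀ → X b₀ ≠ 1 → {a | IsRoot cs h a ∧ X a = X b₀}.ncard ≤ 2)
    (hB : ∀ y, IsRoot cs h y → {a | IsRoot cs h a ∧ cpr cs h a y ≠ 0}.ncard = B)
    (h4 : 4 < c) (hlt : N - c < 3 * (B - c)) : False := by
  classical
  have hfinR : {a | IsRoot cs h a}.Finite := Cfsg.Agent.Nodes.BNOf.RGD.finite_roots (cs := cs) (h := h)
  set Φ1 : Set (I → ℤ) := {a | IsRoot cs h a ∧ X a ≠ 1} with hΦ1
  set Φ0 : Set (I → ℤ) := {a | IsRoot cs h a ∧ X a = 1} with hΦ0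
  have f1 : Φ1.Finite := hfinR.subset fun a ha => ha.1
  have f0 : Φ0.Finite := hfinR.subset fun a ha => ha.1
  have hsum : Φ0.ncard + Φ1.ncard = N := by
    rw [← hN, ← Set.ncard_union_eq ?_ f0 f1]
    · congr 1
      ext a
      simp only [Set.mem_union, Set.mem_setOf_eq, hΦ0, hΦ1]
      (clear * -; tauto)
    · rw [Set.disjoint_left]
      intro a h1 h2
      exact h2.2 h1.2
  let Nn : (I → ℤ) → Set (I → ℤ) := fun y => {a | a ∈ Φ1 ∧ cpr cs h a y ≠ 0}
  have hNf : ∀ y, (Nn y).Finite := fun y => f1.subset fun a ha => ha.1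
  have hNc : ∀ y, IsRoot cs h y → B - c ≤ (Nn y).ncard := by
    intro y hy
    rw [← hB y hy, ← hc]
    have h1 : {a | IsRoot cs h a ∧ cpr cs h a y ≠ 0} ⊆ Nn y ∪ Φ0 := by
      rintro a ⟨ha, ha'⟩
      by_cases h2 : X a = 1
      · exact Or.inr ⟨ha, h2⟩
      · exact Or.inl ⟨⟨ha, h2⟩, ha'⟩
    have h2 := (Set.ncard_le_ncard h1 ((hNf y).union f0)).trans (Set.ncard_union_le _ _)
    omega
  -- disjointness
  have hdis : ∀ y z, y ∈ Φ0 → z ∈ Φ0 → y ≠ z → y ≠ -z → Disjoint (Nn y) (Nn z) := by
    intro y z hy hz h1 h2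
    rw [Set.disjoint_left]
    rintro b ⟨hb, hby⟩ ⟨-, hbz⟩
    have h5 := hf b hb.1 hb.2
    have h6 : ({b, b - cpr cs h b y • y, b - cpr cs h b z • z} : Set (I → ℤ)) ⊆ {a | IsRoot cs h a ∧ X a = X b} := by
      intro a ha
      simp only [Set.mem_insert_iff, Set.mem_singleton_iff] at ha
      rcases ha with rfl | rfl | rfl
      · exact ⟨hb.1, rfl⟩
      · exact ⟨isRoot_refl cs h hb.1 hy.1, D.refl_eq hy.2 _⟩
      · exact ⟨isRoot_refl cs h hb.1 hz.1, D.refl_eq hz.2 _⟩
    have h7 := Set.ncard_le_ncard h6 (hfinR.subset fun a ha => ha.1)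
    have h8 : ({b, b - cpr cs h b y • y, b - cpr cs h b z • z} : Set (I → ℤ)).ncard = 3 := by
      rw [Set.ncard_eq_three]
      refine ⟨_, _, _, ?_, ?_, ?_, rfl⟩
      · intro h9
        have h10 : cpr cs h b y • y = 0 := by
          rwa [eq_comm, sub_eq_self] at h9
        exact (smul_eq_zero.1 h10).elim hby hy.1.ne_zero
      · intro h9
        have h10 : cpr cs h b z • z = 0 := by
          rwa [eq_comm, sub_eq_self] at h9
        exact (smul_eq_zero.1 h10).elim hbz hz.1.ne_zero
      · intro h9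
        have h10 : cpr cs h b y • y = cpr cs h b z • z := sub_right_injective h9
        rcases eq_or_eq_neg_of_smul cs h hy.1 hz.1 hby h10 with h11 | h11
        · exact h1 h11
        · exact h2 h11
    omega
  -- three pairs
  obtain ⟨y1, hy1⟩ : ∃ y, y ∈ Φ0 := by
    have : Φ0.Nonempty := by
      rw [Set.nonempty_iff_ne_empty]
      intro h0
      rw [h0, Set.ncard_empty] at hc
      omega
    exact this
  have hex : ∀ s : Finset (I → ℤ), s.card ≤ 4 → ∃ y ∈ Φ0, y ∉ s := by
    intro s hs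
    by_contra hcon
    push Not at hcon
    have h1 : Φ0 ⊆ (s : Set (I → ℤ)) := fun y hy => hcon y hy
    have h2 := Set.ncard_le_ncard h1 s.finite_toSet
    rw [Set.ncard_coe_finset, hc] at h2
    omega
  obtain ⟨y2, hy2, hy2'⟩ := hex {y1, -y1} (Finset.card_le_two.trans (by norm_num))
  obtain ⟨y3, hy3, hy3'⟩ := hex {y1, -y1, y2, -y2} Finset.card_le_four
  simp only [Finset.mem_insert, Finset.mem_singleton, not_or] at hy2' hy3'
  have d12 := hdis y2 y1 hy2 hy1 hy2'.1 hy2'.2
  have d13 := hdis y3 y1 hy3 hy1 hy3'.1 hy3'.2.1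
  have d23 := hdis y3 y2 hy3 hy2 hy3'.2.2.1 hy3'.2.2.2
  have h5 : (Nn y1 ∪ Nn y2 ∪ Nn y3).ncard = (Nn y1).ncard + (Nn y2).ncard + (Nn y3).ncard := by
    rw [Set.ncard_union_eq ?_ ((hNf _).union (hNf _)) (hNf _), Set.ncard_union_eq d12.symm (hNf _) (hNf _)]
    exact Set.disjoint_union_left.2 ⟨d13.symm, d23.symm⟩
  have h6 : (Nn y1 ∪ Nn y2 ∪ Nn y3).ncard ≤ Φ1.ncard := by
    refine Set.ncard_le_ncard ?_ f1
    rintro a ((ha | ha) | ha) <;> exact ha.1
  have := hNc y1 hy1.1
  have := hNc y2 hy2.1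
  have := hNc y3 hy3.1
  omega

/-- The number of the roots nonorthogonal to a root. -/
theorem ncard_nonorth [Finite W] {B : ℕ} (hB : ∀ i, {a | IsRoot cs h a ∧ pairing A i a ≠ 0}.ncard = B) {y : I → ℤ}
    (hy : IsRoot cs h y) : {a | IsRoot cs h a ∧ cpr cs h a y ≠ 0}.ncard = B := by
  obtain ⟨w, i, rfl⟩ := hy
  rw [← hB i]
  symm
  refine Set.ncard_congr (fun a _ => rep cs h w a) ?_ ?_ ?_
  · rintro a ⟨ha, ha'⟩
    refine ⟨ha.act w, ?_⟩
    rw [cpr_rep cs h w a (isRoot_sr cs h i), cpr_sr]
    exact ha'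
  · intro a b _ _ hab
    exact rep_injective_apply cs h w hab
  · rintro b ⟨hb, hb'⟩
    refine ⟨rep cs h w⁻¹ b, ⟨hb.act _, ?_⟩, rep_apply_inv cs h w b⟩
    rw [← cpr_sr cs h, ← cpr_rep cs h w _ (isRoot_sr cs h i), rep_apply_inv]
    exact hb'

end Cfsg.Agent.H319.One.RootC

/-! ### numbers -/

namespace Cfsg.Agent.H319.One.Num

/-- `p < 121` is a prime -/
def pr (p : ℕ) : Bool := (p % 2 != 0) && (p % 3 != 0) && (p % 5 != 0 || p == 5) && (p % 7 != 0 || p == 7)

/-- `1 + p + ... ` -/
def sg (n p : ℕ) : ℕ := if n = 2 then 1 + p else 1 + p + p * p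

def cond (N n p d : ℕ) : Bool :=
  (2 ≤ n : Bool) && (5 ≤ p : Bool) && (p != 5 || n == 3) && d != 0 && ((p - 1) % d == 0) && pr p &&
    (Nat.lcm 2 d * sg n p == N || (2 * Nat.lcm 2 d * sg n p ≤ N : Bool))

def chk (N : ℕ) (P : ℕ → ℕ → ℕ → Bool) : Bool :=
  (List.range 4).all fun n => (List.range 120).all fun p => (List.range 31).all fun d => !(cond N n p d) || P p d n

theorem pr_of_prime {p : ℕ} (hp : p.Prime) (h5 : 5 ≤ p) : pr p = true := by
  have key : ∀ q : ℕ, q ≠ 1 → (p % q ≠ 0 ∨ p = q) := by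
    intro q hq
    by_cases h : p % q = 0
    · right
      rcases (Nat.dvd_prime hp).1 (Nat.dvd_of_mod_eq_zero h) with h1 | h1
      · exact absurd h1 hq
      · exact h1.symm
    · exact Or.inl h
  have h2 := key 2 (by norm_num)
  have h3 := key 3 (by norm_num)
  have h5' := key 5 (by norm_num)
  have h7 := key 7 (by norm_num)
  simp only [pr, Bool.and_eq_true, Bool.or_eq_true, bne_iff_ne, ne_eq, beq_iff_eq]
  refine ⟨⟨⟨?_, ?_⟩, h5'⟩, h7⟩
  · rcases h2 with h | h
    · exact h
    · omega
  · rcases h3 with h | h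
    · exact h
    · omega

/-- **The finite list.** -/
theorem num {N p n d L : ℕ} (hN : N ≤ 240) (hp : p.Prime) (h5 : 5 ≤ p) (hn : 2 ≤ n) (hn5 : p = 5 → 3 ≤ n)
    (hd : d ∣ p - 1) (hL : L = Nat.lcm 2 d)
    (h : L * ∑ i ∈ Finset.range n, p ^ i = N ∨ 2 * L * ∑ i ∈ Finset.range n, p ^ i ≤ N)
    {P : ℕ → ℕ → ℕ → Bool} (hP : chk N P = true) : P p d n = true := by
  have hd0 : 0 < d := Nat.pos_of_dvd_of_pos hd (by omega)
  have hL2 : 2 ≤ L := by
    rw [hL]
    exact Nat.le_of_dvd (Nat.lcm_pos (by norm_num) hd0) (Nat.dvd_lcm_left 2 d)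
  have hdL : d ≤ L := by
    rw [hL]
    exact Nat.le_of_dvd (Nat.lcm_pos (by norm_num) hd0) (Nat.dvd_lcm_right 2 d)
  have hle : L * ∑ i ∈ Finset.range n, p ^ i ≤ 240 := by
    rcases h with h | h
    · omega
    · have : L * ∑ i ∈ Finset.range n, p ^ i ≤ 2 * L * ∑ i ∈ Finset.range n, p ^ i :=
        Nat.mul_le_mul_right _ (by omega)
      omega
  have hS : ∑ i ∈ Finset.range n, p ^ i ≤ 120 := by
    by_contra hcon
    push Not at hcon
    have : 2 * 121 ≤ L * ∑ i ∈ Finset.range n, p ^ i := Nat.mul_le_mul hL2 hcon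
    omega
  have hn4 : n < 4 := by
    by_contra hcon
    push Not at hcon
    have h1 : ∑ i ∈ Finset.range 4, p ^ i ≤ ∑ i ∈ Finset.range n, p ^ i :=
      Finset.sum_le_sum_of_subset (Finset.range_subset_range.2 hcon)
    have h2 : p ^ 3 ≤ ∑ i ∈ Finset.range 4, p ^ i :=
      Finset.single_le_sum (f := fun i => p ^ i) (fun i _ => Nat.zero_le _) (Finset.mem_range.2 (by norm_num))
    have h3 : 5 ^ 3 ≤ p ^ 3 := Nat.pow_le_pow_left h5 3
    omega
  have hsg : ∑ i ∈ Finset.range n, p ^ i = sg n p := by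
    have h1 : n = 2 ∨ n = 3 := by omega
    rcases h1 with rfl | rfl
    · rw [Finset.sum_range_succ, Finset.sum_range_succ, Finset.sum_range_zero]
      simp [sg]
    · rw [Finset.sum_range_succ, Finset.sum_range_succ, Finset.sum_range_succ, Finset.sum_range_zero]
      simp [sg]
      ring
  have hp120 : p < 120 := by
    have h1 : ∑ i ∈ Finset.range 2, p ^ i ≤ ∑ i ∈ Finset.range n, p ^ i :=
      Finset.sum_le_sum_of_subset (Finset.range_subset_range.2 hn)
    have h2 : ∑ i ∈ Finset.range 2, p ^ i = 1 + p := by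
      rw [Finset.sum_range_succ, Finset.sum_range_succ, Finset.sum_range_zero]
      simp
    omega
  have hS8 : 8 ≤ ∑ i ∈ Finset.range n, p ^ i := by
    have h1 : ∑ i ∈ Finset.range 2, p ^ i ≤ ∑ i ∈ Finset.range n, p ^ i :=
      Finset.sum_le_sum_of_subset (Finset.range_subset_range.2 hn)
    have h2 : ∑ i ∈ Finset.range 2, p ^ i = 1 + p := by
      rw [Finset.sum_range_succ, Finset.sum_range_succ, Finset.sum_range_zero]
      simp
    by_cases h7 : 7 ≤ p
    · omega
    · have h6 : p ≠ 6 := by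
        rintro rfl
        exact absurd hp (by norm_num)
      have h8 := hn5 (by omega)
      have h9 : n = 3 := by omega
      rw [hsg, h9, show p = 5 by omega]
      decide
  have hd121 : d < 31 := by
    have h1 : L * 8 ≤ L * ∑ i ∈ Finset.range n, p ^ i := Nat.mul_le_mul_left _ hS8
    omega
  rw [chk, List.all_eq_true] at hP
  have h1 := hP n (List.mem_range.2 hn4)
  rw [List.all_eq_true] at h1
  have h2 := h1 p (List.mem_range.2 hp120)
  rw [List.all_eq_true] at h2
  have h3 := h2 d (List.mem_range.2 hd121)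
  have hc : cond N n p d = true := by
    rw [hsg, hL] at h
    simp only [cond, Bool.and_eq_true, Bool.or_eq_true, bne_iff_ne, ne_eq, beq_iff_eq, decide_eq_true_eq]
    refine ⟨⟨⟨⟨⟨⟨hn, h5⟩, ?_⟩, hd0.ne'⟩, Nat.mod_eq_zero_of_dvd hd⟩, pr_of_prime hp h5⟩, h⟩
    by_cases h6 : p = 5
    · right
      have := hn5 h6
      omega
    · exact Or.inl h6
  rw [hc] at h3
  simpa using h3

end Cfsg.Agent.H319.One.Num
end

-- part: H319/One/Chk
section
/-!
# The numerical lists for 12, 24, 48, 72, 126, 240 roots (helper319, S4880)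
-/

set_option autoImplicit false

namespace Cfsg.Agent.H319.One.Num

theorem c12 : chk 12 (fun _ _ _ => false) = true := by (delta Cfsg.Agent.H319.One.Num.chk Cfsg.Agent.H319.One.Num.cond Cfsg.Agent.H319.One.Num.pr Cfsg.Agent.H319.One.Num.sg; set_option synthInstance.maxSize 100000 in exact Cfsg.Agent.Lib.Refl.of (by decide +kernel))

theorem c24 : chk 24 (fun p d n => (d == 1 || d == 2) && p == 11 && n == 2) = true := by (delta Cfsg.Agent.H319.One.Num.chk Cfsg.Agent.H319.One.Num.cond Cfsg.Agent.H319.One.Num.pr Cfsg.Agent.H319.One.Num.sg; set_option synthInstance.maxSize 100000 in exact Cfsg.Agent.Lib.Refl.of (by decide +kernel))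

theorem c48 : chk 48 (fun p d n => ((d == 1 || d == 2) && (n < 4 : Bool)) ||
    (p == 7 && (d == 3 || d == 6) && n == 2)) = true := by (delta Cfsg.Agent.H319.One.Num.chk Cfsg.Agent.H319.One.Num.cond Cfsg.Agent.H319.One.Num.pr Cfsg.Agent.H319.One.Num.sg; set_option synthInstance.maxSize 100000 in exact Cfsg.Agent.Lib.Refl.of (by decide +kernel))

theorem c72 : chk 72 (fun p d n => ((d == 1 || d == 2) && (n < 4 : Bool)) || (p == 17 && d == 4 && n == 2)) = true := by
  (delta Cfsg.Agent.H319.One.Num.chk Cfsg.Agent.H319.One.Num.cond Cfsg.Agent.H319.One.Num.pr Cfsg.Agent.H319.One.Num.sg; set_option synthInstance.maxSize 100000 in exact Cfsg.Agent.Lib.Refl.of (by decide +kernel))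

theorem c126 : chk 126 (fun p d n => ((d == 1 || d == 2) && (n < 4 : Bool)) || ((d == 3 || d == 6) && n == 2) ||
    (p == 13 && d == 4 && n == 2)) = true := by (delta Cfsg.Agent.H319.One.Num.chk Cfsg.Agent.H319.One.Num.cond Cfsg.Agent.H319.One.Num.pr Cfsg.Agent.H319.One.Num.sg; set_option synthInstance.maxSize 100000 in exact Cfsg.Agent.Lib.Refl.of (by decide +kernel))

theorem c240 : chk 240 (fun p d n => ((d == 1 || d == 2) && (n < 4 : Bool)) || ((d == 3 || d == 6 || d == 4) && n == 2) ||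
    p == 5 || (p == 11 && (d == 5 || d == 10) && n == 2)) = true := by (delta Cfsg.Agent.H319.One.Num.chk Cfsg.Agent.H319.One.Num.cond Cfsg.Agent.H319.One.Num.pr Cfsg.Agent.H319.One.Num.sg; set_option synthInstance.maxSize 100000 in exact Cfsg.Agent.Lib.Refl.of (by decide +kernel))

end Cfsg.Agent.H319.One.Num

namespace Cfsg.Agent.H319.One.RootC

open CoxeterSystem Cfsg.Agent.ChevalleyStructure.CoxeterGeom Cfsg.Agent.Tits.Roots Cfsg.Agent.Tits.Core
  Cfsg.Agent.Nodes.Coroot Cfsg.Agent.H795.RootConn Cfsg.Agent.Nodes.PosPair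

variable {I W : Type*} [Fintype I] [DecidableEq I] [Group W] {M : CoxeterMatrix I}
  {cs : CoxeterSystem M W} {A : I → I → ℤ} {h : IsCartan M A}
  {E K : Type*} [CommGroup E] [Field K] {p q n Z : ℕ} {X : (I → ℤ) → (E →* Kˣ)} {θ : (I → ℤ) ≃+ (I → ℤ)}
  [hp : Fact p.Prime]

/-- **The list of the numerical possibilities.** -/
theorem FD.list [Finite W] (D : FD cs h p q n Z X θ) (h5 : 5 ≤ p) (hn : 2 ≤ n) (hn5 : p = 5 → 3 ≤ n)
    (hq : (q : ZMod p) ≠ 0) (hirr : IrrC cs h) {N : ℕ} (hN : {a | IsRoot cs h a}.ncard = N) (hN240 : N ≤ 240)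
    {P : ℕ → ℕ → ℕ → Bool} (hP : Num.chk N P = true) : P p (orderOf (q : ZMod p)) n = true := by
  refine Num.num hN240 hp.out h5 hn hn5 (ZMod.orderOf_dvd_card_sub_one hq) rfl ?_ hP
  rcases D.cases (by omega) hn hq hirr hN rfl with ⟨h1, -⟩ | ⟨m, h1, -, h2, -⟩
  · exact Or.inl h1
  · right
    have h3 : 2 * Nat.lcm 2 (orderOf (q : ZMod p)) * ∑ i ∈ Finset.range n, p ^ i ≤ m * ∑ i ∈ Finset.range n, p ^ i :=
      Nat.mul_le_mul_right _ h1
    omega

end Cfsg.Agent.H319.One.RootC
end

-- part: H319/One/FrameE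
section
/-!
# The root data of a toral Sylow subgroup (helper319, S4880)

`exists_FD`: `Setup`, torality and `Hyp` give `FD`.
-/

set_option autoImplicit false
set_option linter.unusedSectionVars false

namespace Cfsg.Agent.H319.One.FrameE

open CoxeterSystem Cfsg Cfsg.Lie Cfsg.Lie.ChevalleyDatum
open Cfsg.Agent.ChevalleyStructure Cfsg.Agent.ChevalleyStructure.Elts Cfsg.Agent.ChevalleyStructure.CoxeterGeom
  Cfsg.Agent.ChevalleyStructure.CoxeterGeomTypes Cfsg.Agent.ChevalleyStructure.NPerm
open Cfsg.Agent.Tits.Roots Cfsg.Agent.Tits.Core Cfsg.Agent.Nodes Cfsg.Agent.Nodes.Reps Cfsg.Agent.Nodes.BNOf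
  Cfsg.Agent.Nodes.RGDChev Cfsg.Agent.Nodes.Bruhat
open Cfsg.Agent.KFacts.RgdField Cfsg.Agent.KFacts.RgdChevCoord Cfsg.Agent.BpExc.TorCent Cfsg.Agent.BpExc.TorChev
open Cfsg.Agent.GpExc.Field Cfsg.Agent.BpExc.Tow Cfsg.Agent.BpExc.TowChev Cfsg.Agent.BpExc.Fr
  Cfsg.Agent.BpExc.LangFr Cfsg.Agent.H795.SetCent Cfsg.Agent.H795.Toral Cfsg.Agent.H795.Core
  Cfsg.Agent.H795.RootConn Cfsg.Agent.H795.SetTor Cfsg.Agent.H129.TorusChar Cfsg.Agent.H795.Reduce

universe u v

variable {D : ChevalleyDatum} {l : ℕ} {M : CoxeterMatrix (Fin l)} (hp : IsType D l M)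
  {k : Type u} [Field k] [IsAlgClosed k] (hk : LocFin k) {r : ℕ} [Fact r.Prime] [CharP k r]
  {G : Type v} [Group G] [Finite G] {p e n : ℕ} [hpp : Fact p.Prime] {f : G →* ↥(D.group k)}
  {σ : MulAut ↥(D.group k)} {g : (Fin l → ℤ) ≃+ (Fin l → ℤ)}

include hk in
/-- **The root data.** -/
theorem exists_FD (h : Setup hp p r e f σ g) (hpr : p ≠ r) (htor : Tor p f) (hyp : Hyp p n G) :
    ∃ (w : M.Group) (E : Type v) (_ : CommGroup E) (X : (Fin l → ℤ) → (E →* kˣ)) (Z : ℕ),
      RootC.FD M.toCoxeterSystem hp.isCartan p (r ^ e) n Z X (g.trans (repAut M.toCoxeterSystem hp.isCartan w)) := by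
  classical
  obtain ⟨S⟩ : Nonempty (Sylow p G) := inferInstance
  have hcomm : ∀ a ∈ (S : Subgroup G), ∀ b ∈ (S : Subgroup G), a * b = b * a := hyp.comm S S.2
  have hS : IsMulCommutative (S : Subgroup G) := ⟨⟨fun a b => Subtype.ext (hcomm a a.2 b b.2)⟩⟩
  obtain ⟨z, hz⟩ := htor S hS
  obtain ⟨y, a, w, h1, h2, h3, h4, -⟩ := exists_frame hp hk r h.inj h.e_pos h.frob h.fr h.fix (p := p) h.p_mem S
    ⟨z⁻¹, fun x hx => by rw [inv_inv]; exact hz x hx⟩
  let cg : CommGroup ↥(S : Subgroup G) :=
    { (inferInstance : Group ↥(S : Subgroup G)) with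
      mul_comm := fun a b => Subtype.ext (hcomm a a.2 b b.2) }
  let F : ↥(S : Subgroup G) → ↥(D.group k) := fun x => cf f y a x
  have hF : ∀ x, F x ∈ TT D k := fun x => h1 x x.2
  have hF1 : F 1 = 1 := map_one (cf f y a)
  have hFm : ∀ x x', F (x * x') = F x * F x' := fun x x' => map_mul (cf f y a) _ _
  let X : (Fin l → ℤ) → (↥(S : Subgroup G) →* kˣ) := fun b =>
    { toFun := fun x => Units.mk0 (cX hp (F x) b) ((isMC_cX hp (hF x)).ne_zero b)
      map_one' := by
        apply Units.ext
        rw [Units.val_mk0, hF1, cX_one]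
        rfl
      map_mul' := fun x x' => by
        apply Units.ext
        rw [Units.val_mk0, hFm, cX_mul hp (hF x) (hF x')]
        rfl }
  have hX : ∀ b x, ((X b x : kˣ) : k) = cX hp (F x) b := fun b x => rfl
  have hX1 : ∀ b x, X b x = 1 ↔ cX hp (F x) b = 1 := by
    intro b x
    rw [← hX]
    exact Units.val_eq_one.symm
  have hexp : ∀ x : ↥(S : Subgroup G), x ^ p = 1 := by
    intro x
    obtain ⟨j, hj⟩ := S.2 x
    exact Subtype.ext (hyp.exp (x : G) j (congrArg Subtype.val hj))
  have hord : ∀ x : ↥(S : Subgroup G), x ≠ 1 → orderOf (x : G) = p := fun x hx =>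
    hyp.order_of_mem S.2 x.2 fun h5 => hx (Subtype.ext h5)
  have hset : ∀ x, {b | IsRoot M.toCoxeterSystem hp.isCartan b ∧ X b x = 1} =
      {b | IsRoot M.toCoxeterSystem hp.isCartan b ∧ ch hp b (F x) = 1} := by
    intro x
    ext b
    constructor
    · rintro ⟨hb, hbx⟩
      refine ⟨hb, ?_⟩
      rw [← cX_root hp M.toCoxeterSystem (hF x) hb]
      exact (hX1 b x).1 hbx
    · rintro ⟨hb, hbx⟩
      refine ⟨hb, (hX1 b x).2 ?_⟩
      rw [cX_root hp M.toCoxeterSystem (hF x) hb]
      exact hbx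
  have hcf : ∀ x : ↥(S : Subgroup G), ((f a)⁻¹ * y)⁻¹ * f x * ((f a)⁻¹ * y) = F x := by
    intro x
    show _ = cf f y a x
    rw [cf_apply, map_mul, map_mul, map_inv]
    group
  obtain ⟨x0, hx0⟩ : ∃ x : ↥(S : Subgroup G), x ≠ 1 := by
    have h5 : 1 < Nat.card ↥(S : Subgroup G) := by
      rw [hyp.card S]
      exact Nat.one_lt_pow (by have := hyp.two; omega) hpp.out.one_lt
    have : Nontrivial ↥(S : Subgroup G) := Finite.one_lt_card_iff_nontrivial.1 h5
    exact exists_ne 1
  refine ⟨w, ↥(S : Subgroup G), cg, X, {b | IsRoot M.toCoxeterSystem hp.isCartan b ∧ X b x0 = 1}.ncard, ?_⟩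
  exact
    { exp := hexp
      card := hyp.card S
      add := fun b c x => by
        apply Units.ext
        rw [Units.val_mul, hX, hX, hX]
        exact (isMC_cX hp (hF x)).add b c
      root := h4.root
      act := fun b x => by
        apply Units.ext
        rw [Units.val_pow_eq_pow_val, hX, hX]
        have h5 := cX_sigma hp M.toCoxeterSystem h3 h4 (hF x) b
        have h6 : ct σ y (F x) = F x := h2 x
        rw [h6] at h5
        exact h5
      sep := fun x hx => by
        by_contra hcon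
        push Not at hcon
        apply hx
        have h5 : F x = 1 := by
          refine cX_inj hp (hF x) (one_mem _) fun i => ?_
          rw [cX_one]
          exact (hX1 _ x).1 (hcon _ (isRoot_sr _ _ i))
        have h6 : cf f y a (x : G) = cf f y a 1 := by
          rw [map_one]
          exact h5
        exact Subtype.ext (cf_injective h.inj y a h6)
      cst := fun x hx => by
        rw [hset, hset]
        exact Cfsg.Agent.H461.E2.Cent.ncard_eq hk h hpp.out hpr hyp.one (hord x hx) (hord x0 hx0) (hcf x) (hF x)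
          (hcf x0) (hF x0) }

end Cfsg.Agent.H319.One.FrameE
end

-- part: H319/One/ExcRows
section
/-!
# The rows of the exceptional groups in cross characteristic (helper319, S4880)

`g2_false`, `d4_false`, `td4_false`, `e6_false`, `te6_false`, `e7_false`, `f4_row` (`p = 7`), `e8_row` (`p = 11`).
-/

set_option autoImplicit false
set_option linter.unusedSectionVars false

namespace Cfsg.Agent.H319.One.ExcRows

open CoxeterSystem Cfsg Cfsg.Lie Cfsg.Lie.ChevalleyDatum
open Cfsg.Agent.ChevalleyStructure Cfsg.Agent.ChevalleyStructure.Elts Cfsg.Agent.ChevalleyStructure.CoxeterGeom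
  Cfsg.Agent.ChevalleyStructure.CoxeterGeomTypes Cfsg.Agent.ChevalleyStructure.NPerm
open Cfsg.Agent.Tits.Roots Cfsg.Agent.Tits.Core Cfsg.Agent.Nodes Cfsg.Agent.Nodes.Reps Cfsg.Agent.Nodes.BNOf
  Cfsg.Agent.Nodes.RGDChev Cfsg.Agent.Nodes.Bruhat Cfsg.Agent.Nodes.Coroot
open Cfsg.Agent.KFacts.RgdField Cfsg.Agent.KFacts.RgdChevCoord Cfsg.Agent.BpExc.TorCent Cfsg.Agent.BpExc.TorChev
open Cfsg.Agent.GpExc.Field Cfsg.Agent.BpExc.Tow Cfsg.Agent.BpExc.TowChev Cfsg.Agent.BpExc.Fr
  Cfsg.Agent.BpExc.LangFr Cfsg.Agent.H795.SetCent Cfsg.Agent.H795.Toral Cfsg.Agent.H795.Core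
  Cfsg.Agent.H795.RootConn Cfsg.Agent.H795.SetTor Cfsg.Agent.H129.TorusChar Cfsg.Agent.H129.TorusUntw
  Cfsg.Agent.H795.Untw Cfsg.Agent.H795.RowsA Cfsg.Agent.BpExc Cfsg.Agent.BpExc.RowsUntw Cfsg.Agent.H720.TwFr
  Cfsg.Agent.H795.Tw

universe u v

section

variable {D : ChevalleyDatum} {l : ℕ} {M : CoxeterMatrix (Fin l)} (hp : IsType D l M) {p n : ℕ} [hpp : Fact p.Prime]

/-- The number of the roots. -/
theorem ncard_isRoot {W : Type*} [Group W] (cs : CoxeterSystem M W) :
    {a | IsRoot cs hp.isCartan a}.ncard = D.nroots := by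
  have h1 : {a | IsRoot cs hp.isCartan a} = (fun r => vec D l r) '' ((Finset.range D.nroots : Finset ℕ) : Set ℕ) := by
    ext x
    simp only [Set.mem_image, Finset.mem_coe, Finset.mem_range]
    constructor
    · intro hx
      obtain ⟨r, hr, rfl⟩ := (isRoot_iff hp cs x).1 hx
      exact ⟨r, hr, rfl⟩
    · rintro ⟨r, hr, rfl⟩
      exact isRoot_vec hp cs hr
  rw [h1, Set.InjOn.ncard_image, Set.ncard_coe_finset, Finset.card_range]
  intro r hr s hs e
  exact vec_inj hp (Finset.mem_range.1 hr) (Finset.mem_range.1 hs) e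

/-- The root data of the untwisted groups. -/
theorem untw {F : Type u} [Field F] [Fintype F] (hpF : (p : F) ≠ 0)
    {d : ℕ} {B : Fin l → Fin l → ℤ}
    (hB : InvC D l d B) (hd : d ≠ 0) (hd1 : d = 1 ∨ d.Prime) (hpd : ¬ p ∣ d) (hW : ¬ p ^ 2 ∣ Nat.card M.Group)
    (hT : Tors M.toCoxeterSystem hp.isCartan p) (hyp : Hyp p n ↥(D.group F)) :
    ∃ (k : Type u) (_ : Field k) (w : M.Group) (E : Type u) (_ : CommGroup E) (X : (Fin l → ℤ) → (E →* kˣ)) (Z : ℕ),
      RootC.FD M.toCoxeterSystem hp.isCartan p (Fintype.card F) n Z X (repAut M.toCoxeterSystem hp.isCartan w) ∧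
      ((Fintype.card F : ℕ) : ZMod p) ≠ 0 := by
  obtain ⟨r, e, hr, hrF, hrk, he, hq, hk⟩ := _root_.Cfsg.Agent.H129.TorusUntw.exists_closure (F := F) rfl
  have hpr : p ≠ r := by
    rintro rfl
    exact hpF (CharP.cast_eq_zero F p)
  have hset := setup_untw hp hk (algebraMap F (AlgebraicClosure F)) he hq hB hd hd1 (p := p) hpd
  have hGf : Finite ↥(D.group F) := inferInstance
  have htor := tor_of hp hk hpr hW hT (emb hp.inList (algebraMap F (AlgebraicClosure F)))
  obtain ⟨w, E, i1, X, Z, h⟩ := FrameE.exists_FD hp hk hset hpr htor hyp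
  refine ⟨AlgebraicClosure F, inferInstance, w, E, i1, X, Z, ?_, ?_⟩
  · rw [hq]
    exact h
  · rw [hq, Nat.cast_pow]
    apply pow_ne_zero
    intro h0
    rw [ZMod.natCast_eq_zero_iff] at h0
    exact hpr ((Nat.prime_dvd_prime_iff_eq hpp.out Fact.out).1 h0)

end

/-! ### divisibility -/

section

variable {p n : ℕ} [hpp : Fact p.Prime]

theorem dvd_sub {q k : ℕ} (hq : 1 ≤ q) (h : orderOf (q : ZMod p) ∣ k) : p ∣ q ^ k - 1 := by
  have h1 := orderOf_dvd_iff_pow_eq_one.1 h
  rw [← ZMod.natCast_eq_zero_iff, Nat.cast_sub (Nat.one_le_pow _ _ hq), Nat.cast_pow, h1, Nat.cast_one, sub_self]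

theorem le_of_coprime_mul {S : Type*} [Group S] [Finite S] (h : Hyp p n S) {c N m : ℕ} (hc : c * Nat.card S = N)
    (hpc : ¬ p ∣ c) (hm : p ^ m ∣ N) : m ≤ n := by
  apply h.le_of_dvd
  rw [← hc] at hm
  exact Nat.Coprime.dvd_of_dvd_mul_left (Nat.Coprime.pow_left m ((Nat.Prime.coprime_iff_not_dvd hpp.out).2 hpc)) hm

theorem four_dvd {a b c d N : ℕ} (ha : p ∣ a) (hb : p ∣ b) (hc : p ∣ c) (hd : p ∣ d) (hN : a * b * c * d ∣ N) :
    p ^ 4 ∣ N := by
  have h1 := mul_dvd_mul (mul_dvd_mul (mul_dvd_mul ha hb) hc) hd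
  have h2 : p ^ 4 = p * p * p * p := by ring
  rw [h2]
  exact h1.trans hN

theorem three_dvd {a b c N : ℕ} (ha : p ∣ a) (hb : p ∣ b) (hc : p ∣ c) (hN : a * b * c ∣ N) : p ^ 3 ∣ N := by
  have h1 := mul_dvd_mul (mul_dvd_mul ha hb) hc
  have h2 : p ^ 3 = p * p * p := by ring
  rw [h2]
  exact h1.trans hN

theorem not_dvd_gcd3 (h5 : 5 ≤ p) (a : ℕ) : ¬ p ∣ Nat.gcd 3 a := fun h => by
  have := Nat.le_of_dvd (by norm_num) (h.trans (Nat.gcd_dvd_left _ _))
  omega

theorem not_dvd_gcd2 (h5 : 5 ≤ p) (a : ℕ) : ¬ p ∣ Nat.gcd 2 a := fun h => by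
  have := Nat.le_of_dvd (by norm_num) (h.trans (Nat.gcd_dvd_left _ _))
  omega

end

variable {F : Type} [Field F] [Fintype F] {p n : ℕ} [hpp : Fact p.Prime]

theorem g2_false (hpF : (p : F) ≠ 0) (h : Hyp p n ↥(chevG2.group F)) : False := by
  have := finW g2T
  have h5 := h.five
  have hW := not_dvd_12 hpp.out h5
  rw [← card_G2] at hW
  obtain ⟨k, _, w, E, _, X, Z, D, hq⟩ := untw g2T hpF invC_G2 one_ne_zero (Or.inl rfl)
    (not_dvd_small h5 one_ne_zero (by norm_num)) (fun h1 => hW ((dvd_pow_self p two_ne_zero).trans h1))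
    (tors_of_not_dvd hW) h
  have h1 := D.list h5 h.two h.three hq (H795.IrrTypes.g2 g2T) (ncard_isRoot g2T _) (by decide) Num.c12
  simp at h1

theorem one_le_card : 1 ≤ Fintype.card F := Fintype.card_pos

/-! ### `F₄` -/

theorem f4_row (T : OrdDiv.OrderTable.{0}) (hpF : (p : F) ≠ 0) (h : Hyp p n ↥(chevF4.group F)) :
    p = 7 ∧ n = 2 ∧ (orderOf ((Fintype.card F : ℕ) : ZMod p) = 3 ∨ orderOf ((Fintype.card F : ℕ) : ZMod p) = 6) := by
  have := finW f4T
  have h5 := h.five
  have hW := not_dvd_1152 hpp.out h5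
  rw [← card_F4] at hW
  obtain ⟨k, _, w, E, _, X, Z, D, hq⟩ := untw f4T hpF invC_F4 one_ne_zero (Or.inl rfl)
    (not_dvd_small h5 one_ne_zero (by norm_num)) (fun h1 => hW ((dvd_pow_self p two_ne_zero).trans h1))
    (tors_of_not_dvd hW) h
  have h1 := D.list h5 h.two h.three hq (H795.IrrTypes.f4 f4T) (ncard_isRoot f4T _) (by decide) Num.c48
  simp only [Bool.or_eq_true, Bool.and_eq_true, beq_iff_eq, decide_eq_true_eq] at h1
  rcases h1 with ⟨hd, hn⟩ | ⟨⟨h1, h2⟩, h3⟩
  · exfalso
    have hd2 : orderOf ((Fintype.card F : ℕ) : ZMod p) ∣ 2 := by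
      rcases hd with hd | hd
      · rw [hd]; exact one_dvd _
      · rw [hd]
    have hs : ∀ k, 2 ∣ k → p ∣ Fintype.card F ^ k - 1 := fun k hk => dvd_sub one_le_card (hd2.trans hk)
    have hcard := T.f4 F _ rfl
    rw [← one_mul (Nat.card _)] at hcard
    have h4 : 4 ≤ n := le_of_coprime_mul h hcard hpp.out.not_dvd_one
      (four_dvd (hs 2 (by norm_num)) (hs 6 (by norm_num)) (hs 8 (by norm_num)) (hs 12 (by norm_num))
        ⟨Fintype.card F ^ 24, by ring⟩)
    omega
  · exact ⟨h1, h3, h2⟩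

/-! ### `D₄` -/

theorem d4_false (hpF : (p : F) ≠ 0) (h : Hyp p n ↥(chevD4.group F)) : False := by
  have := finW hp4
  have h5 := h.five
  have hW := not_dvd_192 hpp.out h5
  rw [← card_D4] at hW
  obtain ⟨k, _, w, E, _, X, Z, D, hq⟩ := untw hp4 hpF invC_D4 two_ne_zero (Or.inr Nat.prime_two)
    (not_dvd_small h5 two_ne_zero (by norm_num)) (fun h1 => hW ((dvd_pow_self p two_ne_zero).trans h1))
    (tors_of_not_dvd hW) h
  have h1 := D.list h5 h.two h.three hq (H795.IrrTypes.d4 hp4) (ncard_isRoot hp4 _) (by decide) Num.c24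
  simp only [Bool.or_eq_true, Bool.and_eq_true, beq_iff_eq] at h1
  obtain ⟨⟨hd, h1⟩, h2⟩ := h1
  have hd2 : orderOf ((Fintype.card F : ℕ) : ZMod p) ∣ 2 := by
      rcases hd with hd | hd
      · rw [hd]; exact one_dvd _
      · rw [hd]
  have hs : ∀ k, 2 ∣ k → p ∣ Fintype.card F ^ k - 1 := fun k hk => dvd_sub one_le_card (hd2.trans hk)
  obtain ⟨e⟩ : Nonempty (↥(chevD4.group F) ≃* POmega F (quadFormPlus 4 F)) := S1082.result
  have hcard := S0293.result (F := F) rfl 4 le_rfl
  rw [← Nat.card_congr e.toEquiv] at hcard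
  have h4 : 4 ≤ n := le_of_coprime_mul h hcard (fun h6 => by
      have := Nat.le_of_dvd (by norm_num) (h6.trans (Nat.gcd_dvd_left _ _))
      omega)
    (four_dvd (hs 4 (by norm_num)) (hs 2 (by norm_num)) (hs 4 (by norm_num)) (hs 6 (by norm_num))
        ⟨Fintype.card F ^ 12, by
          rw [Finset.prod_range_succ, Finset.prod_range_succ, Finset.prod_range_succ, Finset.prod_range_zero]
          norm_num only [_root_.one_mul]
          ring⟩)
  omega

/-! ### `E₆`, `²E₆` -/

theorem ext_sr {l : ℕ} (f g : (Fin l → ℤ) →+ (Fin l → ℤ)) (h : ∀ i, f (sr i) = g (sr i)) (x : Fin l → ℤ) :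
    f x = g x := by
  rw [eq_sum_sr' x, map_sum, map_sum]
  refine Finset.sum_congr rfl fun i _ => ?_
  rw [map_zsmul, map_zsmul, h]

/-- The common end for `E₆` and `²E₆`. -/
theorem e6_end {q Z : ℕ} {K : Type*} [Field K] {E : Type*} [CommGroup E] {X : (Fin 6 → ℤ) → (E →* Kˣ)}
    {w : CoxeterMatrix.E₆.Group} {g : (Fin 6 → ℤ) ≃+ (Fin 6 → ℤ)} {s : ℤ} (hs : s * s = 1)
    (hg : g ![1, 0, -1, 0, 1, -1] = s • ![1, 0, -1, 0, 1, -1])
    (D : RootC.FD CoxeterMatrix.E₆.toCoxeterSystem hp6.isCartan p q n Z X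
      (g.trans (repAut CoxeterMatrix.E₆.toCoxeterSystem hp6.isCartan w)))
    (hp17 : p = 17) (hd : orderOf (q : ZMod p) = 4) (hn : n = 2) : False := by
  have := finW hp6
  have hq : (q : ZMod p) ≠ 0 := by
    intro h0
    rw [h0] at hd
    have h1 : (0 : ZMod p) ^ 4 = 1 := by rw [← hd]; exact pow_orderOf_eq_one _
    rw [zero_pow (by norm_num)] at h1
    exact zero_ne_one h1
  have hN := ncard_isRoot hp6 CoxeterMatrix.E₆.toCoxeterSystem
  have hN' : chevE6.nroots = 72 := by decide
  rw [hN'] at hN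
  have hi : ∀ a b, IsRoot CoxeterMatrix.E₆.toCoxeterSystem hp6.isCartan a →
      IsRoot CoxeterMatrix.E₆.toCoxeterSystem hp6.isCartan b → X a = X b → a = b := by
    rcases D.cases (by omega) (by omega) hq (H795.IrrTypes.e6 hp6) hN rfl with ⟨-, h1⟩ | ⟨m, h1, -, h2, -⟩
    · exact h1
    · exfalso
      rw [hd, hp17, hn] at *
      have h3 : Nat.lcm 2 4 = 4 := by decide
      rw [h3] at h1
      have h4 : ∑ i ∈ Finset.range 2, 17 ^ i = 18 := by decide
      rw [h4] at h2
      omega
  have hqq : (q : ZMod p) * q = -1 := by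
    have h1 : ((q : ZMod p) * q) * ((q : ZMod p) * q) = 1 := by
      have h2 := pow_orderOf_eq_one (q : ZMod p)
      rw [hd] at h2
      calc ((q : ZMod p) * q) * ((q : ZMod p) * q) = (q : ZMod p) ^ 4 := by ring
        _ = 1 := h2
    rcases mul_self_eq_one_iff.1 h1 with h2 | h2
    · exfalso
      have h3 : orderOf (q : ZMod p) ∣ 2 := orderOf_dvd_of_pow_eq_one (by rw [pow_two]; exact h2)
      rw [hd] at h3
      exact absurd h3 (by norm_num)
    · exact h2
  set θ := g.trans (repAut CoxeterMatrix.E₆.toCoxeterSystem hp6.isCartan w) with hθ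
  have hneg : ∀ x : Fin 6 → ℤ, θ (θ x) = -x := fun x =>
    ext_sr (θ.toAddMonoidHom.comp θ.toAddMonoidHom) (-AddMonoidHom.id _)
      (fun i => D.theta_sq hi hqq (isRoot_sr _ _ i)) x
  have hrad : ∀ i, (3 : ℤ) ∣ _root_.Cfsg.Agent.ChevalleyStructure.CoxeterGeom.pairing (cartanOf chevE6 6) i ![1, 0, -1, 0, 1, -1] := by decide +kernel
  have h1 : ∃ u : Fin 6 → ℤ, θ ![1, 0, -1, 0, 1, -1] = s • ![1, 0, -1, 0, 1, -1] + (3 : ℤ) • u := by
    have h2 := RootC.rad CoxeterMatrix.E₆.toCoxeterSystem hp6.isCartan hrad w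
    choose u hu using h2
    refine ⟨s • u, ?_⟩
    show rep _ _ w (g ![1, 0, -1, 0, 1, -1]) = _
    rw [hg, map_smul]
    have h3 : rep CoxeterMatrix.E₆.toCoxeterSystem hp6.isCartan w ![1, 0, -1, 0, 1, -1] =
        ![1, 0, -1, 0, 1, -1] + (3 : ℤ) • u := by
      funext j
      have := hu j
      rw [Pi.sub_apply] at this
      rw [Pi.add_apply, Pi.smul_apply, smul_eq_mul]
      linarith only [this]
    rw [h3, smul_add, smul_comm]
  obtain ⟨u, hu⟩ := h1
  have h2 := hneg ![1, 0, -1, 0, 1, -1]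
  rw [hu, map_add, map_zsmul, map_zsmul, hu, smul_add, smul_smul, hs, one_smul] at h2
  have h3 := congrFun h2 0
  simp only [Pi.add_apply, Pi.smul_apply, Pi.neg_apply, smul_eq_mul, Matrix.cons_val_zero] at h3
  have h4 : s * (3 * u 0) = 3 * (s * u 0) := by ring
  rw [h4] at h3
  omega

theorem e6_false (T : OrdDiv.OrderTable.{0}) (hpF : (p : F) ≠ 0) (h : Hyp p n ↥(chevE6.group F)) : False := by
  have := finW hp6
  have h5 := h.five
  obtain ⟨hW, hT⟩ := torsE6 hp6 hpp.out h5
  obtain ⟨k, _, w, E, _, X, Z, D, hq⟩ := untw hp6 hpF invC_E6 three_ne_zero (Or.inr Nat.prime_three)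
    (not_dvd_small h5 three_ne_zero (by norm_num)) hW hT h
  have h1 := D.list h5 h.two h.three hq (H795.IrrTypes.e6 hp6) (ncard_isRoot hp6 _) (by decide) Num.c72
  simp only [Bool.or_eq_true, Bool.and_eq_true, beq_iff_eq, decide_eq_true_eq] at h1
  rcases h1 with ⟨hd, hn⟩ | ⟨⟨h1, h2⟩, h3⟩
  · have hd2 : orderOf ((Fintype.card F : ℕ) : ZMod p) ∣ 2 := by
      rcases hd with hd | hd
      · rw [hd]; exact one_dvd _
      · rw [hd]
    have hs : ∀ k, 2 ∣ k → p ∣ Fintype.card F ^ k - 1 := fun k hk => dvd_sub one_le_card (hd2.trans hk)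
    have h4 : 4 ≤ n := le_of_coprime_mul h (T.e6 F _ rfl) (not_dvd_gcd3 h5 _)
      (four_dvd (hs 2 (by norm_num)) (hs 6 (by norm_num)) (hs 8 (by norm_num)) (hs 12 (by norm_num))
        ⟨Fintype.card F ^ 36 * (Fintype.card F ^ 5 - 1) * (Fintype.card F ^ 9 - 1), by ring⟩)
    omega
  · refine e6_end (g := AddEquiv.refl _) (w := w) (s := 1) (by norm_num) (by rw [one_smul]; rfl) D h1 h2 h3

/-! ### `E₇` -/

theorem e7_count : ∀ i : Fin 7, ((Finset.range 126).filter
    (fun r => _root_.Cfsg.Agent.ChevalleyStructure.CoxeterGeom.pairing (cartanOf chevE7 7) i (vec chevE7 7 r) ≠ 0)).card = 66 := by (delta Cfsg.Agent.ChevalleyStructure.CoxeterGeom.pairing Cfsg.Agent.Nodes.RGDChev.vec Cfsg.Agent.ChevalleyStructure.RootVec.rt; set_option synthInstance.maxSize 100000 in exact Cfsg.Agent.Lib.Refl.of (by decide +kernel))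

theorem e7_nonorth (i : Fin 7) :
    {a | IsRoot CoxeterMatrix.E₇.toCoxeterSystem e7T.isCartan a ∧ _root_.Cfsg.Agent.ChevalleyStructure.CoxeterGeom.pairing (cartanOf chevE7 7) i a ≠ 0}.ncard = 66 := by
  have h1 : {a | IsRoot CoxeterMatrix.E₇.toCoxeterSystem e7T.isCartan a ∧ _root_.Cfsg.Agent.ChevalleyStructure.CoxeterGeom.pairing (cartanOf chevE7 7) i a ≠ 0} =
      (fun r => vec chevE7 7 r) '' (((Finset.range 126).filter
        (fun r => _root_.Cfsg.Agent.ChevalleyStructure.CoxeterGeom.pairing (cartanOf chevE7 7) i (vec chevE7 7 r) ≠ 0) : Finset ℕ) : Set ℕ) := by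
    ext x
    simp only [Set.mem_image, Finset.mem_coe, Finset.mem_filter, Finset.mem_range]
    constructor
    · rintro ⟨hx, hc⟩
      obtain ⟨r, hr, rfl⟩ := (isRoot_iff e7T CoxeterMatrix.E₇.toCoxeterSystem x).1 hx
      exact ⟨r, ⟨hr, hc⟩, rfl⟩
    · rintro ⟨r, ⟨hr, hc⟩, rfl⟩
      exact ⟨isRoot_vec e7T CoxeterMatrix.E₇.toCoxeterSystem hr, hc⟩
  rw [h1, Set.InjOn.ncard_image, Set.ncard_coe_finset, e7_count]
  intro r hr s hs e
  exact vec_inj e7T (Finset.mem_range.1 (Finset.mem_filter.1 hr).1) (Finset.mem_range.1 (Finset.mem_filter.1 hs).1) e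

theorem e7_false (T : OrdDiv.OrderTable.{0}) (hpF : (p : F) ≠ 0) (h : Hyp p n ↥(chevE7.group F)) : False := by
  have := finW e7T
  have h5 := h.five
  obtain ⟨hW, hT⟩ := torsE7 e7T hpp.out h5
  obtain ⟨k, _, w, E, _, X, Z, D, hq⟩ := untw e7T hpF invC_E7 two_ne_zero (Or.inr Nat.prime_two)
    (not_dvd_small h5 two_ne_zero (by norm_num)) hW hT h
  have hN := ncard_isRoot e7T CoxeterMatrix.E₇.toCoxeterSystem
  have hN' : chevE7.nroots = 126 := by decide
  rw [hN'] at hN
  have h1 := D.list h5 h.two h.three hq (H795.IrrTypes.e7 e7T) hN (by decide) Num.c126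
  simp only [Bool.or_eq_true, Bool.and_eq_true, beq_iff_eq, decide_eq_true_eq] at h1
  have hcard := T.e7 F _ rfl
  rcases h1 with (⟨hd, hn⟩ | ⟨hd, hn⟩) | ⟨⟨h1, h2⟩, h3⟩
  · have hd2 : orderOf ((Fintype.card F : ℕ) : ZMod p) ∣ 2 := by
      rcases hd with hd | hd
      · rw [hd]; exact one_dvd _
      · rw [hd]
    have hs : ∀ k, 2 ∣ k → p ∣ Fintype.card F ^ k - 1 := fun k hk => dvd_sub one_le_card (hd2.trans hk)
    have h4 : 4 ≤ n := le_of_coprime_mul h hcard (not_dvd_gcd2 h5 _)
      (four_dvd (hs 2 (by norm_num)) (hs 6 (by norm_num)) (hs 8 (by norm_num)) (hs 10 (by norm_num))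
        ⟨Fintype.card F ^ 63 * (Fintype.card F ^ 12 - 1) * (Fintype.card F ^ 14 - 1) * (Fintype.card F ^ 18 - 1),
          by ring⟩)
    omega
  · have hd2 : orderOf ((Fintype.card F : ℕ) : ZMod p) ∣ 6 := by
      rcases hd with hd | hd
      · rw [hd]; norm_num
      · rw [hd]
    have hs : ∀ k, 6 ∣ k → p ∣ Fintype.card F ^ k - 1 := fun k hk => dvd_sub one_le_card (hd2.trans hk)
    have h4 : 3 ≤ n := le_of_coprime_mul h hcard (not_dvd_gcd2 h5 _)
      (three_dvd (hs 6 (by norm_num)) (hs 12 (by norm_num)) (hs 18 (by norm_num))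
        ⟨Fintype.card F ^ 63 * (Fintype.card F ^ 2 - 1) * (Fintype.card F ^ 8 - 1) * (Fintype.card F ^ 10 - 1) *
          (Fintype.card F ^ 14 - 1), by ring⟩)
    omega
  · rcases D.cases (by omega) h.two hq (H795.IrrTypes.e7 e7T) hN rfl with ⟨h4, -⟩ | ⟨m, h4, h5', h6, h7⟩
    · rw [h2, h3] at h4
      subst h1
      exact absurd h4 (by decide)
    · have h8 : Nat.lcm 2 4 = 4 := by decide
      have h9 : ∑ i ∈ Finset.range 2, p ^ i = 14 := by rw [h1]; decide
      rw [h2, h8] at h4 h5' h7
      rw [h3, h9] at h6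
      have h10 : m = 8 := by omega
      subst h10
      refine D.three_false hN (c := 14) (B := 66) (by omega) (fun b₀ hb₀ hne => ?_)
        (fun y hy => RootC.ncard_nonorth e7_nonorth hy) (by norm_num) (by norm_num)
      have := h7 b₀ hb₀ hne
      omega

/-! ### `E₈` -/

theorem e8_row (T : OrdDiv.OrderTable.{0}) (hpF : (p : F) ≠ 0) (h : Hyp p n ↥(chevE8.group F)) (hp5 : p ≠ 5) :
    p = 11 ∧ n = 2 ∧ (orderOf ((Fintype.card F : ℕ) : ZMod p) = 5 ∨ orderOf ((Fintype.card F : ℕ) : ZMod p) = 10) := by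
  have := finW e8T
  have h5 := h.five
  obtain ⟨hW, hT⟩ := torsE8 e8T hpp.out h5 hp5
  obtain ⟨k, _, w, E, _, X, Z, D, hq⟩ := untw e8T hpF invC_E8 one_ne_zero (Or.inl rfl)
    (not_dvd_small h5 one_ne_zero (by norm_num)) hW hT h
  have h1 := D.list h5 h.two h.three hq (H795.IrrTypes.e8 e8T) (ncard_isRoot e8T _) (by decide) Num.c240
  simp only [Bool.or_eq_true, Bool.and_eq_true, beq_iff_eq, decide_eq_true_eq] at h1
  have hcard := T.e8 F _ rfl
  rw [← one_mul (Nat.card _)] at hcard
  rcases h1 with ((⟨hd, hn⟩ | ⟨hd, hn⟩) | h1) | ⟨⟨h1, h2⟩, h3⟩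
  · exfalso
    have hd2 : orderOf ((Fintype.card F : ℕ) : ZMod p) ∣ 2 := by
      rcases hd with hd | hd
      · rw [hd]; exact one_dvd _
      · rw [hd]
    have hs : ∀ k, 2 ∣ k → p ∣ Fintype.card F ^ k - 1 := fun k hk => dvd_sub one_le_card (hd2.trans hk)
    have h4 : 4 ≤ n := le_of_coprime_mul h hcard hpp.out.not_dvd_one
      (four_dvd (hs 2 (by norm_num)) (hs 8 (by norm_num)) (hs 12 (by norm_num)) (hs 14 (by norm_num))
        ⟨Fintype.card F ^ 120 * (Fintype.card F ^ 18 - 1) * (Fintype.card F ^ 20 - 1) * (Fintype.card F ^ 24 - 1) *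
          (Fintype.card F ^ 30 - 1), by ring⟩)
    omega
  · exfalso
    have hd2 : orderOf ((Fintype.card F : ℕ) : ZMod p) ∣ 12 := by
      rcases hd with (hd | hd) | hd <;> (rw [hd]; norm_num)
    rcases hd with hd | hd
    · have hd6 : orderOf ((Fintype.card F : ℕ) : ZMod p) ∣ 6 := by
        rcases hd with hd | hd
        · rw [hd]; norm_num
        · rw [hd]
      have hs : ∀ k, 6 ∣ k → p ∣ Fintype.card F ^ k - 1 := fun k hk => dvd_sub one_le_card (hd6.trans hk)
      have h4 : 3 ≤ n := le_of_coprime_mul h hcard hpp.out.not_dvd_one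
        (three_dvd (hs 12 (by norm_num)) (hs 18 (by norm_num)) (hs 24 (by norm_num))
          ⟨Fintype.card F ^ 120 * (Fintype.card F ^ 2 - 1) * (Fintype.card F ^ 8 - 1) * (Fintype.card F ^ 14 - 1) *
            (Fintype.card F ^ 20 - 1) * (Fintype.card F ^ 30 - 1), by ring⟩)
      omega
    · have hs : ∀ k, 4 ∣ k → p ∣ Fintype.card F ^ k - 1 := fun k hk => dvd_sub one_le_card (by rw [hd]; exact hk)
      have h4 : 3 ≤ n := le_of_coprime_mul h hcard hpp.out.not_dvd_one
        (three_dvd (hs 8 (by norm_num)) (hs 12 (by norm_num)) (hs 20 (by norm_num))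
          ⟨Fintype.card F ^ 120 * (Fintype.card F ^ 2 - 1) * (Fintype.card F ^ 14 - 1) *
            (Fintype.card F ^ 18 - 1) * (Fintype.card F ^ 24 - 1) * (Fintype.card F ^ 30 - 1), by ring⟩)
      omega
  · exact absurd h1 hp5
  · exact ⟨h1, h3, h2⟩

/-! ### `²E₆` -/

theorem orderOf_pow_prime_ne {q r e : ℕ} [Fact r.Prime] (hpr : p ≠ r) (hq : q = r ^ e) : (q : ZMod p) ≠ 0 := by
  rw [hq, Nat.cast_pow]
  apply pow_ne_zero
  intro h0
  rw [ZMod.natCast_eq_zero_iff] at h0
  exact hpr ((Nat.prime_dvd_prime_iff_eq hpp.out Fact.out).1 h0)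

theorem te6_false (T : OrdDiv.OrderTable.{0}) {q : ℕ} (hpF : (p : F) ≠ 0) (hqq : IsPrimePow q)
    (hF : Fintype.card F = q ^ 2) (h : Hyp p n ↥(twistedE6 F q)) : False := by
  have := finW hp6
  have h5 := h.five
  obtain ⟨r, e, hr, hrF, hrk, hn0, hqe, hk⟩ := exists_closure_q two_ne_zero hqq hF
  have hpr : p ≠ r := by
    rintro rfl
    exact hpF (CharP.cast_eq_zero F p)
  obtain ⟨hW, hT⟩ := torsE6 hp6 hpp.out h5
  have hq := orderOf_pow_prime_ne (p := p) hpr hqe
  obtain ⟨w, E, _, X, Z, D⟩ := FrameE.exists_FD hp6 hk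
    (setup_six (algebraMap F (AlgebraicClosure F)) r hk hn0 hqe hF (by omega)) hpr (tor_of hp6 hk hpr hW hT _) h
  rw [← hqe] at D
  have h1 := D.list h5 h.two h.three hq (H795.IrrTypes.e6 hp6) (ncard_isRoot hp6 _) (by decide) Num.c72
  simp only [Bool.or_eq_true, Bool.and_eq_true, beq_iff_eq, decide_eq_true_eq] at h1
  rcases h1 with ⟨hd, hn⟩ | ⟨⟨h1, h2⟩, h3⟩
  · have hd2 : orderOf (q : ZMod p) ∣ 2 := by
      rcases hd with hd | hd
      · rw [hd]; exact one_dvd _
      · rw [hd]
    have hs : ∀ k, 2 ∣ k → p ∣ q ^ k - 1 := fun k hk => dvd_sub hqq.one_lt.le (hd2.trans hk)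
    have h4 : 4 ≤ n := le_of_coprime_mul h (T.te6 F q hqq hF) (not_dvd_gcd3 h5 _)
      (four_dvd (hs 2 (by norm_num)) (hs 6 (by norm_num)) (hs 8 (by norm_num)) (hs 12 (by norm_num))
        ⟨q ^ 36 * (q ^ 5 + 1) * (q ^ 9 + 1), by ring⟩)
    omega
  · refine e6_end (w := w) (s := -1) (by norm_num) ?_ D h1 h2 h3
    funext i
    fin_cases i <;> rfl

/-! ### `³D₄` -/

theorem td4_false {q : ℕ} (hpF : (p : F) ≠ 0) (hqq : IsPrimePow q)
    (hF : Fintype.card F = q ^ 3) (h : Hyp p n ↥(twistedD4 F q)) : False := by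
  have := finW hp4
  have h5 := h.five
  obtain ⟨r, e, hr, hrF, hrk, hn0, hqe, hk⟩ := exists_closure_q three_ne_zero hqq hF
  have hpr : p ≠ r := by
    rintro rfl
    exact hpF (CharP.cast_eq_zero F p)
  have hW := not_dvd_192 hpp.out h5
  rw [← card_D4] at hW
  have hq := orderOf_pow_prime_ne (p := p) hpr hqe
  obtain ⟨w, E, _, X, Z, D⟩ := FrameE.exists_FD hp4 hk
    (setup_four (algebraMap F (AlgebraicClosure F)) r (tw4_le hqq hF) hk hn0 hqe hF) hpr
    (tor_of hp4 hk hpr (fun h1 => hW ((dvd_pow_self p two_ne_zero).trans h1)) (tors_of_not_dvd hW) _) h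
  rw [← hqe] at D
  have hN := ncard_isRoot hp4 coxeterD4.toCoxeterSystem
  have hN' : chevD4.nroots = 24 := by decide
  rw [hN'] at hN
  have h1 := D.list h5 h.two h.three hq (H795.IrrTypes.d4 hp4) hN (by decide) Num.c24
  simp only [Bool.or_eq_true, Bool.and_eq_true, beq_iff_eq] at h1
  obtain ⟨⟨hd, h1⟩, h2⟩ := h1
  have hi : ∀ a b, IsRoot coxeterD4.toCoxeterSystem hp4.isCartan a →
      IsRoot coxeterD4.toCoxeterSystem hp4.isCartan b → X a = X b → a = b := by
    rcases D.cases (by omega) h.two hq (H795.IrrTypes.d4 hp4) hN rfl with ⟨-, h1⟩ | ⟨m, h3, -, h4, -⟩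
    · exact h1
    · exfalso
      have h6 : Nat.lcm 2 (orderOf (q : ZMod p)) = 2 := by
        rcases hd with hd | hd <;> (rw [hd]; decide)
      rw [h6] at h3
      have h7 : ∑ i ∈ Finset.range n, p ^ i = 12 := by rw [h1, h2]; decide
      rw [h7] at h4
      omega
  set θ := (permE rho4).trans (repAut coxeterD4.toCoxeterSystem hp4.isCartan w) with hθ
  have hsgn : ∃ s : ℤ, (s = 1 ∨ s = -1) ∧ ∀ x : Fin 4 → ℤ, θ x = s • x := by
    have hq1 : (q : ZMod p) * q = 1 := by
      have h6 : orderOf (q : ZMod p) ∣ 2 := by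
        rcases hd with hd | hd
        · rw [hd]; exact one_dvd _
        · rw [hd]
      rw [← pow_two]
      exact orderOf_dvd_iff_pow_eq_one.1 h6
    rcases mul_self_eq_one_iff.1 hq1 with h6 | h6
    · refine ⟨1, Or.inl rfl, fun x => ?_⟩
      rw [one_smul]
      exact ext_sr θ.toAddMonoidHom (AddMonoidHom.id _) (fun i => D.theta_one hi h6 (isRoot_sr _ _ i)) x
    · refine ⟨-1, Or.inr rfl, fun x => ?_⟩
      rw [neg_one_smul]
      exact ext_sr θ.toAddMonoidHom (-AddMonoidHom.id _) (fun i => D.theta_neg_one hi h6 (isRoot_sr _ _ i)) x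
  obtain ⟨s, hs, hx⟩ := hsgn
  have hrad : ∀ i, (2 : ℤ) ∣ _root_.Cfsg.Agent.ChevalleyStructure.CoxeterGeom.pairing (cartanOf chevD4 4) i (permE rho4 ![1, 0, 1, 0]) := by decide +kernel
  have h3 := RootC.rad coxeterD4.toCoxeterSystem hp4.isCartan hrad w
  have h4 : rep coxeterD4.toCoxeterSystem hp4.isCartan w (permE rho4 ![1, 0, 1, 0]) = s • ![1, 0, 1, 0] := hx ![1, 0, 1, 0]
  rw [h4] at h3
  have h6 := h3 0
  have h7 := h3 2
  have h8 := h3 3
  simp only [Pi.sub_apply, Pi.smul_apply, smul_eq_mul] at h6 h7 h8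
  rcases hs with rfl | rfl
  · revert h6 h7 h8; decide
  · revert h6 h7 h8; decide

end Cfsg.Agent.H319.One.ExcRows
end

-- part: H491/One/Fix
section
/-!
# The number of fixed vectors of a matrix over a finite field (helper491, project S4880)

* `fxN A` : the number of vectors fixed by `A`; invariant under conjugation, field automorphisms, transposition,
  inversion, reindexing; multiplicative on blocks;
* `exists_free` : a matrix of order `p` and degree `d = ord_p(q)` without fixed vectors.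
-/

set_option autoImplicit false

namespace Cfsg.Agent.H491.One

open Matrix

section

variable {F : Type*} [Field F] [Fintype F] {ι κ : Type*} [Fintype ι] [DecidableEq ι] [Fintype κ] [DecidableEq κ]

/-- the number of fixed vectors -/
noncomputable def fxN (A : Matrix ι ι F) : ℕ := Nat.card {v : ι → F // A *ᵥ v = v}

omit [Fintype F] in
theorem fxN_conj (P : GL ι F) (A : Matrix ι ι F) :
    fxN ((P : Matrix ι ι F) * A * ((P⁻¹ : GL ι F) : Matrix ι ι F)) = fxN A := by
  have h1 : ((P⁻¹ : GL ι F) : Matrix ι ι F) * (P : Matrix ι ι F) = 1 := by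
    rw [← Units.val_mul, inv_mul_cancel, Units.val_one]
  have h2 : (P : Matrix ι ι F) * ((P⁻¹ : GL ι F) : Matrix ι ι F) = 1 := by
    rw [← Units.val_mul, mul_inv_cancel, Units.val_one]
  refine Nat.card_congr ⟨fun v => ⟨((P⁻¹ : GL ι F) : Matrix ι ι F) *ᵥ v.1, ?_⟩, fun v => ⟨(P : Matrix ι ι F) *ᵥ v.1, ?_⟩,
    fun v => Subtype.ext ?_, fun v => Subtype.ext ?_⟩
  · have h3 := congrArg (fun w => ((P⁻¹ : GL ι F) : Matrix ι ι F) *ᵥ w) v.2
    simp only [mulVec_mulVec] at h3
    rw [mulVec_mulVec, ← h3, ← mul_assoc, ← mul_assoc, h1, one_mul]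
  · rw [mulVec_mulVec, mul_assoc, h1, mul_one, ← mulVec_mulVec, v.2]
  · show (P : Matrix ι ι F) *ᵥ (((P⁻¹ : GL ι F) : Matrix ι ι F) *ᵥ v.1) = v.1
    rw [mulVec_mulVec, h2, one_mulVec]
  · show ((P⁻¹ : GL ι F) : Matrix ι ι F) *ᵥ ((P : Matrix ι ι F) *ᵥ v.1) = v.1
    rw [mulVec_mulVec, h1, one_mulVec]

omit [Fintype F] [DecidableEq ι] in
theorem fxN_map (σ : F ≃+* F) (A : Matrix ι ι F) : fxN (A.map σ) = fxN A := by
  have key : ∀ (τ : F ≃+* F) (B : Matrix ι ι F) (v : ι → F), B.map τ *ᵥ (τ ∘ v) = τ ∘ (B *ᵥ v) := by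
    intro τ B v
    funext i
    exact (RingHom.map_mulVec (τ : F →+* F) B v i).symm
  refine Nat.card_congr ⟨fun v => ⟨σ.symm ∘ v.1, ?_⟩, fun v => ⟨σ ∘ v.1, ?_⟩, fun v => Subtype.ext ?_,
    fun v => Subtype.ext ?_⟩
  · have h1 := key σ.symm (A.map σ) v.1
    rw [v.2] at h1
    have h2 : (A.map σ).map σ.symm = A := by
      ext i j
      simp
    rwa [h2] at h1
  · rw [key, v.2]
  · funext i
    simp
  · funext i
    simp

theorem fxN_eq_pow (A : Matrix ι ι F) : fxN A = Fintype.card F ^ (Fintype.card ι - (A - 1).rank) := by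
  have h1 : fxN A = Nat.card (LinearMap.ker (A - 1).mulVecLin) := by
    refine Nat.card_congr (Equiv.subtypeEquivRight fun v => ?_)
    rw [LinearMap.mem_ker, mulVecLin_apply, sub_mulVec, one_mulVec, sub_eq_zero]
  have h2 := LinearMap.finrank_range_add_finrank_ker (A - 1).mulVecLin
  rw [Module.finrank_fintype_fun_eq_card] at h2
  have h3 : Module.finrank F (LinearMap.ker (A - 1).mulVecLin) = Fintype.card ι - (A - 1).rank := by
    unfold Matrix.rank
    omega
  rw [h1, Module.natCard_eq_pow_finrank (K := F), h3, Nat.card_eq_fintype_card]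

theorem fxN_transpose (A : Matrix ι ι F) : fxN Aᵀ = fxN A := by
  rw [fxN_eq_pow, fxN_eq_pow]
  have h1 : Aᵀ - 1 = (A - 1)ᵀ := by rw [transpose_sub, transpose_one]
  rw [h1, rank_transpose]

omit [Fintype F] in
theorem fxN_inv (A B : Matrix ι ι F) (h : A * B = 1) : fxN A = fxN B := by
  have h' : B * A = 1 := mul_eq_one_comm.1 h
  refine Nat.card_congr (Equiv.subtypeEquivRight fun v => ?_)
  constructor
  · intro hv
    conv_lhs => rw [← hv]
    rw [mulVec_mulVec, h', one_mulVec]
  · intro hv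
    conv_lhs => rw [← hv]
    rw [mulVec_mulVec, h, one_mulVec]

theorem fxN_one : fxN (1 : Matrix ι ι F) = Fintype.card F ^ Fintype.card ι := by
  have h1 : ∀ v : ι → F, (1 : Matrix ι ι F) *ᵥ v = v := one_mulVec
  unfold fxN
  rw [Nat.card_congr (Equiv.subtypeUnivEquiv h1), Nat.card_fun, Nat.card_eq_fintype_card, Nat.card_eq_fintype_card]

omit [Fintype F] [DecidableEq ι] [DecidableEq κ] in
theorem fxN_reindex (e : ι ≃ κ) (A : Matrix ι ι F) : fxN (reindex e e A) = fxN A := by
  have key : ∀ v : κ → F, reindex e e A *ᵥ v = (A *ᵥ (v ∘ e)) ∘ e.symm := by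
    intro v
    funext i
    simp only [mulVec, dotProduct, reindex_apply, submatrix_apply, Function.comp_apply]
    exact (Fintype.sum_equiv e _ _ fun j => by simp).symm
  refine Nat.card_congr ⟨fun v => ⟨v.1 ∘ e, ?_⟩, fun v => ⟨v.1 ∘ e.symm, ?_⟩, fun v => Subtype.ext ?_,
    fun v => Subtype.ext ?_⟩
  · have h1 := v.2
    rw [key] at h1
    funext i
    have h2 := congrFun h1 (e i)
    simpa using h2
  · rw [key]
    have h1 : (v.1 ∘ e.symm) ∘ e = v.1 := by
      funext i
      simp
    rw [h1, v.2]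
  · funext i
    simp
  · funext i
    simp

omit [Fintype F] [DecidableEq ι] [DecidableEq κ] in
theorem fxN_fromBlocks (A : Matrix ι ι F) (B : Matrix κ κ F) : fxN (fromBlocks A 0 0 B) = fxN A * fxN B := by
  unfold fxN
  rw [← Nat.card_prod]
  refine Nat.card_congr ⟨fun v => (⟨v.1 ∘ Sum.inl, ?_⟩, ⟨v.1 ∘ Sum.inr, ?_⟩), fun v => ⟨Sum.elim v.1.1 v.2.1, ?_⟩,
    fun v => Subtype.ext ?_, fun v => Prod.ext (Subtype.ext ?_) (Subtype.ext ?_)⟩
  · have h1 := v.2
    rw [fromBlocks_mulVec] at h1
    have h2 := congrArg (fun w => w ∘ Sum.inl) h1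
    simpa using h2
  · have h1 := v.2
    rw [fromBlocks_mulVec] at h1
    have h2 := congrArg (fun w => w ∘ Sum.inr) h1
    simpa using h2
  · rw [fromBlocks_mulVec]
    simp only [Sum.elim_comp_inl, Sum.elim_comp_inr, zero_mulVec, add_zero, zero_add, v.1.2, v.2.2]
  · exact Sum.elim_comp_inl_inr v.1
  · rfl
  · rfl

omit [Fintype F] in
/-- a diagonal matrix without entries `1` -/
theorem fxN_diagonal (a : ι → F) (h : ∀ i, a i ≠ 1) : fxN (diagonal a) = 1 := by
  unfold fxN
  have h1 : ∀ v : {v : ι → F // diagonal a *ᵥ v = v}, v.1 = 0 := by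
    intro v
    funext i
    have h2 := congrFun v.2 i
    rw [mulVec_diagonal] at h2
    by_contra h3
    apply h i
    have h4 : (a i - 1) * v.1 i = 0 := by linear_combination h2
    exact sub_eq_zero.1 ((mul_eq_zero.1 h4).resolve_right h3)
  rw [Nat.card_eq_one_iff_unique]
  exact ⟨⟨fun v w => Subtype.ext (by rw [h1 v, h1 w])⟩, ⟨⟨0, mulVec_zero _⟩⟩⟩

/-- a matrix of order `p` and degree `d` without fixed vectors, `d` the order of `q` modulo `p` -/
theorem exists_free {p d : ℕ} [hp : Fact p.Prime] (hd : 0 < d) (hiff : ∀ j, p ∣ Fintype.card F ^ j - 1 ↔ d ∣ j) :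
    ∃ A : Matrix (Fin d) (Fin d) F, A ^ p = 1 ∧ fxN A = 1 := by
  have hq : 1 < Fintype.card F := Fintype.one_lt_card
  have hpd : p ∣ Nat.card (GL (Fin d) F) := by
    rw [Matrix.card_GL_field]
    have h1 : p ∣ Fintype.card F ^ d - Fintype.card F ^ 0 := by
      rw [pow_zero]
      exact (hiff d).2 dvd_rfl
    exact h1.trans (Finset.dvd_prod_of_mem (fun i : Fin d => Fintype.card F ^ d - Fintype.card F ^ (i : ℕ))
      (Finset.mem_univ (⟨0, hd⟩ : Fin d)))
  obtain ⟨g, hg⟩ := exists_prime_orderOf_dvd_card' p hpd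
  have hgp : g ^ p = 1 := by rw [← hg, pow_orderOf_eq_one]
  refine ⟨(g : Matrix (Fin d) (Fin d) F), by rw [← Units.val_pow_eq_pow_val, hgp, Units.val_one], ?_⟩
  -- the group generated by `g` acts
  let A := Subgroup.zpowers g
  have hA : IsPGroup p A := IsPGroup.of_card (n := 1) (by rw [Nat.card_zpowers, hg, pow_one])
  let act : MulAction A (Fin d → F) :=
    { smul := fun a v => ((a : GL (Fin d) F) : Matrix (Fin d) (Fin d) F) *ᵥ v
      one_smul := fun v => by
        show ((1 : GL (Fin d) F) : Matrix (Fin d) (Fin d) F) *ᵥ v = v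
        rw [Units.val_one, one_mulVec]
      mul_smul := fun a b v => by
        show (((a : GL (Fin d) F) * b : GL (Fin d) F) : Matrix (Fin d) (Fin d) F) *ᵥ v = _ *ᵥ (_ *ᵥ v)
        rw [Units.val_mul, mulVec_mulVec] }
  have h1 := hA.card_modEq_card_fixedPoints (Fin d → F)
  have h2 : Nat.card (MulAction.fixedPoints A (Fin d → F)) = fxN (g : Matrix (Fin d) (Fin d) F) := by
    refine Nat.card_congr (Equiv.subtypeEquivRight fun v => ?_)
    constructor
    · intro h
      exact h ⟨g, Subgroup.mem_zpowers g⟩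
    · rintro h ⟨_, k, rfl⟩
      show ((g ^ k : GL (Fin d) F) : Matrix (Fin d) (Fin d) F) *ᵥ v = v
      have hst : g ∈ (MulAction.stabilizer (GL (Fin d) F) v) := h
      exact Subgroup.zpow_mem (MulAction.stabilizer (GL (Fin d) F) v) hst k
  rw [h2, fxN_eq_pow, Nat.card_fun, Nat.card_eq_fintype_card, Nat.card_eq_fintype_card, Fintype.card_fin] at h1
  rw [fxN_eq_pow, Fintype.card_fin]
  set r := ((g : Matrix (Fin d) (Fin d) F) - 1).rank with hr
  have hrd : r ≤ d := by
    have := rank_le_card_height ((g : Matrix (Fin d) (Fin d) F) - 1)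
    rwa [Fintype.card_fin] at this
  have hr0 : r ≠ 0 := by
    intro h0
    have h3 : (g : Matrix (Fin d) (Fin d) F) - 1 = 0 := by
      have h5 : LinearMap.range ((g : Matrix (Fin d) (Fin d) F) - 1).mulVecLin = ⊥ := by
        rw [← Submodule.finrank_eq_zero (R := F)]
        exact h0
      rw [LinearMap.range_eq_bot] at h5
      apply Matrix.toLin'.injective
      rw [map_zero]
      exact h5
    have h4 : g = 1 := Units.ext (sub_eq_zero.1 h3)
    rw [h4, orderOf_one] at hg
    exact hp.out.one_lt.ne hg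
  -- `p ∣ q ^ r - 1`
  have h3 : d ∣ r := by
    rw [← hiff]
    have hle : Fintype.card F ^ (d - r) ≤ Fintype.card F ^ d := Nat.pow_le_pow_right hq.le (by omega)
    have h4 := (Nat.modEq_iff_dvd' hle).1 h1.symm
    have h5 : Fintype.card F ^ d - Fintype.card F ^ (d - r) = Fintype.card F ^ (d - r) * (Fintype.card F ^ r - 1) := by
      rw [Nat.mul_sub_one, ← pow_add, Nat.sub_add_cancel hrd]
    rw [h5] at h4
    refine (hp.out.dvd_mul.1 h4).resolve_left fun h6 => ?_
    have h7 := hp.out.dvd_of_dvd_pow h6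
    have h8 := (hiff d).2 dvd_rfl
    have h9 : p ∣ Fintype.card F ^ d := dvd_pow h7 hd.ne'
    have h10 : 1 ≤ Fintype.card F ^ d := Nat.one_le_pow _ _ (by omega)
    have h11 := (Nat.dvd_sub h9 h8)
    have h12 : Fintype.card F ^ d - (Fintype.card F ^ d - 1) = 1 := by omega
    rw [h12] at h11
    exact hp.out.one_lt.ne' (Nat.dvd_one.1 h11)
  have h4 : r = d := le_antisymm hrd (Nat.le_of_dvd (Nat.pos_of_ne_zero hr0) h3)
  rw [h4, Nat.sub_self, pow_zero]

end

end Cfsg.Agent.H491.One
end

-- part: H491/One/Psl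
section
/-!
# S4880: the row `PSL_m(q)`, cross characteristic (helper491, project S4880 of helper319)

* `row_psl` : `Hyp p n (PSL_m(F))`, `p ∤ |F|`, is impossible.
-/

set_option autoImplicit false

namespace Cfsg.Agent.H491.One

open Subgroup Matrix Cfsg Cfsg.Agent.H319.One
open Cfsg.Agent.ClassicalGeometry.AutPSL.Root (pr pr_surjective exists_smul_of_pr_eq)
open Cfsg.Agent.ClassicalGeometry.AutPSL.Auto (cj fld itr lift coe_cj coe_itr)

variable {F : Type} [Field F] [Fintype F] {m n p : ℕ} [hp : Fact p.Prime]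

/-- a scalar of order `p` in `SL_m` -/
theorem scalar_one (hc : ¬ (p ∣ m ∧ p ∣ Fintype.card F - 1)) {c : F} (h1 : c ^ p = 1) (h2 : c ^ m = 1) : c = 1 := by
  have hc0 : c ≠ 0 := by
    rintro rfl
    rw [zero_pow hp.out.ne_zero] at h1
    exact zero_ne_one h1
  by_cases hm : p ∣ m
  · have hq : ¬ p ∣ Fintype.card F - 1 := fun h => hc ⟨hm, h⟩
    have h3 : c ^ (Fintype.card F - 1) = 1 := FiniteField.pow_card_sub_one_eq_one c hc0
    have h4 : c ^ Nat.gcd p (Fintype.card F - 1) = 1 := pow_gcd_eq_one.2 ⟨h1, h3⟩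
    rwa [(Nat.Prime.coprime_iff_not_dvd hp.out).2 hq, pow_one] at h4
  · have h4 : c ^ Nat.gcd p m = 1 := pow_gcd_eq_one.2 ⟨h1, h2⟩
    rwa [(Nat.Prime.coprime_iff_not_dvd hp.out).2 hm, pow_one] at h4

/-- equality modulo scalars of elements of exponent `p` -/
theorem eq_of_pr (hc : ¬ (p ∣ m ∧ p ∣ Fintype.card F - 1)) (hm : 1 ≤ m) {x y : Matrix.SpecialLinearGroup (Fin m) F}
    (hx : x ^ p = 1) (hy : y ^ p = 1) (h : pr x = pr y) : y = x := by
  obtain ⟨c, hcy⟩ := exists_smul_of_pr_eq h
  have h1 : c ^ p = 1 := by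
    have h2 := congrArg (fun M : Matrix (Fin m) (Fin m) F => M ^ p) hcy
    simp only [smul_pow, ← Matrix.SpecialLinearGroup.coe_pow] at h2
    rw [hx, hy, Matrix.SpecialLinearGroup.coe_one] at h2
    have h3 := congrFun (congrFun h2 ⟨0, hm⟩) ⟨0, hm⟩
    rw [Matrix.smul_apply, Matrix.one_apply_eq, smul_eq_mul, mul_one] at h3
    exact h3.symm
  have h2 : c ^ m = 1 := by
    have h3 := congrArg Matrix.det hcy
    rw [Matrix.det_smul, x.2, y.2, mul_one, Fintype.card_fin] at h3
    exact h3.symm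
  rw [scalar_one hc h1 h2, one_smul] at hcy
  exact Subtype.ext hcy

/-- **the number of fixed vectors is invariant under automorphisms** -/
theorem fxN_aut (hc : ¬ (p ∣ m ∧ p ∣ Fintype.card F - 1)) (hm : 3 ≤ m)
    (φ : MulAut (Matrix.ProjectiveSpecialLinearGroup (Fin m) F)) {x y : Matrix.SpecialLinearGroup (Fin m) F}
    (hx : x ^ p = 1) (hy : y ^ p = 1) (h : φ (pr x) = pr y) :
    fxN (y : Matrix (Fin m) (Fin m) F) = fxN (x : Matrix (Fin m) (Fin m) F) := by
  obtain ⟨r, hr⟩ := CharP.exists F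
  have := Fact.mk (CharP.char_is_prime F r)
  have key : ∀ (A : GL (Fin m) F) (σ : F ≃+* F) (z : Matrix.SpecialLinearGroup (Fin m) F),
      fxN (((cj A * fld σ : MulAut (Matrix.SpecialLinearGroup (Fin m) F)) z : Matrix.SpecialLinearGroup (Fin m) F) :
        Matrix (Fin m) (Fin m) F) =
        fxN (z : Matrix (Fin m) (Fin m) F) := by
    intro A σ z
    rw [MulAut.mul_apply, coe_cj, fxN_conj]
    exact fxN_map σ _
  rcases ClassicalGeometry.AutPSL.Main.surj_three r hm φ with ⟨A, σ, rfl⟩ | ⟨A, σ, rfl⟩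
  · set α : MulAut (Matrix.SpecialLinearGroup (Fin m) F) := cj A * fld σ with hα
    have h1 : pr (α x) = pr y := h
    have h2 := eq_of_pr hc (by omega) (x := α x) (by rw [← map_pow, hx, map_one]) hy h1
    rw [h2, hα, key]
  · set α : MulAut (Matrix.SpecialLinearGroup (Fin m) F) := cj A * fld σ * itr with hα
    have h1 : pr (α x) = pr y := h
    have h2 := eq_of_pr hc (by omega) (x := α x) (by rw [← map_pow, hx, map_one]) hy h1
    have h3 : α x = (cj A * fld σ : MulAut (Matrix.SpecialLinearGroup (Fin m) F)) (itr x) := rfl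
    rw [h2, h3, key, coe_itr, fxN_transpose]
    apply fxN_inv
    rw [← Matrix.SpecialLinearGroup.coe_mul, inv_mul_cancel, Matrix.SpecialLinearGroup.coe_one]

omit hp in
/-- an element of `SL_m` with a block -/
theorem exists_block {ι : Type} [Fintype ι] [DecidableEq ι] (hι : Fintype.card ι ≤ m) (A : Matrix ι ι F)
    (hA : A ^ p = 1) (dA : A.det = 1) (fA : fxN A = 1) :
    ∃ x : Matrix.SpecialLinearGroup (Fin m) F, x ^ p = 1 ∧
      fxN (x : Matrix (Fin m) (Fin m) F) = Fintype.card F ^ (m - Fintype.card ι) := by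
  have hcard : Fintype.card (ι ⊕ Fin (m - Fintype.card ι)) = Fintype.card (Fin m) := by
    rw [Fintype.card_sum, Fintype.card_fin, Fintype.card_fin]
    omega
  let e := Fintype.equivOfCardEq hcard
  let B : Matrix (ι ⊕ Fin (m - Fintype.card ι)) (ι ⊕ Fin (m - Fintype.card ι)) F := fromBlocks A 0 0 1
  have hB : B ^ p = 1 := by
    show (fromBlocks A 0 0 1) ^ p = 1
    rw [fromBlocks_diagonal_pow, hA, one_pow, fromBlocks_one]
  have dB : (reindex e e B).det = 1 := by
    rw [det_reindex_self]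
    show (fromBlocks A 0 0 1).det = 1
    rw [det_fromBlocks_zero₂₁, dA, det_one, mul_one]
  let x : Matrix.SpecialLinearGroup (Fin m) F := ⟨reindex e e B, dB⟩
  refine ⟨x, ?_, ?_⟩
  · apply Subtype.ext
    have h1 : ((x ^ p : Matrix.SpecialLinearGroup (Fin m) F) : Matrix (Fin m) (Fin m) F) =
        (reindexAlgEquiv F F e B) ^ p := Matrix.SpecialLinearGroup.coe_pow x p
    refine h1.trans ?_
    rw [← map_pow, hB, map_one]
    rfl
  · show fxN (reindex e e B) = _
    rw [fxN_reindex]
    show fxN (fromBlocks A 0 0 1) = _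
    rw [fxN_fromBlocks, fA, fxN_one, one_mul, Fintype.card_fin]

/-- two elements of order `p` with different numbers of fixed vectors -/
theorem false_of_two (h : Hyp p n (Matrix.ProjectiveSpecialLinearGroup (Fin m) F))
    (hc : ¬ (p ∣ m ∧ p ∣ Fintype.card F - 1)) (hm : 3 ≤ m) {ι κ : Type} [Fintype ι] [DecidableEq ι] [Fintype κ]
    [DecidableEq κ] (hι : 0 < Fintype.card ι) (hικ : Fintype.card ι < Fintype.card κ) (hκ : Fintype.card κ ≤ m)
    (A : Matrix ι ι F) (B : Matrix κ κ F) (hA : A ^ p = 1) (hB : B ^ p = 1) (dA : A.det = 1) (dB : B.det = 1)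
    (fA : fxN A = 1) (fB : fxN B = 1) : False := by
  have hq : 1 < Fintype.card F := Fintype.one_lt_card
  obtain ⟨x, hx, fx⟩ := exists_block (m := m) (by omega) A hA dA fA
  obtain ⟨y, hy, fy⟩ := exists_block hκ B hB dB fB
  have ho : ∀ z : Matrix.SpecialLinearGroup (Fin m) F, z ^ p = 1 →
      fxN (z : Matrix (Fin m) (Fin m) F) ≠ Fintype.card F ^ m → orderOf (pr z) = p := by
    intro z hz hf
    refine orderOf_eq_prime (by rw [← map_pow, hz, map_one]) fun h1 => hf ?_
    have h2 : z = 1 := eq_of_pr hc (by omega) (one_pow p) hz (by rw [h1, map_one])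
    rw [h2, Matrix.SpecialLinearGroup.coe_one, fxN_one, Fintype.card_fin]
  have hox := ho x hx (by
    rw [fx]
    intro h1
    have := Nat.pow_right_injective hq h1
    omega)
  have hoy := ho y hy (by
    rw [fy]
    intro h1
    have := Nat.pow_right_injective hq h1
    omega)
  obtain ⟨φ, hφ⟩ := h.one _ _ hox hoy
  have h1 := fxN_aut hc hm φ hx hy hφ
  rw [fx, fy] at h1
  have := Nat.pow_right_injective hq h1
  omega

omit [Fintype F] in
theorem perm_mul_diagonal (β : Fin m → F) (σ : Equiv.Perm (Fin m)) :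
    σ.permMatrix F * diagonal β = diagonal (fun i => β (σ i)) * σ.permMatrix F := by
  ext i j
  rw [Matrix.mul_diagonal, Matrix.diagonal_mul]
  by_cases h : σ i = j
  · subst h
    ring
  · have h1 : (Equiv.Perm.permMatrix F σ) i j = 0 := by
      rw [Equiv.Perm.permMatrix, PEquiv.toMatrix_apply]
      simp [Equiv.toPEquiv_apply, h]
    rw [h1]
    ring

omit [Fintype F] in
/-- `p ∣ gcd(m, q - 1)` -/
theorem false_of_gcd (h : Hyp p n (Matrix.ProjectiveSpecialLinearGroup (Fin m) F)) (hm0 : 0 < m) (hpm : p ∣ m)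
    {a : F} (ha : a ^ p = 1) (ha1 : a ≠ 1) : False := by
  have h5 := h.five
  have hpm' : p ≤ m := Nat.le_of_dvd hm0 hpm
  have ha0 : a ≠ 0 := by
    rintro rfl
    rw [zero_pow hp.out.ne_zero] at ha
    exact zero_ne_one ha
  -- a permutation of order `p`
  obtain ⟨σ, hσ⟩ : ∃ σ : Equiv.Perm (Fin m), orderOf σ = p := by
    apply exists_prime_orderOf_dvd_card p
    rw [Fintype.card_perm, Fintype.card_fin]
    exact (hp.out.dvd_factorial).2 hpm'
  have hσp : σ ^ p = 1 := by rw [← hσ, pow_orderOf_eq_one]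
  have hσ1 : σ ≠ 1 := by
    rintro rfl
    rw [orderOf_one] at hσ
    exact hp.out.one_lt.ne hσ
  have hodd : Odd p := hp.out.odd_of_ne_two (by omega)
  have hsign : Equiv.Perm.sign σ = 1 := by
    rcases Int.units_eq_one_or (Equiv.Perm.sign σ) with h1 | h1
    · exact h1
    · exfalso
      have h2 := congrArg Equiv.Perm.sign hσp
      rw [map_pow, h1, map_one, hodd.neg_one_pow] at h2
      exact absurd h2 (by decide)
  obtain ⟨k, hk⟩ : ∃ k, σ k ≠ k := by
    by_contra hcon
    push Not at hcon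
    exact hσ1 (Equiv.ext hcon)
  have hk2 : σ (σ k) ≠ k := by
    intro h1
    apply hk
    have h2 : ∀ j : ℕ, (σ ^ (2 * j)) k = k := by
      intro j
      induction j with
      | zero => rfl
      | succ j ih =>
        rw [show 2 * (j + 1) = 2 * j + 2 by ring, pow_add, Equiv.Perm.mul_apply]
        have h3 : (σ ^ 2) k = k := by rw [sq, Equiv.Perm.mul_apply, h1]
        rw [h3, ih]
    obtain ⟨j, hj⟩ := hodd
    have h3 : (σ ^ p) k = k := by rw [hσp, Equiv.Perm.one_apply]
    rw [hj, pow_succ', Equiv.Perm.mul_apply, h2] at h3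
    exact h3
  have hk3 : σ (σ k) ≠ σ k := fun h1 => hk (σ.injective h1)
  -- the matrices
  let c : Matrix.SpecialLinearGroup (Fin m) F := ⟨σ.permMatrix F, by
    rw [det_permutation, hsign]
    simp⟩
  let D : Subgroup (Matrix.SpecialLinearGroup (Fin m) F) :=
    { carrier := {x | (∃ β : Fin m → F, (x : Matrix (Fin m) (Fin m) F) = diagonal β) ∧ x ^ p = 1}
      one_mem' := ⟨⟨fun _ => 1, by rw [Matrix.SpecialLinearGroup.coe_one, diagonal_one]⟩, one_pow p⟩
      mul_mem' := by
        rintro x y ⟨⟨β, hβ⟩, hx⟩ ⟨⟨γ, hγ⟩, hy⟩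
        refine ⟨⟨fun i => β i * γ i, by rw [Matrix.SpecialLinearGroup.coe_mul, hβ, hγ, diagonal_mul_diagonal]⟩, ?_⟩
        have hcomm : Commute x y := by
          apply Subtype.ext
          rw [Matrix.SpecialLinearGroup.coe_mul, Matrix.SpecialLinearGroup.coe_mul, hβ, hγ, diagonal_mul_diagonal,
            diagonal_mul_diagonal]
          congr 1
          funext i
          exact mul_comm _ _
        rw [hcomm.mul_pow, hx, hy, one_mul]
      inv_mem' := by
        rintro x ⟨⟨β, hβ⟩, hx⟩
        have h1 : ∏ i, β i = 1 := by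
          have := x.2
          change (x : Matrix (Fin m) (Fin m) F).det = 1 at this
          rwa [hβ, det_diagonal] at this
        have h2 : ∀ i, β i ≠ 0 := fun i h0 => by
          have := Finset.prod_eq_zero (Finset.mem_univ i) h0
          rw [h1] at this
          exact one_ne_zero this
        refine ⟨⟨fun i => (β i)⁻¹, ?_⟩, by rw [inv_pow, hx, inv_one]⟩
        let y : Matrix.SpecialLinearGroup (Fin m) F :=
          ⟨diagonal (fun i => (β i)⁻¹), by rw [det_diagonal, Finset.prod_inv_distrib, h1, inv_one]⟩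
        have h3 : x * y = 1 := by
          apply Subtype.ext
          rw [Matrix.SpecialLinearGroup.coe_mul, hβ, Matrix.SpecialLinearGroup.coe_one]
          show diagonal β * diagonal (fun i => (β i)⁻¹) = 1
          rw [diagonal_mul_diagonal]
          have h4 : (fun i => β i * (β i)⁻¹) = fun _ => (1 : F) := funext fun i => mul_inv_cancel₀ (h2 i)
          rw [h4, diagonal_one]
        rw [← eq_inv_of_mul_eq_one_right h3] }
  have hD : IsPGroup p D := fun x => ⟨1, Subtype.ext (by rw [pow_one]; exact x.2.2)⟩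
  have hcD : ∀ x ∈ D, c * x * c⁻¹ ∈ D := by
    rintro x ⟨⟨β, hβ⟩, hx⟩
    refine ⟨⟨fun i => β (σ i), ?_⟩, by rw [conj_pow, hx, mul_one, mul_inv_cancel]⟩
    have h1 : ((c * x : Matrix.SpecialLinearGroup (Fin m) F) : Matrix (Fin m) (Fin m) F) =
        diagonal (fun i => β (σ i)) * (c : Matrix (Fin m) (Fin m) F) := by
      rw [Matrix.SpecialLinearGroup.coe_mul, hβ]
      exact perm_mul_diagonal β σ
    rw [Matrix.SpecialLinearGroup.coe_mul, h1, mul_assoc, ← Matrix.SpecialLinearGroup.coe_mul, mul_inv_cancel,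
      Matrix.SpecialLinearGroup.coe_one, mul_one]
  have hcp : c ^ p = 1 := by
    have key : ∀ (j : ℕ) (v : Fin m → F), ((c ^ j : Matrix.SpecialLinearGroup (Fin m) F) : Matrix (Fin m) (Fin m) F) *ᵥ v =
        v ∘ (σ ^ j : Equiv.Perm (Fin m)) := by
      intro j
      induction j with
      | zero =>
        intro v
        rw [pow_zero, pow_zero, Matrix.SpecialLinearGroup.coe_one, one_mulVec]
        rfl
      | succ j ih =>
        intro v
        rw [pow_succ, pow_succ', Matrix.SpecialLinearGroup.coe_mul, ← mulVec_mulVec, ih]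
        have h1 : (c : Matrix (Fin m) (Fin m) F) *ᵥ v = v ∘ σ := permMatrix_mulVec σ
        rw [h1]
        rfl
    apply Subtype.ext
    apply Matrix.toLin'.injective
    apply LinearMap.ext
    intro v
    rw [Matrix.toLin'_apply, Matrix.toLin'_apply, key, hσp, Matrix.SpecialLinearGroup.coe_one, one_mulVec]
    rfl
  have hZ : IsPGroup p (zpowers c) := by
    intro x
    obtain ⟨j, hj⟩ := x.2
    refine ⟨1, Subtype.ext ?_⟩
    show (x : Matrix.SpecialLinearGroup (Fin m) F) ^ p ^ 1 = 1
    rw [← hj, pow_one]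
    show (c ^ j) ^ p = 1
    rw [← _root_.zpow_natCast, ← _root_.zpow_mul, mul_comm, _root_.zpow_mul, _root_.zpow_natCast, hcp,
      _root_.one_zpow]
  have hnorm : zpowers c ≤ normalizer (D : Set (Matrix.SpecialLinearGroup (Fin m) F)) := by
    rw [zpowers_le, mem_normalizer_iff]
    intro x
    refine ⟨hcD x, fun hx => ?_⟩
    have hinv : ∀ j : ℕ, ∀ y ∈ D, c ^ j * y * (c ^ j)⁻¹ ∈ D := by
      intro j
      induction j with
      | zero => intro y hy; simpa using hy
      | succ j ih =>
        intro y hy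
        have := hcD _ (ih y hy)
        rw [pow_succ']
        convert this using 1
        group
    have h1 := hinv (p - 1) _ hx
    have h2 : c ^ (p - 1) * (c * x * c⁻¹) * (c ^ (p - 1))⁻¹ = x := by
      have h3 : c ^ (p - 1) * c = 1 := by
        rw [← pow_succ, Nat.sub_add_cancel hp.out.one_lt.le, hcp]
      calc c ^ (p - 1) * (c * x * c⁻¹) * (c ^ (p - 1))⁻¹ = (c ^ (p - 1) * c) * x * (c ^ (p - 1) * c)⁻¹ := by group
        _ = x := by rw [h3]; group
    rwa [h2] at h1
  have hQ : IsPGroup p (zpowers c ⊔ D : Subgroup (Matrix.SpecialLinearGroup (Fin m) F)) :=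
    hZ.to_sup_of_normal_right' hD hnorm
  -- the diagonal matrix
  set β : Fin m → F := fun i => if i = k then a else if i = σ k then a⁻¹ else 1 with hβ
  have hβk : β k = a := by rw [hβ]; simp
  have hβk1 : β (σ k) = a⁻¹ := by rw [hβ]; simp [hk]
  have hβk2 : β (σ (σ k)) = 1 := by rw [hβ]; simp [hk2, hk3]
  have hprod : ∏ i, β i = 1 := by
    have h1 : ∀ i, β i = (if i = k then a else 1) * (if i = σ k then a⁻¹ else 1) := by
      intro i
      rw [hβ]
      by_cases h1 : i = k
      · subst h1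
        simp [hk.symm]
      · simp [h1]
    rw [Finset.prod_congr rfl (fun i _ => h1 i), Finset.prod_mul_distrib, Finset.prod_ite_eq' Finset.univ,
      Finset.prod_ite_eq' Finset.univ]
    simp only [ha0, _root_.Finset.mem_univ, ↓ _root_.reduceIte, _root_.ne_eq, _root_.not_false_eq_true, _root_.mul_inv_cancel₀]
  let t : Matrix.SpecialLinearGroup (Fin m) F := ⟨diagonal β, by rw [det_diagonal, hprod]⟩
  have ht : t ∈ D := by
    refine ⟨⟨β, rfl⟩, ?_⟩
    apply Subtype.ext
    rw [Matrix.SpecialLinearGroup.coe_pow, Matrix.SpecialLinearGroup.coe_one]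
    show diagonal β ^ p = 1
    rw [diagonal_pow]
    have h1 : β ^ p = fun _ => 1 := by
      funext i
      rw [Pi.pow_apply, hβ]
      simp only
      split_ifs
      · exact ha
      · rw [inv_pow, ha, inv_one]
      · exact one_pow p
    rw [h1, diagonal_one]
  have hcomm := h.comm ((zpowers c ⊔ D).map pr) (hQ.map _) (pr c) ⟨c, mem_sup_left (mem_zpowers c), rfl⟩ (pr t)
    ⟨t, mem_sup_right ht, rfl⟩
  rw [← map_mul, ← map_mul] at hcomm
  obtain ⟨z, hz⟩ := exists_smul_of_pr_eq hcomm
  rw [Matrix.SpecialLinearGroup.coe_mul, Matrix.SpecialLinearGroup.coe_mul] at hz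
  have h1 : (c : Matrix (Fin m) (Fin m) F) * (t : Matrix (Fin m) (Fin m) F) =
      diagonal (fun i => β (σ i)) * (c : Matrix (Fin m) (Fin m) F) := perm_mul_diagonal β σ
  rw [h1] at hz
  have h2 : (t : Matrix (Fin m) (Fin m) F) = z • diagonal (fun i => β (σ i)) := by
    have h3 : (c : Matrix (Fin m) (Fin m) F) * ((c⁻¹ : Matrix.SpecialLinearGroup (Fin m) F) : Matrix (Fin m) (Fin m) F) = 1 := by
      rw [← Matrix.SpecialLinearGroup.coe_mul, mul_inv_cancel, Matrix.SpecialLinearGroup.coe_one]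
    have h4 := congrArg (fun M => M * ((c⁻¹ : Matrix.SpecialLinearGroup (Fin m) F) : Matrix (Fin m) (Fin m) F)) hz
    simp only [smul_mul_assoc, mul_assoc, h3, mul_one] at h4
    exact h4
  have h3 : ∀ i, β i = z * β (σ i) := by
    intro i
    have h4 := congrFun (congrFun h2 i) i
    change (diagonal β) i i = _ at h4
    rw [diagonal_apply_eq, Matrix.smul_apply, diagonal_apply_eq, smul_eq_mul] at h4
    exact h4
  have h4 := h3 k
  have h6 := h3 (σ k)
  rw [hβk, hβk1] at h4
  rw [hβk1, hβk2, mul_one] at h6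
  -- `z = a⁻¹`, `a = a⁻²`
  have h7 : a ^ 3 = 1 := by
    rw [← h6] at h4
    field_simp at h4
    linear_combination h4
  have h8 : a ^ Nat.gcd p 3 = 1 := pow_gcd_eq_one.2 ⟨ha, h7⟩
  have h9 : Nat.gcd p 3 = 1 := (Nat.coprime_primes hp.out Nat.prime_three).2 (by omega)
  rw [h9, pow_one] at h8
  exact ha1 h8

theorem order_iff {q u e : ℕ} (hq : 0 < q) (h : orderOf (q : ZMod u) = e) (j : ℕ) :
    u ∣ q ^ j - 1 ↔ e ∣ j := by
  rw [← h, orderOf_dvd_iff_pow_eq_one, ← Nat.cast_pow]
  have h1 : 1 ≤ q ^ j := Nat.one_le_pow _ _ hq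
  constructor
  · rintro h2
    have h3 : ((q ^ j - 1 : ℕ) : ZMod u) = 0 := (ZMod.natCast_eq_zero_iff _ _).2 h2
    rw [Nat.cast_sub h1, Nat.cast_one] at h3
    exact sub_eq_zero.1 h3
  · intro h2
    rw [← ZMod.natCast_eq_zero_iff, Nat.cast_sub h1, h2, Nat.cast_one, sub_self]

/-- **The row `PSL_m(q)`, cross characteristic.** -/
theorem row_psl (hm : 2 ≤ m) (hpF : ¬ p ∣ Fintype.card F)
    (h : Hyp p n (Matrix.ProjectiveSpecialLinearGroup (Fin m) F)) : False := by
  have h5 := h.five
  have hq : 1 < Fintype.card F := Fintype.one_lt_card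
  have hfin : Finite (Matrix.ProjectiveSpecialLinearGroup (Fin m) F) := inferInstance
  obtain ⟨P⟩ : Nonempty (Sylow p (Matrix.ProjectiveSpecialLinearGroup (Fin m) F)) := inferInstance
  set d := orderOf ((Fintype.card F : ℕ) : ZMod p) with hd
  have hiff := order_iff (u := p) (by omega : 0 < Fintype.card F) hd.symm
  have hd0 : 0 < d := by
    have h1 : ((Fintype.card F : ℕ) : ZMod p) ≠ 0 := by
      rwa [Ne, ZMod.natCast_eq_zero_iff]
    have h2 := ZMod.pow_card_sub_one_eq_one h1
    exact Nat.pos_of_dvd_of_pos (orderOf_dvd_of_pow_eq_one h2) (by omega)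
  rcases Nat.lt_or_ge 1 d with hd1 | hd1
  · -- `d ≥ 2`
    have hq1 : ¬ p ∣ Fintype.card F - 1 := by
      intro h1
      have h2 := (hiff 1).1 (by rwa [pow_one])
      have := Nat.le_of_dvd one_pos h2
      omega
    rcases Nat.lt_or_ge m (2 * d) with hmd | hmd
    · exact h.not_cyclic P (H124.LinCyc.isCyclic_sylow_of_gl (ι := Fin m) (by omega) hd0 hiff
        (by rw [Fintype.card_fin]; exact hmd)
        (Matrix.SpecialLinearGroup.toGL : Matrix.SpecialLinearGroup (Fin m) F →* GL (Fin m) F)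
        (fun a b hab => Subtype.ext (congrArg Units.val hab)) pr pr_surjective P)
    · obtain ⟨A, hA, fA⟩ := exists_free hd0 hiff
      have dA : A.det = 1 := by
        have h1 : A.det ^ p = 1 := by rw [← det_pow, hA, det_one]
        have h0 : A.det ≠ 0 := by
          intro h0
          rw [h0, zero_pow hp.out.ne_zero] at h1
          exact zero_ne_one h1
        have h2 : A.det ^ Nat.gcd p (Fintype.card F - 1) = 1 :=
          pow_gcd_eq_one.2 ⟨h1, FiniteField.pow_card_sub_one_eq_one _ h0⟩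
        rwa [(Nat.Prime.coprime_iff_not_dvd hp.out).2 hq1, pow_one] at h2
      refine false_of_two h (fun h1 => hq1 h1.2) (by omega) (ι := Fin d) (κ := Fin d ⊕ Fin d) (by rwa [Fintype.card_fin])
        (by rw [Fintype.card_sum, Fintype.card_fin]; omega) (by rw [Fintype.card_sum, Fintype.card_fin]; omega)
        A (fromBlocks A 0 0 A) hA ?_ dA ?_ fA ?_
      · rw [fromBlocks_diagonal_pow, hA, fromBlocks_one]
      · rw [det_fromBlocks_zero₂₁, dA, mul_one]
      · rw [fxN_fromBlocks, fA]
  · -- `d = 1`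
    have hd2 : d = 1 := by omega
    have hq1 : p ∣ Fintype.card F - 1 := by
      have := (hiff 1).2 (by rw [hd2])
      rwa [pow_one] at this
    obtain ⟨u, hu⟩ : ∃ u : Fˣ, orderOf u = p := by
      apply exists_prime_orderOf_dvd_card' p
      rw [Nat.card_units, Nat.card_eq_fintype_card]
      exact hq1
    set a : F := (u : F) with ha
    have hap : a ^ p = 1 := by
      rw [ha, ← Units.val_pow_eq_pow_val, ← hu, pow_orderOf_eq_one, Units.val_one]
    have ha1 : a ≠ 1 := by
      intro h1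
      have h2 : u = 1 := Units.ext h1
      rw [h2, orderOf_one] at hu
      exact hp.out.one_lt.ne hu
    have ha0 : a ≠ 0 := u.ne_zero
    rcases Nat.lt_or_ge m 3 with hm3 | hm3
    · have hm2 : m = 2 := by omega
      subst hm2
      refine h.not_cyclic P ?_
      by_cases hodd : Odd (Fintype.card F)
      · exact Lib.PSL2Mult.isCyclic_sylow_psl hodd (by omega) hpF P
      · obtain ⟨r, hr⟩ := CharP.exists F
        have hrp := CharP.char_is_prime F r
        obtain ⟨f, -, hf⟩ := FiniteField.card F r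
        have h2 : 2 ∣ r ^ (f : ℕ) := by
          rw [← hf]
          exact even_iff_two_dvd.1 (Nat.not_odd_iff_even.1 hodd)
        have h3 : 2 = r := (Nat.prime_dvd_prime_iff_eq Nat.prime_two hrp).1 (Nat.prime_two.dvd_of_dvd_pow h2)
        subst h3
        exact StdL2.Cover.isCyclic_sylow_even (a := (f : ℕ)) f.pos hf (by omega) P
    · by_cases hpm : p ∣ m
      · exact false_of_gcd h (by omega) hpm hap ha1
      · have ha2 : a⁻¹ ^ 2 ≠ 1 := by
          intro h1
          apply ha1
          have h2 : a ^ 2 = 1 := by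
            rw [inv_pow, inv_eq_one] at h1
            exact h1
          have h3 : a ^ Nat.gcd p 2 = 1 := pow_gcd_eq_one.2 ⟨hap, h2⟩
          rwa [(Nat.coprime_primes hp.out Nat.prime_two).2 (by omega), pow_one] at h3
        have hai : a⁻¹ ≠ 1 := by rwa [Ne, inv_eq_one]
        refine false_of_two h (fun h1 => hpm h1.1) (by omega) (ι := Fin 2) (κ := Fin 3) (by simp) (by simp)
          (by simpa using hm3) (diagonal ![a, a⁻¹]) (diagonal ![a, a, a⁻¹ ^ 2]) ?_ ?_ ?_ ?_ ?_ ?_
        · rw [diagonal_pow]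
          have h1 : (![a, a⁻¹] : Fin 2 → F) ^ p = fun _ => 1 := by
            funext i
            fin_cases i
            · exact hap
            · show a⁻¹ ^ p = 1
              rw [inv_pow, hap, inv_one]
          rw [h1, diagonal_one]
        · rw [diagonal_pow]
          have h1 : (![a, a, a⁻¹ ^ 2] : Fin 3 → F) ^ p = fun _ => 1 := by
            funext i
            fin_cases i
            · exact hap
            · exact hap
            · show (a⁻¹ ^ 2) ^ p = 1
              rw [← pow_mul, mul_comm, pow_mul, inv_pow, hap, inv_one, one_pow]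
          rw [h1, diagonal_one]
        · rw [det_diagonal, Fin.prod_univ_two]
          exact mul_inv_cancel₀ ha0
        · rw [det_diagonal, Fin.prod_univ_three]
          show a * a * a⁻¹ ^ 2 = 1
          field_simp
        · apply fxN_diagonal
          intro i
          fin_cases i
          · exact ha1
          · exact hai
        · apply fxN_diagonal
          intro i
          fin_cases i
          · exact ha1
          · exact ha1
          · exact ha2

end Cfsg.Agent.H491.One
end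

-- part: H144/One/Fix
section
/-!
# S4880, `PSU`: dimensions of fixed spaces (helper144)
-/

set_option autoImplicit false

namespace Cfsg.Agent.H144.One

open Matrix Module

variable {F : Type} [Field F] {m : ℕ}

/-- dimension of the fixed space -/
noncomputable def fd (A : Matrix (Fin m) (Fin m) F) : ℕ := finrank F (LinearMap.ker (Matrix.toLin' (A - 1)))

theorem fd_add_rank (A : Matrix (Fin m) (Fin m) F) : fd A + (A - 1).rank = m := by
  have h1 := LinearMap.finrank_range_add_finrank_ker (Matrix.toLin' (A - 1))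
  rw [Module.finrank_fin_fun] at h1
  have h2 : (A - 1).rank = finrank F (LinearMap.range (Matrix.toLin' (A - 1))) := rfl
  rw [fd, h2]
  omega

variable [Fintype F]

theorem card_fix (A : Matrix (Fin m) (Fin m) F) : Nat.card {v : Fin m → F // A *ᵥ v = v} = Fintype.card F ^ fd A := by
  classical
  have h1 : Nat.card (LinearMap.ker (Matrix.toLin' (A - 1))) = Fintype.card F ^ fd A := by
    rw [fd, Nat.card_eq_fintype_card, ← Module.card_eq_pow_finrank (K := F)]
  rw [← h1]
  refine Nat.card_congr (Equiv.subtypeEquivRight fun v => ?_)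
  rw [LinearMap.mem_ker, Matrix.toLin'_apply, Matrix.sub_mulVec, Matrix.one_mulVec, sub_eq_zero]

theorem fd_eq {A B : Matrix (Fin m) (Fin m) F} (e : {v : Fin m → F // A *ᵥ v = v} ≃ {v : Fin m → F // B *ᵥ v = v}) :
    fd A = fd B := by
  have h1 := Nat.card_congr e
  rw [card_fix, card_fix] at h1
  exact Nat.pow_right_injective Fintype.one_lt_card h1

/-- semilinear conjugation -/
theorem fd_semi {A B g h : Matrix (Fin m) (Fin m) F} (σ : F ≃+* F) (hgh : g * h = 1)
    (hB : B = g * A.map σ * h) : fd A = fd B := by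
  have hhg : h * g = 1 := mul_eq_one_comm.1 hgh
  have key : ∀ v : Fin m → F, (A.map σ) *ᵥ (fun i => σ (v i)) = fun i => σ ((A *ᵥ v) i) := by
    intro v
    funext i
    simp only [Matrix.mulVec, dotProduct, _root_.Matrix.map_apply, _root_.map_sum, _root_.map_mul]
  have key2 : ∀ v : Fin m → F, B *ᵥ (g *ᵥ fun i => σ (v i)) = g *ᵥ fun i => σ ((A *ᵥ v) i) := by
    intro v
    rw [hB, Matrix.mulVec_mulVec, Matrix.mul_assoc, Matrix.mul_assoc, hhg, Matrix.mul_one, ← key v,
      Matrix.mulVec_mulVec]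
  refine fd_eq ⟨fun v => ⟨g *ᵥ fun i => σ (v.1 i), ?_⟩, fun w => ⟨fun i => σ.symm ((h *ᵥ w.1) i), ?_⟩, ?_, ?_⟩
  · rw [key2, v.2]
  · have hw : g *ᵥ (fun i => σ (σ.symm ((h *ᵥ w.1) i))) = w.1 := by
      have h1 : (fun i => σ (σ.symm ((h *ᵥ w.1) i))) = h *ᵥ w.1 := by
        funext i
        exact σ.apply_symm_apply _
      rw [h1, Matrix.mulVec_mulVec, hgh, Matrix.one_mulVec]
    have h2 := key2 (fun i => σ.symm ((h *ᵥ w.1) i))
    rw [hw, w.2] at h2
    -- apply `h` and `σ.symm`
    have h3 : h *ᵥ w.1 = h *ᵥ (g *ᵥ fun i => σ ((A *ᵥ fun i => σ.symm ((h *ᵥ w.1) i)) i)) := congrArg (fun u => h *ᵥ u) h2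
    rw [Matrix.mulVec_mulVec _ h g, hhg, Matrix.one_mulVec] at h3
    funext i
    have h4 := congrFun h3 i
    apply σ.injective
    rw [← h4, σ.apply_symm_apply]
  · intro v
    apply Subtype.ext
    funext i
    change σ.symm ((h *ᵥ (g *ᵥ fun i => σ (v.1 i))) i) = v.1 i
    rw [Matrix.mulVec_mulVec, hhg, Matrix.one_mulVec]
    exact σ.symm_apply_apply _
  · intro w
    apply Subtype.ext
    have h1 : (fun i => σ (σ.symm ((h *ᵥ w.1) i))) = h *ᵥ w.1 := by
      funext i
      exact σ.apply_symm_apply _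
    change g *ᵥ (fun i => σ (σ.symm ((h *ᵥ w.1) i))) = w.1
    rw [h1, Matrix.mulVec_mulVec, hgh, Matrix.one_mulVec]

omit [Fintype F] in
theorem fd_diagonal (β : Fin m → F) : fd (diagonal β) + Nat.card {i // β i ≠ 1} = m := by
  classical
  have h1 := fd_add_rank (diagonal β)
  have h2 : (diagonal β - 1 : Matrix (Fin m) (Fin m) F) = diagonal (fun i => β i - 1) := by
    rw [← diagonal_one, diagonal_sub]
  rw [h2, rank_diagonal] at h1
  rw [Nat.card_eq_fintype_card]
  have h3 : Fintype.card {i // β i - 1 ≠ 0} = Fintype.card {i // β i ≠ 1} :=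
    Fintype.card_congr (Equiv.subtypeEquivRight fun i => by rw [sub_ne_zero])
  rw [← h3]
  exact h1

end Cfsg.Agent.H144.One
end

-- part: H144/One/PSU
section
/-!
# S4880: `PSU_m(q)`, cross characteristic (helper144)
-/

set_option autoImplicit false

open Cfsg Subgroup

namespace Cfsg.Agent.H144.One

open Cfsg.Agent.H319.One Cfsg.Agent.H634.HypS Cfsg.Agent.H634.Dim Cfsg.Agent.H634.Num Cfsg.Agent.H634.El
  Cfsg.Agent.LieClassical.SUBasic Cfsg.Agent.ClassicalGeometry.PSUAutCount Cfsg.Agent.LieClassical.HermSiegel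
  Cfsg.Agent.H198.UnitGamma Matrix

variable {p n : ℕ} [hp : Fact p.Prime] {F : Type} [Field F] [Fintype F] {m q : ℕ}

/-- automorphisms preserve the dimension of the fixed space of the lifts of order `p` -/
theorem fd_inv (hF : Fintype.card F = q ^ 2) (hm : 3 ≤ m) (h32 : ¬ (m = 3 ∧ q = 2)) (hc : ¬ p ∣ Nat.gcd m (q + 1))
    (φ : MulAut (PSU m F q)) (x y : SU m F q) (hx : x ^ p = 1) (hy : y ^ p = 1)
    (h : φ (QuotientGroup.mk x) = QuotientGroup.mk y) : fd (mat x) = fd (mat y) := by
  obtain ⟨A, ρ, rfl⟩ := ClassicalGeometry.PSUAutMain.exists_toAut hF hm h32 φ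
  rw [mk_toAut] at h
  have h1 : (semiConj A ρ x)⁻¹ * y ∈ Subgroup.center (SU m F q) := QuotientGroup.eq.1 h
  obtain ⟨c, hcn, hcq, hz⟩ := (mem_center_SU_iff hF hm _).1 h1
  set z : SU m F q := suScalar q c hcn hcq with hzdef
  have hyz : y = semiConj A ρ x * z := by rw [← hz]; group
  have hzc : z ∈ Subgroup.center (SU m F q) := by rw [← hz]; exact h1
  have hsx : (semiConj A ρ x) ^ p = 1 := by rw [← map_pow, hx, map_one]
  have hzp : z ^ p = 1 := by
    have h2 : Commute (semiConj A ρ x) z := (Subgroup.mem_center_iff.1 hzc _)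
    have h3 : y ^ p = (semiConj A ρ x) ^ p * z ^ p := by rw [hyz, h2.mul_pow]
    rw [hy, hsx, one_mul] at h3
    exact h3.symm
  have hz1 : z = 1 := by
    have h4 : z ^ Nat.gcd m (q + 1) = 1 := su_center_pow hcn hcq (pow_gcd_eq_one.2 ⟨hcn, hcq⟩)
    have h5 : z ^ Nat.gcd p (Nat.gcd m (q + 1)) = 1 := pow_gcd_eq_one.2 ⟨hzp, h4⟩
    rwa [(Nat.Prime.coprime_iff_not_dvd hp.out).2 hc, pow_one] at h5
  rw [hz1, mul_one] at hyz
  rw [hyz]
  exact fd_semi ρ (by rw [← gm_mul, mul_inv_cancel, gm_one]) (mat_semiConj A ρ x)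

/-- `p ∣ q + 1`, `p ≤ m` -/
theorem psu_notAb (hF : Fintype.card F = q ^ 2) (hp5 : 5 ≤ p) (hq : p ∣ q + 1) (hpm : p ≤ m) :
    H800.Sp.NotAb p (PSU m F q) := by
  obtain ⟨hq0, f, hf⟩ := H104.RowPSU.exists_frobF hF
  have hqF : p ∣ Fintype.card F - 1 := by
    rw [hF]
    have : q ^ 2 - 1 = (q + 1) * (q - 1) := by
      have := Nat.sq_sub_sq q 1
      simpa only [_root_.one_pow] using this
    rw [this]
    exact Dvd.dvd.mul_right hq _
  obtain ⟨a, ha, ha1⟩ := H104.RowPSL.exists_root hqF
  refine H795.Split.big_proj (by omega) (H795.Split.hasMon_su hF hq) (by omega) hpm ha ha1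
    (QuotientGroup.mk' (Subgroup.center (SU m F q))) ?_
  intro z
  rw [H104.RowPSU.mk_eq_one_iff hF (by omega) z]
  constructor
  · rintro ⟨c, -, -, h⟩
    exact ⟨c, h⟩
  · rintro ⟨c, h⟩
    have h' : ((z : Matrix.SpecialLinearGroup (Fin m) F) : Matrix (Fin m) (Fin m) F) = Matrix.scalar (Fin m) c := h
    refine ⟨c, ?_, ?_, h⟩
    · have h1 := H795.Split.det_mt z
      rw [h] at h1
      simpa only [_root_.Matrix.scalar_apply, _root_.Matrix.det_diagonal, _root_.Finset.prod_const, _root_.Finset.card_univ, _root_.Fintype.card_fin] using h1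
    · have h1 : ((z : Matrix.SpecialLinearGroup (Fin m) F) : Matrix (Fin m) (Fin m) F).transpose *
        ((z : Matrix.SpecialLinearGroup (Fin m) F) : Matrix (Fin m) (Fin m) F).map f = 1 :=
        (H104.RowPSU.mem_SU_iff hf _).1 z.2
      rw [h', show Matrix.scalar (Fin m) c = diagonal fun _ => c from rfl, diagonal_transpose,
        Matrix.diagonal_map (map_zero f), diagonal_mul_diagonal] at h1
      have h2 := congrFun (congrFun h1 ⟨0, by omega⟩) ⟨0, by omega⟩
      rw [diagonal_apply_eq, one_apply_eq] at h2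
      rw [pow_succ', ← hf]
      exact h2

omit hp [Fintype F] in
theorem false_of_notAb {S : Type*} [Group S] [Finite S] [Fact p.Prime] (h : H319.One.Hyp p n S) (h' : H800.Sp.NotAb p S) : False := by
  obtain ⟨P⟩ : Nonempty (Sylow p S) := inferInstance
  refine h' P ⟨⟨fun a b => Subtype.ext ?_⟩⟩
  exact h.comm P P.2 a a.2 b b.2

omit [Fintype F] hp in
theorem prod_three {k l o : Fin m} (hkl : k ≠ l) (hko : k ≠ o) (hlo : l ≠ o) (a b c : F) :
    ∏ i, (if i = k then a else if i = l then b else if i = o then c else 1) = a * b * c := by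
  have h1 : ∀ i : Fin m, (if i = k then a else if i = l then b else if i = o then c else 1) =
      (if i = k then a else 1) * (if i = l then b else 1) * (if i = o then c else 1) := by
    intro i
    by_cases h1 : i = k
    · subst h1
      simp [hkl, hko]
    · by_cases h2 : i = l
      · subst h2
        simp [h1, hlo]
      · simp [h1, h2]
  rw [Finset.prod_congr rfl fun i _ => h1 i, Finset.prod_mul_distrib, Finset.prod_mul_distrib,
    Finset.prod_ite_eq' Finset.univ k, Finset.prod_ite_eq' Finset.univ l, Finset.prod_ite_eq' Finset.univ o]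
  simp only [_root_.Finset.mem_univ, ↓ _root_.reduceIte]

theorem order_mk (hF : Fintype.card F = q ^ 2) (hm : 3 ≤ m) {x : SU m F q} (hx : x ^ p = 1)
    {i j : Fin m} (hij : mat x i i ≠ mat x j j) : orderOf (QuotientGroup.mk x : PSU m F q) = p := by
  apply orderOf_eq_prime
  · rw [← QuotientGroup.mk_pow, hx]
    rfl
  · intro h
    have h1 : x ∈ Subgroup.center (SU m F q) := (QuotientGroup.eq_one_iff x).1 h
    obtain ⟨c, hcn, hcq, hz⟩ := (mem_center_SU_iff hF hm _).1 h1
    apply hij
    rw [hz, mat_def, coe_suScalar, diagonal_apply_eq, diagonal_apply_eq]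

theorem small (hF : Fintype.card F = q ^ 2) (hm : 3 ≤ m) (h32 : ¬ (m = 3 ∧ q = 2)) (hq : p ∣ q + 1) (hmp : m < p)
    (h : H319.One.Hyp p n (PSU m F q)) : False := by
  classical
  have hp5 := h.five
  have hqF : p ∣ Fintype.card F - 1 := by
    rw [hF]
    have : q ^ 2 - 1 = (q + 1) * (q - 1) := by
      have := Nat.sq_sub_sq q 1
      simpa only [_root_.one_pow] using this
    rw [this]
    exact Dvd.dvd.mul_right hq _
  obtain ⟨a, ha, ha1⟩ := H104.RowPSL.exists_root hqF
  have ha0 : a ≠ 0 := H795.Split.ne_zero_of_pow ha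
  have hord : orderOf a = p := orderOf_eq_prime ha ha1
  have hH := H795.Split.hasMon_su (n := m) (p := p) hF hq
  let k : Fin m := ⟨0, by omega⟩
  let l : Fin m := ⟨1, by omega⟩
  let o : Fin m := ⟨2, by omega⟩
  have hkl : k ≠ l := by simp [k, l]
  have hko : k ≠ o := by simp [k, o]
  have hlo : l ≠ o := by simp [l, o]
  have ha2 : a ^ 2 ≠ 1 := by
    intro h2
    have := orderOf_dvd_of_pow_eq_one h2
    rw [hord] at this
    have := Nat.le_of_dvd (by norm_num) this
    omega
  have ha3 : a ^ 3 ≠ 1 := by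
    intro h2
    have := orderOf_dvd_of_pow_eq_one h2
    rw [hord] at this
    have := Nat.le_of_dvd (by norm_num) this
    omega
  let β : Fin m → F := fun i => if i = k then a else if i = l then a⁻¹ else if i = o then 1 else 1
  let γ : Fin m → F := fun i => if i = k then a else if i = l then a else if i = o then (a ^ 2)⁻¹ else 1
  have hai : a⁻¹ ≠ 1 := inv_ne_one.2 ha1
  have ha2i : (a ^ 2)⁻¹ ≠ 1 := inv_ne_one.2 ha2
  have hβp : ∀ i, β i ^ p = 1 := by
    intro i
    simp only [β]
    split_ifs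
    · exact ha
    · rw [inv_pow, ha, inv_one]
    · exact one_pow p
    · exact one_pow p
  have hγp : ∀ i, γ i ^ p = 1 := by
    intro i
    simp only [γ]
    split_ifs
    · exact ha
    · exact ha
    · rw [inv_pow, ← pow_mul, mul_comm, pow_mul, ha, one_pow, inv_one]
    · exact one_pow p
  obtain ⟨x, hx⟩ := H795.Split.exists_diag hH (β := β) (by
    rw [prod_three hkl hko hlo, mul_one, mul_inv_cancel₀ ha0]) hβp
  obtain ⟨y, hy⟩ := H795.Split.exists_diag hH (β := γ) (by
    rw [prod_three hkl hko hlo, ← pow_two, mul_inv_cancel₀ (pow_ne_zero 2 ha0)]) hγp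
  have hxm : mat x = diagonal β := hx
  have hym : mat y = diagonal γ := hy
  have hpow : ∀ (z : SU m F q) (δ : Fin m → F), mat z = diagonal δ → (∀ i, δ i ^ p = 1) → z ^ p = 1 := by
    intro z δ hz hδ
    apply H795.Split.mt_inj (SU m F q)
    rw [map_pow, map_one]
    have hz' : H795.Split.mt (SU m F q) z = diagonal δ := hz
    rw [hz', diagonal_pow, ← diagonal_one]
    congr 1
    funext i
    exact hδ i
  have hxp := hpow x β hxm hβp
  have hyp := hpow y γ hym hγp
  have hβk : β k = a := by simp [β]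
  have hβl : β l = a⁻¹ := by simp [β, hkl.symm]
  have hβo : β o = 1 := by simp [β, hko.symm, hlo.symm]
  have hγk : γ k = a := by simp [γ]
  have hγl : γ l = a := by simp [γ]
  have hγo : γ o = (a ^ 2)⁻¹ := by simp [γ, hko.symm, hlo.symm]
  have hox := order_mk hF hm hxp (i := k) (j := o) (by
    rw [hxm, diagonal_apply_eq, diagonal_apply_eq, hβk, hβo]
    exact ha1)
  have hoy := order_mk hF hm hyp (i := k) (j := o) (by
    rw [hym, diagonal_apply_eq, diagonal_apply_eq, hγk, hγo]
    intro h4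
    apply ha3
    have h5 : a * a ^ 2 = 1 := by
      nth_rewrite 1 [h4]
      exact inv_mul_cancel₀ (pow_ne_zero 2 ha0)
    rw [pow_succ', h5])
  obtain ⟨φ, hφ⟩ := h.one _ _ hox hoy
  have hcen : ¬ p ∣ Nat.gcd m (q + 1) := by
    intro h4
    have := Nat.le_of_dvd (by omega) (h4.trans (Nat.gcd_dvd_left m (q + 1)))
    omega
  have hfd := fd_inv hF hm h32 hcen φ x y hxp hyp hφ
  have h5 := fd_diagonal (F := F) β
  have h6 := fd_diagonal (F := F) γ
  rw [← hxm, hfd] at h5
  rw [← hym] at h6
  have h7 : Nat.card {i // β i ≠ 1} = 2 := by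
    have h8 : {i | β i ≠ 1} = ({k, l} : Finset (Fin m)) := by
      ext i
      simp only [Set.mem_setOf_eq, Finset.coe_insert, Finset.coe_singleton, Set.mem_insert_iff,
        Set.mem_singleton_iff]
      constructor
      · intro h9
        by_contra h10
        push Not at h10
        apply h9
        simp [β, h10.1, h10.2]
      · rintro (rfl | rfl)
        · rw [hβk]; exact ha1
        · rw [hβl]; exact hai
    have h9 : Nat.card {i // β i ≠ 1} = Set.ncard {i | β i ≠ 1} := rfl
    rw [h9, h8, Set.ncard_coe_finset, Finset.card_pair hkl]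
  have h8 : Nat.card {i // γ i ≠ 1} = 3 := by
    have h8 : {i | γ i ≠ 1} = ({k, l, o} : Finset (Fin m)) := by
      ext i
      simp only [Set.mem_setOf_eq, Finset.coe_insert, Finset.coe_singleton, Set.mem_insert_iff,
        Set.mem_singleton_iff]
      constructor
      · intro h9
        by_contra h10
        push Not at h10
        apply h9
        simp [γ, h10.1, h10.2.1, h10.2.2]
      · rintro (rfl | rfl | rfl)
        · rw [hγk]; exact ha1
        · rw [hγl]; exact ha1
        · rw [hγo]; exact ha2i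
    have h9 : Nat.card {i // γ i ≠ 1} = Set.ncard {i | γ i ≠ 1} := rfl
    rw [h9, h8, Set.ncard_coe_finset, Finset.card_eq_three.2 ⟨k, l, o, hkl, hko, hlo, rfl⟩]
  omega

theorem sum_ge {p n : ℕ} (hp5 : 5 ≤ p) (hn : 2 ≤ n) : 2 * (n + 1) ≤ ∑ i ∈ Finset.range n, p ^ i := by
  induction n, hn using Nat.le_induction with
  | base =>
    rw [Finset.sum_range_succ, Finset.sum_range_succ, Finset.sum_range_zero, pow_zero, pow_one]
    omega
  | succ n hn ih =>
    rw [Finset.sum_range_succ]
    have h1 : p ≤ p ^ n := Nat.le_self_pow (by omega) p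
    omega

/-- **`PSU_m(q)`, cross characteristic.** -/
theorem row_psu (hF : Fintype.card F = q ^ 2) (hm : 3 ≤ m) (h32 : ¬ (m = 3 ∧ q = 2)) (hpq : ¬ p ∣ q)
    (h : H319.One.Hyp p n (PSU m F q)) : False := by
  classical
  have hp5 := h.five
  have hq1 : 1 ≤ q := by
    have := Fintype.one_lt_card (α := F)
    rw [hF] at this
    by_contra h
    have h0 : q = 0 := by omega
    rw [h0] at this
    norm_num at this
  by_cases hpm : p ∣ q + 1
  · rcases Nat.lt_or_ge m p with h1 | h1
    · exact small hF hm h32 hpm h1 h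
    · exact false_of_notAb h (psu_notAb hF hp5 hpm h1)
  have hcen : ¬ p ∣ Nat.gcd m (q + 1) := fun h4 => hpm (h4.trans (Nat.gcd_dvd_right m (q + 1)))
  have hcard := S0280.result hF m (by omega)
  have hq0 : (-(q : ZMod p)) ≠ 0 := neg_ne_zero.2 (zmod_ne_zero hpq)
  obtain ⟨d, hd⟩ : ∃ d, d = orderOf (-(q : ZMod p)) := ⟨_, rfl⟩
  have hd0 : 0 < d := by
    rw [hd]
    exact orderOf_pos_iff.2 (isOfFinOrder_iff_pow_eq_one.2 ⟨p - 1, by omega, ZMod.pow_card_sub_one_eq_one hq0⟩)
  have hd1 : (-(q : ZMod p)) ^ d = 1 := by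
    rw [hd]
    exact pow_orderOf_eq_one _
  have h1 : p ^ (m / d) ∣ ∏ i ∈ Finset.range m, (if Even i then q ^ (i + 1) + 1 else q ^ (i + 1) - 1) := by
    have h0 := pow_dvd_prod (p := p) (d := d) (fun j => if Even j then q ^ j - 1 else q ^ j + 1) (fun k _ => ?_) m
    · refine h0.trans (dvd_of_eq (Finset.prod_congr rfl fun i _ => ?_))
      by_cases hi : Even i
      · rw [if_pos hi, if_neg (Nat.not_even_iff_odd.2 hi.add_one)]
      · rw [if_neg hi, if_pos (Nat.not_even_iff_odd.1 hi).add_one]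
    · have h9 : (-(q : ZMod p)) ^ (d * k) = 1 := by rw [pow_mul, hd1, one_pow]
      split_ifs with hi
      · apply dvd_sub_one_of_pow hq1
        rwa [hi.neg_pow] at h9
      · apply dvd_add_one_of_pow
        rw [(Nat.not_even_iff_odd.1 hi).neg_pow] at h9
        rw [← h9, neg_neg]
  have h2 : p ^ (m / d) ∣ (Nat.gcd m (q + 1)) * ((q + 1) * Nat.card (PSU m F q)) := by
    rw [hcard]
    exact h1.mul_left _
  have h3 : p ^ (m / d) ∣ Nat.card (PSU m F q) := by
    have hc : (p ^ (m / d)).Coprime (q + 1) := Nat.Coprime.pow_left _ ((Nat.Prime.coprime_iff_not_dvd hp.out).2 hpm)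
    have hc' : (p ^ (m / d)).Coprime (Nat.gcd m (q + 1)) := Nat.Coprime.coprime_dvd_right (Nat.gcd_dvd_right _ _) hc
    exact hc.dvd_of_dvd_mul_left (hc'.dvd_of_dvd_mul_left h2)
  have h4 := h.le_of_dvd h3
  have h6 : m < (n + 1) * d := (Nat.div_lt_iff_lt_mul hd0).1 (by omega)
  have hfin : Finite (PSU m F q) := Quotient.finite _
  have hord : d ≤ 2 * orderOf (Fintype.card F : ZMod p) := by
    have h7 : (-(q : ZMod p)) ^ (2 * orderOf (Fintype.card F : ZMod p)) = 1 := by
      rw [pow_mul, neg_sq, ← Nat.cast_pow, ← hF]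
      exact pow_orderOf_eq_one _
    have h8 : 0 < orderOf (Fintype.card F : ZMod p) := by
      rw [orderOf_pos_iff, isOfFinOrder_iff_pow_eq_one]
      have : (Fintype.card F : ZMod p) ≠ 0 := by
        rw [hF, Nat.cast_pow]
        exact pow_ne_zero 2 (zmod_ne_zero hpq)
      exact ⟨p - 1, by omega, ZMod.pow_card_sub_one_eq_one this⟩
    rw [hd]
    exact Nat.le_of_dvd (by omega) (orderOf_dvd_of_pow_eq_one h7)
  have h9 := sum_ge hp5 h.two
  refine classical_false h ((Matrix.SpecialLinearGroup.toGL).comp (SU m F q).subtype) ?_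
    (QuotientGroup.mk' (Subgroup.center (SU m F q))) (QuotientGroup.mk'_surjective _) ?_ ?_ ?_ ?_
  · intro a b hab
    have h10 : (Matrix.SpecialLinearGroup.toGL (a : Matrix.SpecialLinearGroup (Fin m) F)) =
      Matrix.SpecialLinearGroup.toGL (b : Matrix.SpecialLinearGroup (Fin m) F) := hab
    apply Subtype.ext
    apply Subtype.ext
    exact congrArg Units.val h10
  · rw [QuotientGroup.ker_mk']
    intro h10
    obtain ⟨z, hz⟩ := exists_prime_orderOf_dvd_card' p h10
    obtain ⟨c, hcn, hcq, hz'⟩ := (mem_center_SU_iff hF hm _).1 z.2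
    have h11 : (z : SU m F q) ^ Nat.gcd m (q + 1) = 1 := by
      rw [hz']
      exact su_center_pow hcn hcq (pow_gcd_eq_one.2 ⟨hcn, hcq⟩)
    have h12 : z ^ Nat.gcd m (q + 1) = 1 := Subtype.ext h11
    exact hcen (hz ▸ orderOf_dvd_of_pow_eq_one h12)
  · rw [hF]
    exact fun h10 => hpq (hp.out.dvd_of_dvd_pow h10)
  · intro φ x y hx hy hxy
    exact fd_inv hF hm h32 hcen φ x y (by rw [← hx]; exact pow_orderOf_eq_one x)
      (by rw [← hy]; exact pow_orderOf_eq_one y) hxy
  · rw [Fintype.card_fin]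
    calc m < (n + 1) * d := h6
      _ ≤ (n + 1) * (2 * orderOf (Fintype.card F : ZMod p)) := Nat.mul_le_mul_left _ hord
      _ = orderOf (Fintype.card F : ZMod p) * (2 * (n + 1)) := by ring
      _ ≤ _ := Nat.mul_le_mul_left _ h9

end Cfsg.Agent.H144.One
end

-- part: H969/TwF/Tor
section
/-!
# Torus elements of `²F₄(q)` on the 26-dimensional submodule (helper969)

* `aut_eq` : the automorphisms; `fx_rho_aut` : `fx` of the 26-dimensional representation is invariant;
* `fx_x`, `fx_y` : the dimension of the fixed space is 6 for `h(1, z)` and 4 for `h(z, z)`, `z` of odd prime order.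
-/

set_option autoImplicit false
set_option linter.unusedSectionVars false

namespace Cfsg.Agent.H969.TwF

open Cfsg.Lie Cfsg.Agent.ChevStructure.FieldMap Cfsg.Agent.ChevalleyStructure.TwF4.Rel
  Cfsg.Agent.ChevalleyStructure.TwF4.TwistedFix Cfsg.Agent.Octagon.KRel Cfsg.Agent.KFacts.TwF4.Inst
  Cfsg.Agent.KFacts.TwF4 Cfsg.Agent.TitsThree.RankTwoZ Cfsg.Agent.H319.One
  Cfsg.Agent.ChevalleyStructure.TwF4.Torus Cfsg.Agent.ChevalleyStructure.TwF4.TwGen

section Fx

variable {F : Type*} [Field F] {ι : Type*} [Fintype ι] [DecidableEq ι]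

/-- the fixed space of a diagonal matrix -/
theorem fx_diag [DecidableEq F] (w : ι → F) : fx (Matrix.diagonal w) = (Finset.univ.filter fun i => w i = 1).card := by
  have h1 := fx_add_rank (Matrix.diagonal w)
  have h2 : (Matrix.diagonal w - 1 : Matrix ι ι F) = Matrix.diagonal fun i => w i - 1 := by
    rw [← Matrix.diagonal_one, Matrix.diagonal_sub]
  rw [h2, Matrix.rank_diagonal, Fintype.card_subtype] at h1
  have h3 : (Finset.univ.filter fun i => w i = 1).card + (Finset.univ.filter fun i => ¬ w i = 1).card =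
      Fintype.card ι := Finset.card_filter_add_card_filter_not _
  have h4 : (Finset.univ.filter fun i => w i - 1 ≠ 0) = Finset.univ.filter fun i => ¬ w i = 1 := by
    ext i
    simp only [sub_eq_zero, _root_.ne_eq, _root_.Finset.mem_filter, _root_.Finset.mem_univ, _root_.true_and]
  rw [h4] at h1
  omega

end Fx

section Aut

variable {K : Type*} [Field K] [Fintype K] {m : ℕ}

/-- the automorphisms of `²F₄(q)` -/
theorem aut_eq (hm : 1 ≤ m) (hK : Fintype.card K = 2 ^ (2 * m + 1)) (α : MulAut ↥(twistedF4 K (2 ^ m))) :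
    ∃ (k : ↥(twistedF4 K (2 ^ m))) (τ : K ≃+* K), α = MulAut.conj k * S2128.fld τ (2 ^ m) := by
  have hch : CharP K 2 := Cfsg.Agent.ChevalleyStructure.TwF4.Twisted.charP_two hK
  have hf2 : Fact (Nat.Prime 2) := ⟨Nat.prime_two⟩
  obtain ⟨φ, hφ⟩ := exists_rln hK
  have hF : ∃ c : Kˣ, c ≠ 1 := by
    have h1 : 1 < Nat.card Kˣ := by
      rw [Nat.card_units, Nat.card_eq_fintype_card, hK]
      have : 2 ^ 3 ≤ 2 ^ (2 * m + 1) := Nat.pow_le_pow_right (by norm_num) (by omega)
      omega
    have : Nontrivial Kˣ := Finite.one_lt_card_iff_nontrivial.1 h1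
    exact exists_ne 1
  obtain ⟨k, τ0, ho, he⟩ := AutNorm.aut_form (full hK hφ) hF rfl α
  obtain ⟨τ, hτ⟩ : ∃ τ : K ≃+* K, ∀ x, τ x = τ0 x :=
    ⟨RingEquiv.ofBijective τ0 (Finite.injective_iff_bijective.1 τ0.injective), fun _ => rfl⟩
  refine ⟨k, τ, S2128.aut_ext (full hK hφ) ?_ ?_⟩
  · intro a t
    rw [ho, MulAut.mul_apply, MulAut.conj_apply, ← hτ]
    exact congrArg (fun y => k * y * k⁻¹) (S2128.fld_ro τ hφ a t).symm
  · intro a p u
    rw [he, MulAut.mul_apply, MulAut.conj_apply, ← hτ, ← hτ]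
    exact congrArg (fun y => k * y * k⁻¹) (S2128.fld_re τ hφ a p u).symm

end Aut

section Rh

variable {K : Type*} [Field K] [Finite K] [CharP K 2]

/-- the representation of `²F₄(q)` of degree 26 -/
def rh (K : Type*) [Field K] [Finite K] [CharP K 2] (e : ℕ) : ↥(twistedF4 K e) →* GL WI K := rho (f4Words K e)

theorem coe_rh (e : ℕ) (g : ↥(twistedF4 K e)) :
    ((rh K e g : GL WI K) : Matrix WI WI K) = sub ((g : GL chevF4.Idx K) : Matrix chevF4.Idx chevF4.Idx K) := rfl

theorem fx_rho_fld (τ : K ≃+* K) (e : ℕ) (x : ↥(twistedF4 K e)) :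
    fx ((rh K e (S2128.fld τ e x) : GL WI K) : Matrix WI WI K) = fx ((rh K e x : GL WI K) : Matrix WI WI K) := by
  rw [coe_rh, coe_rh, S2128.coe_fld, glEquiv_coe, ← fx_map (τ : K →+* K) (sub ((x : GL chevF4.Idx K) : Matrix _ _ K))]
  rfl

end Rh

section Inv

variable {K : Type*} [Field K] [Fintype K] [CharP K 2] {m : ℕ}

/-- the dimension of the fixed space is invariant under automorphisms -/
theorem fx_rho_aut (hm : 1 ≤ m) (hK : Fintype.card K = 2 ^ (2 * m + 1)) (α : MulAut ↥(twistedF4 K (2 ^ m)))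
    (x : ↥(twistedF4 K (2 ^ m))) :
    fx ((rh K (2 ^ m) (α x) : GL WI K) : Matrix WI WI K) = fx ((rh K (2 ^ m) x : GL WI K) : Matrix WI WI K) := by
  obtain ⟨k, τ, rfl⟩ := aut_eq hm hK α
  rw [MulAut.mul_apply, MulAut.conj_apply, map_mul, map_mul, map_inv]
  show fx (((rh K (2 ^ m) k : GL WI K) : Matrix WI WI K) * ((rh K (2 ^ m) (S2128.fld τ (2 ^ m) x) : GL WI K) :
    Matrix WI WI K) * (((rh K (2 ^ m) k)⁻¹ : GL WI K) : Matrix WI WI K)) = _
  rw [fx_conj, fx_rho_fld]

end Inv

section Tor

variable {K : Type*} [Field K] [Finite K] [CharP K 2] {φ : K →+* K} {e : ℕ}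

theorem short_cases : ∀ s : Fin 48, sh s.val = true → (∃ a : ZMod 8, s.val = eA a) ∨ (∃ a : ZMod 8, s.val = eC a) ∨
    ∃ a : ZMod 8, s.val = oA a := by (set_option synthInstance.maxSize 100000 in exact Cfsg.Agent.Lib.Refl.of (by decide +kernel))

/-- the coordinates fixed by `h(1, z)` -/
def bx : chevF4.Idx → Bool
  | Sum.inl _ => true
  | Sum.inr s => s.val == 20 || s.val == 27 || s.val == 19 || s.val == 28

/-- the coordinates fixed by `h(z, z)` -/
def bz : chevF4.Idx → Bool
  | Sum.inl _ => true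
  | Sum.inr s => s.val == 39 || s.val == 8

theorem card_bx : (Finset.univ.filter fun i : WI => bx i.1 = true).card = 6 := by decide +kernel
theorem card_bz : (Finset.univ.filter fun i : WI => bz i.1 = true).card = 4 := by decide +kernel

/-- the images of the torus elements are diagonal -/
theorem coe_rh_hT (hφ : Rln φ e) (c d : Kˣ) : ∃ s t : Kˣ, ((rh K e (hT hφ c d) : GL WI K) : Matrix WI WI K) =
    Matrix.diagonal (fun j : WI => ((chiIdx (tc e s t) j.1 : Kˣ) : K)) ∧
    chi (tc e s t) (eA 0) = c ∧ chi (tc e s t) (eA 1) = d := by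
  obtain ⟨s, t, h, h0, h1⟩ := hT_spec hφ c d
  refine ⟨s, t, ?_, h0, h1⟩
  rw [coe_rh, h, coe_T]
  ext i j
  show Matrix.diagonal (fun j => ((chiIdx (tc e s t) j : Kˣ) : K)) i.1 j.1 = _
  by_cases hij : i = j
  · subst hij
    rw [Matrix.diagonal_apply_eq, Matrix.diagonal_apply_eq]
  · rw [Matrix.diagonal_apply_ne _ hij, Matrix.diagonal_apply_ne]
    intro h2
    exact hij (Subtype.ext h2)

/-- the number of fixed coordinates -/
theorem fx_hT (hφ : Rln φ e) (c d : Kˣ) (b : chevF4.Idx → Bool) (hl : ∀ i, b (Sum.inl i) = true)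
    (hA : ∀ a : ZMod 8, ∀ s : Fin 48, s.val = eA a → (chE φ a c d = 1 ↔ b (Sum.inr s) = true))
    (hC : ∀ a : ZMod 8, ∀ s : Fin 48, s.val = eC a →
      (chE φ a c d * Units.map (φ : K →* K) (chE φ a c d) = 1 ↔ b (Sum.inr s) = true))
    (hO : ∀ a : ZMod 8, ∀ s : Fin 48, s.val = oA a → (chO φ a c d = 1 ↔ b (Sum.inr s) = true)) :
    fx ((rh K e (hT hφ c d) : GL WI K) : Matrix WI WI K) = (Finset.univ.filter fun i : WI => b i.1 = true).card := by
  classical
  obtain ⟨s, t, h, h0, h1⟩ := coe_rh_hT hφ c d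
  rw [h, fx_diag]
  congr 1
  ext i
  rw [Finset.mem_filter, Finset.mem_filter]
  simp only [Finset.mem_univ, true_and]
  rw [Units.val_eq_one]
  obtain ⟨j, hj⟩ := i
  rcases j with j | j
  · rw [chiIdx_inl]
    exact ⟨fun _ => hl j, fun _ => rfl⟩
  · have hj' : sh j.val = true := hj
    rw [chiIdx_inr]
    rcases short_cases j hj' with ⟨a, ha⟩ | ⟨a, ha⟩ | ⟨a, ha⟩
    · rw [← hA a j ha]
      show chi (tc e s t) j.val = 1 ↔ _
      rw [ha, chi_eA hφ, h0, h1]
    · rw [← hC a j ha]
      show chi (tc e s t) j.val = 1 ↔ _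
      obtain ⟨-, b2, -, b4, -, -⟩ := tabOk a
      rw [ha, chi_sum b4, chi_bar hφ b2, chi_eA hφ, h0, h1]
    · rw [← hO a j ha]
      show chi (tc e s t) j.val = 1 ↔ _
      rw [ha, chi_oA hφ, h0, h1]

end Tor

end Cfsg.Agent.H969.TwF
end

-- part: H969/TwF/Row
section
/-!
# The row `²F₄(q)` of S4880 (helper969)

`row_twF4` : `Hyp p n (²F₄(q)) → p = 11 ∧ n = 2`.
-/

set_option autoImplicit false
set_option linter.unusedSectionVars false

namespace Cfsg.Agent.H969.TwF

open Cfsg.Lie Cfsg.Agent.ChevStructure.FieldMap Cfsg.Agent.ChevalleyStructure.TwF4.Rel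
  Cfsg.Agent.ChevalleyStructure.TwF4.TwistedFix Cfsg.Agent.Octagon.KRel Cfsg.Agent.KFacts.TwF4.Inst
  Cfsg.Agent.KFacts.TwF4 Cfsg.Agent.TitsThree.RankTwoZ Cfsg.Agent.H319.One
  Cfsg.Agent.ChevalleyStructure.TwF4.Torus Cfsg.Agent.ChevalleyStructure.TwF4.TwGen

section Tor

variable {K : Type*} [Field K] [Finite K] [CharP K 2] {φ : K →+* K} {e : ℕ}

/-- `φ ∘ φ` is the squaring map -/
theorem phi_phi (hφ : Rln φ e) (z : Kˣ) : Units.map (φ : K →* K) (Units.map (φ : K →* K) z) = z ^ 2 := by
  rw [map_phi hφ z, map_pow, map_phi_pow hφ]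

theorem phi_ne_self (hφ : Rln φ e) {z : Kˣ} (hz : z ≠ 1) : Units.map (φ : K →* K) z ≠ z := by
  intro h
  have h1 := phi_phi hφ z
  rw [h, h, pow_two] at h1
  exact hz (mul_eq_left.1 h1.symm)

theorem phi_ne_inv (hφ : Rln φ e) {z : Kˣ} (hz : z ≠ 1) : Units.map (φ : K →* K) z ≠ z⁻¹ := by
  intro h
  have h1 := phi_phi hφ z
  rw [h, map_inv, h, inv_inv, pow_two] at h1
  exact hz (mul_eq_left.1 h1.symm)

theorem phi_ne_one (hφ : Rln φ e) {z : Kˣ} (hz : z ≠ 1) : Units.map (φ : K →* K) z ≠ 1 := by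
  intro h
  have h1 := phi_phi hφ z
  rw [h, map_one] at h1
  have h2 : z = 1 := by
    have h3 := pow_e hφ z
    rw [mul_assoc, pow_mul, ← h1, one_pow] at h3
    exact h3.symm
  exact hz h2

theorem mul_phi_eq_one (hφ : Rln φ e) (z : Kˣ) : z * Units.map (φ : K →* K) z = 1 ↔ z = 1 := by
  constructor
  · intro h
    by_contra hz
    exact phi_ne_inv hφ hz (eq_inv_of_mul_eq_one_right h)
  · rintro rfl
    rw [map_one, one_mul]

/-- `fx` of `h(1, z)` is 6 -/
theorem fx_x (hφ : Rln φ e) {z : Kˣ} (hz : z ≠ 1) :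
    fx ((rh K e (hT hφ 1 z) : GL WI K) : Matrix WI WI K) = 6 := by
  have n1 := phi_ne_one hφ hz
  have n2 := phi_ne_self hφ hz
  have n3 := phi_ne_inv hφ hz
  have hE : ∀ a : ZMod 8, chE φ a 1 z = 1 ↔ (a = 0 ∨ a = 4) := by
    intro a
    have key : ∀ n : ℕ, n < 8 → (chE φ (n : ZMod 8) 1 z = 1 ↔ ((n : ZMod 8) = 0 ∨ (n : ZMod 8) = 4)) := by
      intro n hn
      interval_cases n
      · exact ⟨fun _ => Or.inl rfl, fun _ => rfl⟩
      · refine ⟨fun h => absurd h hz, fun h => absurd h (by decide)⟩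
      · refine ⟨fun h => absurd ?_ n1, fun h => absurd h (by decide)⟩
        have h2 : Units.map (φ : K →* K) z / 1 = 1 := h
        rwa [div_one] at h2
      · refine ⟨fun h => absurd ?_ hz, fun h => absurd h (by decide)⟩
        have h2 : z / Units.map (φ : K →* K) 1 = 1 := h
        rwa [map_one, div_one] at h2
      · refine ⟨fun _ => Or.inr rfl, fun _ => ?_⟩
        show (1 : Kˣ)⁻¹ = 1
        exact inv_one
      · refine ⟨fun h => absurd ?_ hz, fun h => absurd h (by decide)⟩
        have h2 : z⁻¹ = 1 := h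
        exact inv_eq_one.1 h2
      · refine ⟨fun h => absurd ?_ n1, fun h => absurd h (by decide)⟩
        have h2 : 1 / Units.map (φ : K →* K) z = 1 := h
        rw [one_div] at h2
        exact inv_eq_one.1 h2
      · refine ⟨fun h => absurd ?_ hz, fun h => absurd h (by decide)⟩
        have h2 : Units.map (φ : K →* K) 1 / z = 1 := h
        rw [map_one, one_div] at h2
        exact inv_eq_one.1 h2
    have := key a.val (ZMod.val_lt a)
    rwa [ZMod.natCast_zmod_val] at this
  rw [fx_hT hφ 1 z bx (fun _ => rfl), card_bx]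
  · intro a s hs
    rw [hE a]
    have key : ∀ (a : ZMod 8) (s : Fin 48), s.val = eA a → ((a = 0 ∨ a = 4) ↔ bx (Sum.inr s) = true) := by
      decide +kernel
    exact key a s hs
  · intro a s hs
    rw [mul_phi_eq_one hφ, hE a]
    have key : ∀ (a : ZMod 8) (s : Fin 48), s.val = eC a → ((a = 0 ∨ a = 4) ↔ bx (Sum.inr s) = true) := by
      decide +kernel
    exact key a s hs
  · intro a s hs
    have hO : chO φ a 1 z ≠ 1 := by
      have key : ∀ n : ℕ, n < 8 → chO φ (n : ZMod 8) 1 z ≠ 1 := by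
        intro n hn h
        interval_cases n
        · have h2 : (1 : Kˣ) * z = 1 := h
          rw [one_mul] at h2
          exact hz h2
        · have h2 : z * (Units.map (φ : K →* K) z / 1) = 1 := h
          rw [div_one] at h2
          exact hz ((mul_phi_eq_one hφ z).1 h2)
        · have h2 : (Units.map (φ : K →* K) z / 1) * (z / Units.map (φ : K →* K) 1) = 1 := h
          rw [map_one, div_one, div_one, mul_comm] at h2
          exact hz ((mul_phi_eq_one hφ z).1 h2)
        · have h2 : (z / Units.map (φ : K →* K) 1) * (1 : Kˣ)⁻¹ = 1 := h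
          rw [map_one, div_one, inv_one, mul_one] at h2
          exact hz h2
        · have h2 : (1 : Kˣ)⁻¹ * z⁻¹ = 1 := h
          rw [inv_one, one_mul] at h2
          exact hz (inv_eq_one.1 h2)
        · have h2 : z⁻¹ * (1 / Units.map (φ : K →* K) z) = 1 := h
          rw [one_div, ← mul_inv, inv_eq_one] at h2
          exact hz ((mul_phi_eq_one hφ z).1 h2)
        · have h2 : (1 / Units.map (φ : K →* K) z) * (Units.map (φ : K →* K) 1 / z) = 1 := h
          rw [map_one, one_div, one_div, ← mul_inv, inv_eq_one, mul_comm] at h2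
          exact hz ((mul_phi_eq_one hφ z).1 h2)
        · have h2 : (Units.map (φ : K →* K) 1 / z) * (1 : Kˣ) = 1 := h
          rw [map_one, one_div, mul_one] at h2
          exact hz (inv_eq_one.1 h2)
      have := key a.val (ZMod.val_lt a)
      rwa [ZMod.natCast_zmod_val] at this
    have key : ∀ (a : ZMod 8) (s : Fin 48), s.val = oA a → ¬ bx (Sum.inr s) = true := by
      decide +kernel
    exact ⟨fun h => absurd h hO, fun h => absurd h (key a s hs)⟩

/-- `fx` of `h(z, z)` is 4 -/
theorem fx_y (hφ : Rln φ e) {z : Kˣ} (hz : z ≠ 1) (hz2 : z ^ 2 ≠ 1) :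
    fx ((rh K e (hT hφ z z) : GL WI K) : Matrix WI WI K) = 4 := by
  have n1 := phi_ne_one hφ hz
  have n2 := phi_ne_self hφ hz
  have hE : ∀ a : ZMod 8, chE φ a z z ≠ 1 := by
    intro a
    have key : ∀ n : ℕ, n < 8 → chE φ (n : ZMod 8) z z ≠ 1 := by
      intro n hn h
      interval_cases n
      · exact hz h
      · exact hz h
      · have h2 : Units.map (φ : K →* K) z / z = 1 := h
        exact n2 (div_eq_one.1 h2)
      · have h2 : z / Units.map (φ : K →* K) z = 1 := h
        exact n2 (div_eq_one.1 h2).symm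
      · have h2 : z⁻¹ = 1 := h
        exact hz (inv_eq_one.1 h2)
      · have h2 : z⁻¹ = 1 := h
        exact hz (inv_eq_one.1 h2)
      · have h2 : z / Units.map (φ : K →* K) z = 1 := h
        exact n2 (div_eq_one.1 h2).symm
      · have h2 : Units.map (φ : K →* K) z / z = 1 := h
        exact n2 (div_eq_one.1 h2)
    have := key a.val (ZMod.val_lt a)
    rwa [ZMod.natCast_zmod_val] at this
  rw [fx_hT hφ z z bz (fun _ => rfl), card_bz]
  · intro a s hs
    have key : ∀ (a : ZMod 8) (s : Fin 48), s.val = eA a → ¬ bz (Sum.inr s) = true := by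
      decide +kernel
    exact ⟨fun h => absurd h (hE a), fun h => absurd h (key a s hs)⟩
  · intro a s hs
    rw [mul_phi_eq_one hφ]
    have key : ∀ (a : ZMod 8) (s : Fin 48), s.val = eC a → ¬ bz (Sum.inr s) = true := by
      decide +kernel
    exact ⟨fun h => absurd h (hE a), fun h => absurd h (key a s hs)⟩
  · intro a s hs
    have hO : chO φ a z z = 1 ↔ (a = 2 ∨ a = 6) := by
      have key : ∀ n : ℕ, n < 8 → (chO φ (n : ZMod 8) z z = 1 ↔ ((n : ZMod 8) = 2 ∨ (n : ZMod 8) = 6)) := by
        intro n hn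
        interval_cases n
        · refine ⟨fun h => absurd ?_ hz2, fun h => absurd h (by decide)⟩
          have h2 : z * z = 1 := h
          rwa [pow_two]
        · refine ⟨fun h => absurd ?_ n1, fun h => absurd h (by decide)⟩
          have h2 : z * (Units.map (φ : K →* K) z / z) = 1 := h
          rwa [mul_div_cancel] at h2
        · refine ⟨fun _ => Or.inl rfl, fun _ => ?_⟩
          show (Units.map (φ : K →* K) z / z) * (z / Units.map (φ : K →* K) z) = 1
          rw [div_mul_div_cancel, div_self']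
        · refine ⟨fun h => absurd ?_ n1, fun h => absurd h (by decide)⟩
          have h2 : (z / Units.map (φ : K →* K) z) * z⁻¹ = 1 := h
          rw [div_mul_eq_mul_div, mul_inv_cancel, one_div] at h2
          exact inv_eq_one.1 h2
        · refine ⟨fun h => absurd ?_ hz2, fun h => absurd h (by decide)⟩
          have h2 : z⁻¹ * z⁻¹ = 1 := h
          rw [← mul_inv, inv_eq_one] at h2
          rwa [pow_two]
        · refine ⟨fun h => absurd ?_ n1, fun h => absurd h (by decide)⟩
          have h2 : z⁻¹ * (z / Units.map (φ : K →* K) z) = 1 := h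
          rw [mul_div_assoc', inv_mul_cancel, one_div] at h2
          exact inv_eq_one.1 h2
        · refine ⟨fun _ => Or.inr rfl, fun _ => ?_⟩
          show (z / Units.map (φ : K →* K) z) * (Units.map (φ : K →* K) z / z) = 1
          rw [div_mul_div_cancel, div_self']
        · refine ⟨fun h => absurd ?_ n1, fun h => absurd h (by decide)⟩
          have h2 : (Units.map (φ : K →* K) z / z) * z = 1 := h
          rwa [div_mul_cancel] at h2
      have := key a.val (ZMod.val_lt a)
      rwa [ZMod.natCast_zmod_val] at this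
    rw [hO]
    have key : ∀ (a : ZMod 8) (s : Fin 48), s.val = oA a → ((a = 2 ∨ a = 6) ↔ bz (Sum.inr s) = true) := by
      decide +kernel
    exact key a s hs

/-- the torus elements have order `p` -/
theorem orderOf_hT (hφ : Rln φ e) {p : ℕ} (hp : p.Prime) {c d : Kˣ} (hc : c ^ p = 1) (hd : d ^ p = 1) (hd1 : d ≠ 1) :
    orderOf (hT hφ c d) = p := by
  obtain ⟨s, t, h, h0, h1⟩ := hT_spec hφ c d
  have hpw : (hT hφ c d) ^ p = 1 := by
    apply Subtype.ext
    show (hT hφ c d : GL chevF4.Idx K) ^ p = 1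
    rw [h, ← map_pow]
    have e1 : ∀ k, (tc e s t) ^ k = tc e (s ^ k) (t ^ k) := by
      intro k
      funext i
      rw [Pi.pow_apply]
      unfold tc
      fin_cases i
      · show (t ^ e) ^ k = (t ^ k) ^ e
        rw [← pow_mul, ← pow_mul, mul_comm]
      · show (s ^ e) ^ k = (s ^ k) ^ e
        rw [← pow_mul, ← pow_mul, mul_comm]
      · rfl
      · rfl
    have e2 : ∀ r k, chi ((tc e s t) ^ k) r = chi (tc e s t) r ^ k := by
      intro r k
      induction k with
      | zero => rw [pow_zero, pow_zero, chi_one]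
      | succ k ih => rw [pow_succ, chi_mul, ih, pow_succ]
    rw [e1]
    refine T_eq_one hφ ?_ ?_
    · rw [← e1, e2, h0, hc]
    · rw [← e1, e2, h1, hd]
  refine haveI : Fact p.Prime := ⟨hp⟩; orderOf_eq_prime hpw ?_
  intro h2
  have h3 := hT_re hφ c d 1 1 0
  rw [h2] at h3
  have h4 : (1 : ↥(twistedF4 K e)) * re hφ 1 1 0 * (1 : ↥(twistedF4 K e))⁻¹ = re hφ 1 1 0 := by group
  rw [h4] at h3
  have h5 := ((sys hφ).injE 1 _ _ _ _ h3).1
  rw [mul_one] at h5
  apply hd1
  apply Units.ext
  rw [Units.val_one]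
  exact h5.symm

end Tor

section Main

variable {K : Type*} [Field K] [Fintype K] {m : ℕ}

/-- `p` does not divide `q - 1` -/
theorem not_dvd_sub_one (hm : 1 ≤ m) (hK : Fintype.card K = 2 ^ (2 * m + 1)) {p n : ℕ} [hp : Fact p.Prime]
    (h : Hyp p n ↥(twistedF4 K (2 ^ m))) : ¬ p ∣ Fintype.card K - 1 := by
  intro hd
  have hch : CharP K 2 := Cfsg.Agent.ChevalleyStructure.TwF4.Twisted.charP_two hK
  obtain ⟨φ, hφ⟩ := exists_rln hK
  have h5 := h.five
  have h1 : p ∣ Nat.card Kˣ := by
    rw [Nat.card_units, Nat.card_eq_fintype_card]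
    exact hd
  obtain ⟨z, hz⟩ := exists_prime_orderOf_dvd_card' p h1
  have hz1 : z ≠ 1 := by
    rintro rfl
    rw [orderOf_one] at hz
    omega
  have hz2 : z ^ 2 ≠ 1 := by
    intro h2
    have h3 := orderOf_dvd_of_pow_eq_one h2
    rw [hz] at h3
    have := Nat.le_of_dvd (by norm_num) h3
    omega
  have hzp : z ^ p = 1 := by rw [← hz]; exact pow_orderOf_eq_one z
  obtain ⟨α, hα⟩ := h.one (hT hφ 1 z) (hT hφ z z) (orderOf_hT hφ hp.out (one_pow p) hzp hz1)
    (orderOf_hT hφ hp.out hzp hzp hz1)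
  have h2 := fx_rho_aut hm hK α (hT hφ 1 z)
  rw [hα, fx_x hφ hz1, fx_y hφ hz1 hz2] at h2
  omega

/-- the representation of degree 26 is faithful -/
theorem rh_injective [CharP K 2] (hm : 1 ≤ m) (hK : Fintype.card K = 2 ^ (2 * m + 1)) :
    Function.Injective (rh K (2 ^ m)) := by
  obtain ⟨φ, hφ⟩ := exists_rln hK
  have hs : IsSimpleGroup ↥(twistedF4 K (2 ^ m)) := (S1072.result hm hK).1
  rw [← MonoidHom.ker_eq_bot_iff]
  rcases (inferInstance : (rh K (2 ^ m)).ker.Normal).eq_bot_or_eq_top with h | h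
  · exact h
  · exfalso
    have h1 : 1 < Nat.card Kˣ := by
      rw [Nat.card_units, Nat.card_eq_fintype_card, hK]
      have : 2 ^ 3 ≤ 2 ^ (2 * m + 1) := Nat.pow_le_pow_right (by norm_num) (by omega)
      omega
    have : Nontrivial Kˣ := Finite.one_lt_card_iff_nontrivial.1 h1
    obtain ⟨z, hz⟩ := exists_ne (1 : Kˣ)
    have h2 : hT hφ 1 z ∈ (rh K (2 ^ m)).ker := by rw [h]; exact Subgroup.mem_top _
    rw [MonoidHom.mem_ker] at h2
    have h3 := fx_x hφ hz
    rw [h2, Units.val_one] at h3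
    have h4 := fx_add_rank (1 : Matrix WI WI K)
    rw [h3, sub_self, Matrix.rank_zero, card_WI] at h4
    omega

/-- the dimension bound -/
theorem bound (hm : 1 ≤ m) (hK : Fintype.card K = 2 ^ (2 * m + 1)) {p n : ℕ} [hp : Fact p.Prime]
    (h : Hyp p n ↥(twistedF4 K (2 ^ m))) :
    orderOf ((Fintype.card K : ℕ) : ZMod p) * ∑ i ∈ Finset.range n, p ^ i ≤ 26 := by
  classical
  have hch : CharP K 2 := Cfsg.Agent.ChevalleyStructure.TwF4.Twisted.charP_two hK
  by_contra hlt
  push Not at hlt
  have hfin : Finite ↥(twistedF4 K (2 ^ m)) := inferInstance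
  have h5 := h.five
  refine classical_false h (rh K (2 ^ m)) (rh_injective hm hK) (MonoidHom.id _) Function.surjective_id ?_ ?_ ?_ ?_
  · have h1 : (MonoidHom.id ↥(twistedF4 K (2 ^ m))).ker = ⊥ := (MonoidHom.ker_eq_bot_iff _).2 Function.injective_id
    rw [h1, Subgroup.card_bot]
    intro h2
    have := Nat.le_of_dvd one_pos h2
    omega
  · rw [hK]
    intro h2
    have h3 := (Nat.prime_dvd_prime_iff_eq hp.out Nat.prime_two).1 (hp.out.dvd_of_dvd_pow h2)
    omega
  · intro α x y _ _ hxy
    have h1 : α x = y := hxy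
    rw [← h1, fx_rho_aut hm hK α x]
  · rw [card_WI]
    exact hlt

/-- **The row `²F₄(q)`.** -/
theorem row_twF4 (hm : 1 ≤ m) (hK : Fintype.card K = 2 ^ (2 * m + 1)) {p n : ℕ} [hp : Fact p.Prime]
    (h : Hyp p n ↥(twistedF4 K (2 ^ m))) : p = 11 ∧ n = 2 := by
  classical
  have h5 := h.five
  have hb := bound hm hK h
  have hpK : ((Fintype.card K : ℕ) : ZMod p) ≠ 0 := by
    intro h0
    rw [ZMod.natCast_eq_zero_iff, hK] at h0
    have h3 := (Nat.prime_dvd_prime_iff_eq hp.out Nat.prime_two).1 (hp.out.dvd_of_dvd_pow h0)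
    omega
  have hpos : 0 < orderOf ((Fintype.card K : ℕ) : ZMod p) := by
    rw [orderOf_pos_iff, isOfFinOrder_iff_pow_eq_one]
    exact ⟨p - 1, by omega, ZMod.pow_card_sub_one_eq_one hpK⟩
  have hn : n = 2 := by
    have h2 := h.two
    by_contra hne
    have h3 : ∑ i ∈ Finset.range 3, p ^ i ≤ ∑ i ∈ Finset.range n, p ^ i :=
      Finset.sum_le_sum_of_subset (Finset.range_subset_range.2 (by omega))
    have h4 : ∑ i ∈ Finset.range 3, p ^ i = 1 + p + p ^ 2 := by
      rw [Finset.sum_range_succ, Finset.sum_range_succ, Finset.sum_range_one, pow_zero, pow_one]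
    rw [h4] at h3
    have h6 : ∑ i ∈ Finset.range n, p ^ i ≤ orderOf ((Fintype.card K : ℕ) : ZMod p) * ∑ i ∈ Finset.range n, p ^ i :=
      Nat.le_mul_of_pos_left _ hpos
    have h7 : 25 ≤ p ^ 2 := by
      calc 25 = 5 ^ 2 := by norm_num
        _ ≤ p ^ 2 := Nat.pow_le_pow_left h5 2
    omega
  refine ⟨?_, hn⟩
  have hp7 : p ≠ 5 := by
    intro h0
    have := h.three h0
    omega
  have hsum : ∑ i ∈ Finset.range n, p ^ i = 1 + p := by
    rw [hn, Finset.sum_range_succ, Finset.sum_range_one, pow_zero, pow_one]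
  rw [hsum] at hb
  have hd1 : orderOf ((Fintype.card K : ℕ) : ZMod p) ≠ 1 := by
    intro h0
    rw [orderOf_eq_one_iff] at h0
    apply not_dvd_sub_one hm hK h
    have h1 : 1 ≤ Fintype.card K := Fintype.card_pos
    have h2 : (((Fintype.card K - 1 : ℕ)) : ZMod p) = 0 := by
      rw [Nat.cast_sub h1, h0, Nat.cast_one, sub_self]
    exact (ZMod.natCast_eq_zero_iff _ _).1 h2
  have hp12 : p ≤ 12 := by
    by_contra hlt
    push Not at hlt
    have h1 : 2 * 14 ≤ orderOf ((Fintype.card K : ℕ) : ZMod p) * (1 + p) := Nat.mul_le_mul (by omega) (by omega)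
    omega
  have hpp := hp.out
  have hp' : p = 7 ∨ p = 11 := by
    interval_cases p
    · exact absurd rfl hp7
    · exact absurd hpp (by norm_num)
    · exact Or.inl rfl
    · exact absurd hpp (by norm_num)
    · exact absurd hpp (by norm_num)
    · exact absurd hpp (by norm_num)
    · exact Or.inr rfl
    · exact absurd hpp (by norm_num)
  rcases hp' with rfl | rfl
  · exfalso
    -- `q` modulo 7
    have h7 : 7 ∣ Nat.card ↥(twistedF4 K (2 ^ m)) :=
      (dvd_pow_self 7 (by rw [hn]; norm_num)).trans h.dvd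
    rw [S1068.result hK] at h7
    have hq1 : 2 ^ (2 * m + 1) % 7 ≠ 1 := by
      intro h0
      apply not_dvd_sub_one hm hK h
      rw [hK]
      have : 0 < 2 ^ (2 * m + 1) := by positivity
      (clear * - h0; omega)
    have hq : 2 ^ (2 * m + 1) % 7 = 1 ∨ 2 ^ (2 * m + 1) % 7 = 2 ∨ 2 ^ (2 * m + 1) % 7 = 4 := by
      generalize 2 * m + 1 = k
      induction k with
      | zero => exact Or.inl rfl
      | succ k ih =>
        rw [pow_succ]
        (clear * - ih; omega)
    have hpr : Nat.Prime 7 := by norm_num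
    set q := 2 ^ (2 * m + 1) with hqd
    have hq0 : 1 ≤ q := Nat.one_le_two_pow
    have hq4 : 1 ≤ q ^ 4 := Nat.one_le_pow _ _ hq0
    have e3 : q ^ 3 % 7 = (q % 7) ^ 3 % 7 := Nat.pow_mod q 3 7
    have e4 : q ^ 4 % 7 = (q % 7) ^ 4 % 7 := Nat.pow_mod q 4 7
    have e6 : q ^ 6 % 7 = (q % 7) ^ 6 % 7 := Nat.pow_mod q 6 7
    rcases hpr.dvd_mul.1 h7 with h7 | h7
    · rcases hpr.dvd_mul.1 h7 with h7 | h7
      · rcases hpr.dvd_mul.1 h7 with h7 | h7
        · rcases hpr.dvd_mul.1 h7 with h7 | h7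
          · have := hpr.dvd_of_dvd_pow h7
            (clear * - hq this; omega)
          · (clear * - hq1 hq0 h7; omega)
        · rcases hq with hq | hq | hq
          · exact hq1 hq
          · rw [hq] at e3; norm_num at e3; omega
          · rw [hq] at e3; norm_num at e3; omega
      · rcases hq with hq | hq | hq
        · exact hq1 hq
        · rw [hq] at e4; norm_num at e4; omega
        · rw [hq] at e4; norm_num at e4; omega
    · rcases hq with hq | hq | hq
      · exact hq1 hq
      · rw [hq] at e6; norm_num at e6; omega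
      · rw [hq] at e6; norm_num at e6; omega
  · rfl

end Main

end Cfsg.Agent.H969.TwF
end

-- part: H969/TwF/Eleven
section
/-!
# The automizer of an element of order 11 of `²F₄(q)` (helper969, for S4880)

* `five_dvd` : `A ^ 11 = 1`, `A` conjugate to `A ^ 3`: `dim V = dim V^A + 5 k`;
* `fx_eleven` : under `Hyp 11 2 S` the fixed space of an element of order 11 has dimension 4;
* `no_conj` : `g x g⁻¹ ≠ x ^ j`, `j ∈ {3, 4, 5, 9}`.
-/

set_option autoImplicit false
set_option linter.unusedSectionVars false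

namespace Cfsg.Agent.H969.TwF

open Cfsg.Lie Cfsg.Agent.H319.One Cfsg.Agent.H319.One.Weights Module Finset

section Five

variable {F : Type*} [Field F] {ι : Type*} [Fintype ι] [DecidableEq ι]

theorem five_dvd (hF : (11 : F) ≠ 0) {A G : GL ι F} (hA : A ^ 11 = 1) (hG : G * A * G⁻¹ = A ^ 3) :
    ∃ k, Fintype.card ι = fx (A : Matrix ι ι F) + 5 * k := by
  classical
  by_cases hA1 : A = 1
  · refine ⟨0, ?_⟩
    have h1 := fx_add_rank (A : Matrix ι ι F)
    rw [hA1, Units.val_one, sub_self, Matrix.rank_zero] at h1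
    rw [hA1, Units.val_one]
    omega
  have hp : Nat.Prime 11 := by norm_num
  have hfp : Fact (Nat.Prime 11) := ⟨hp⟩
  have hord : orderOf A = 11 := orderOf_eq_prime hA hA1
  have hcomm : ∀ a b : ↥(Subgroup.zpowers A), a * b = b * a := by
    rintro ⟨a, k, rfl⟩ ⟨b, l, rfl⟩
    apply Subtype.ext
    show A ^ k * A ^ l = A ^ l * A ^ k
    rw [← zpow_add, ← zpow_add, add_comm]
  let _ : CommGroup ↥(Subgroup.zpowers A) :=
    { (inferInstance : Group ↥(Subgroup.zpowers A)) with mul_comm := hcomm }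
  have hcard : Nat.card ↥(Subgroup.zpowers A) = 11 := by rw [Nat.card_zpowers, hord]
  have hfin : Finite ↥(Subgroup.zpowers A) := Nat.finite_of_card_ne_zero (by rw [hcard]; norm_num)
  have : Fintype ↥(Subgroup.zpowers A) := Fintype.ofFinite _
  let x0 : ↥(Subgroup.zpowers A) := ⟨A, Subgroup.mem_zpowers A⟩
  have hx0 : ∀ y : ↥(Subgroup.zpowers A), ∃ k : ℕ, y = x0 ^ k := by
    intro y
    have h1 : (y : GL ι F) ∈ Submonoid.powers A := by
      rw [(isOfFinOrder_iff_pow_eq_one.2 ⟨11, by norm_num, hA⟩).mem_powers_iff_mem_zpowers]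
      exact y.2
    obtain ⟨k, hk⟩ := h1
    exact ⟨k, Subtype.ext hk.symm⟩
  let ρ : ↥(Subgroup.zpowers A) →* Matrix ι ι F := (Units.coeHom _).comp (Subgroup.zpowers A).subtype
  let L := AlgebraicClosure F
  let i := algebraMap F L
  let ρ' := (RingHom.mapMatrix i).toMonoidHom.comp ρ
  have hP : (Fintype.card ↥(Subgroup.zpowers A) : F) ≠ 0 := by
    rw [← Nat.card_eq_fintype_card, hcard]
    exact_mod_cast hF
  have hP' : (Fintype.card ↥(Subgroup.zpowers A) : L) ≠ 0 := by
    intro h
    apply hP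
    apply i.injective
    rw [map_natCast, h, map_zero]
  have hfd := finite_dual hP'
  have : Fintype (↥(Subgroup.zpowers A) →* Lˣ) := Fintype.ofFinite _
  set R := rp ρ' with hR
  let f : (↥(Subgroup.zpowers A) →* Lˣ) → ℕ := fun χ => finrank L ↥(wt R χ)
  -- the sum
  have hsum : Fintype.card ι = ∑ χ, f χ := by
    have h1 := finrank_eq_sum R hP' ⊤ (fun _ _ _ => Submodule.mem_top)
    rw [finrank_top, Module.finrank_fintype_fun_eq_card] at h1
    rw [h1]
    refine Finset.sum_congr rfl fun χ _ => ?_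
    rw [top_inf_eq]
  -- the fixed vectors
  have hf1 : f 1 = fx (A : Matrix ι ι F) := by
    have h1 : wt R 1 = fixS R (Subgroup.zpowers x0) := by
      ext v
      rw [mem_wt, mem_fixS]
      constructor
      · intro h y _
        rw [h y, MonoidHom.one_apply, Units.val_one, one_smul]
      · intro h y
        rw [MonoidHom.one_apply, Units.val_one, one_smul]
        obtain ⟨k, hk⟩ := hx0 y
        exact h y (by rw [hk]; exact Subgroup.npow_mem_zpowers x0 k)
    show finrank L ↥(wt R 1) = _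
    rw [h1, hR, finrank_fixS_zpowers]
    show fx (((A : GL ι F) : Matrix ι ι F).map i) = _
    rw [fx_map]
  -- the conjugation
  have hRx : ∀ v, R x0 v = (((A : GL ι F) : Matrix ι ι F).map i).mulVec v := fun v => rp_apply ρ' x0 v
  have hle : ∀ χ ψ : ↥(Subgroup.zpowers A) →* Lˣ, (∀ y, ψ y = χ y ^ 4) → f χ ≤ f ψ := by
    intro χ ψ hψ
    let g : (ι → L) →ₗ[L] (ι → L) := Matrix.toLin' (((G : GL ι F) : Matrix ι ι F).map i)
    let g' : (ι → L) →ₗ[L] (ι → L) := Matrix.toLin' (((G⁻¹ : GL ι F) : Matrix ι ι F).map i)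
    have hg : Function.Injective g := by
      have h1 : Function.LeftInverse g' g := by
        intro v
        show (((G⁻¹ : GL ι F) : Matrix ι ι F).map i).mulVec ((((G : GL ι F) : Matrix ι ι F).map i).mulVec v) = v
        rw [Matrix.mulVec_mulVec, ← Matrix.map_mul, Units.inv_mul, Matrix.map_one i (map_zero i) (map_one i),
          Matrix.one_mulVec]
      exact h1.injective
    have hrel : ∀ v, (R x0 ^ 3) (g v) = g (R x0 v) := by
      intro v
      have h1 : (R x0 ^ 3) (g v) = R (x0 ^ 3) (g v) := by rw [map_pow]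
      have h2 : R (x0 ^ 3) (g v) = ((((A ^ 3 : GL ι F)) : Matrix ι ι F).map i).mulVec (g v) := rp_apply ρ' (x0 ^ 3) (g v)
      rw [h1, h2, hRx]
      show (((A ^ 3 : GL ι F) : Matrix ι ι F).map i).mulVec ((((G : GL ι F) : Matrix ι ι F).map i).mulVec v) =
        (((G : GL ι F) : Matrix ι ι F).map i).mulVec ((((A : GL ι F) : Matrix ι ι F).map i).mulVec v)
      rw [Matrix.mulVec_mulVec, Matrix.mulVec_mulVec, ← Matrix.map_mul, ← Matrix.map_mul, ← Units.val_mul,
        ← Units.val_mul, ← hG, inv_mul_cancel_right]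
    have h12 : R x0 ^ 12 = R x0 := by
      rw [← map_pow]
      congr 1
      apply Subtype.ext
      show A ^ 12 = A
      rw [pow_succ, hA, one_mul]
    have hmem : ∀ v ∈ wt R χ, g v ∈ wt R ψ := by
      intro v hv
      have h1 : (R x0 ^ 3) (g v) = ((χ x0 : Lˣ) : L) • g v := by
        rw [hrel, hv x0, map_smul]
      have h2 : ∀ k : ℕ, ((R x0 ^ 3) ^ k) (g v) = (((χ x0) ^ k : Lˣ) : L) • g v := by
        intro k
        induction k with
        | zero =>
          rw [pow_zero, pow_zero, Units.val_one, one_smul]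
          rfl
        | succ k ih =>
          rw [pow_succ']
          show (R x0 ^ 3) (((R x0 ^ 3) ^ k) (g v)) = _
          rw [ih, map_smul, h1, smul_smul, pow_succ, Units.val_mul]
      have h3 : R x0 (g v) = (((χ x0) ^ 4 : Lˣ) : L) • g v := by
        rw [← h2 4, ← pow_mul, h12]
      have h4 : ∀ k : ℕ, (R x0 ^ k) (g v) = ((((χ x0) ^ 4) ^ k : Lˣ) : L) • g v := by
        intro k
        induction k with
        | zero =>
          rw [pow_zero, pow_zero, Units.val_one, one_smul]
          rfl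
        | succ k ih =>
          rw [pow_succ']
          show (R x0) ((R x0 ^ k) (g v)) = _
          rw [ih, map_smul, h3, smul_smul]
          congr 1
          rw [← Units.val_mul, ← pow_succ]
      intro y
      obtain ⟨k, rfl⟩ := hx0 y
      rw [map_pow, h4, map_pow, hψ]
    have h5 : (wt R χ).map g ≤ wt R ψ := by
      rintro _ ⟨v, hv, rfl⟩
      exact hmem v hv
    calc f χ = finrank L ↥((wt R χ).map g) := (Submodule.equivMapOfInjective g hg (wt R χ)).finrank_eq
      _ ≤ f ψ := Submodule.finrank_mono h5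
  -- a generator of the dual
  have hcd : Nat.card (↥(Subgroup.zpowers A) →* Lˣ) = 11 := by
    rw [card_dual hP', ← Nat.card_eq_fintype_card, hcard]
  have hnt : Nontrivial (↥(Subgroup.zpowers A) →* Lˣ) := by
    rw [← Finite.one_lt_card_iff_nontrivial, hcd]
    norm_num
  obtain ⟨χ, hχ⟩ := exists_ne (1 : ↥(Subgroup.zpowers A) →* Lˣ)
  have hχ11 : χ ^ 11 = 1 := by
    rw [← hcd]
    exact pow_card_eq_one'
  have hχo : orderOf χ = 11 := orderOf_eq_prime hχ11 hχ
  have hgen : ∀ ψ, ψ ∈ Subgroup.zpowers χ := by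
    intro ψ
    have h1 : Subgroup.zpowers χ = ⊤ := by
      apply Subgroup.eq_top_of_card_eq
      rw [Nat.card_zpowers, hχo, hcd]
    rw [h1]
    exact Subgroup.mem_top ψ
  have himg := IsCyclic.image_range_orderOf hgen
  have hsum2 : ∑ ψ, f ψ = ∑ j ∈ range 11, f (χ ^ j) := by
    rw [← himg, hχo, Finset.sum_image]
    intro a ha b hb hab
    have ha' : a < 11 := by simpa using ha
    have hb' : b < 11 := by simpa using hb
    exact pow_injOn_Iio_orderOf (by rw [Set.mem_Iio, hχo]; exact ha') (by rw [Set.mem_Iio, hχo]; exact hb') hab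
  have hred : ∀ a b : ℕ, a * 4 = b + 11 * ((a * 4 - b) / 11) → f (χ ^ a) ≤ f (χ ^ b) := by
    intro a b hab
    refine hle _ _ fun y => ?_
    have h2 : (χ y) ^ 11 = 1 := by
      have h3 := DFunLike.congr_fun hχ11 y
      exact h3
    show (χ y) ^ b = ((χ y) ^ a) ^ 4
    rw [← pow_mul, hab, pow_add, pow_mul, h2, one_pow, mul_one]
  have l1 := hred 1 4 (by norm_num)
  have l2 := hred 4 5 (by norm_num)
  have l3 := hred 5 9 (by norm_num)
  have l4 := hred 9 3 (by norm_num)
  have l5 := hred 3 1 (by norm_num)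
  have k1 := hred 2 8 (by norm_num)
  have k2 := hred 8 10 (by norm_num)
  have k3 := hred 10 7 (by norm_num)
  have k4 := hred 7 6 (by norm_num)
  have k5 := hred 6 2 (by norm_num)
  refine ⟨f (χ ^ 1) + f (χ ^ 2), ?_⟩
  rw [hsum, hsum2]
  simp only [Finset.sum_range_succ, Finset.sum_range_zero]
  have hf0 : f (χ ^ 0) = fx (A : Matrix ι ι F) := by
    rw [← hf1]
    congr 1
    exact pow_zero χ
  omega

end Five

section Conj

variable {X : Type*} [Group X]

theorem conj_pow_iter {g x : X} {j : ℕ} (h : g * x * g⁻¹ = x ^ j) (b : ℕ) : g ^ b * x * (g ^ b)⁻¹ = x ^ j ^ b := by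
  induction b with
  | zero => rw [pow_zero, pow_zero, pow_one, one_mul, inv_one, mul_one]
  | succ b ih =>
    calc g ^ (b + 1) * x * (g ^ (b + 1))⁻¹ = g ^ b * (g * x * g⁻¹) * (g ^ b)⁻¹ := by rw [pow_succ]; group
      _ = g ^ b * x ^ j * (g ^ b)⁻¹ := by rw [h]
      _ = (g ^ b * x * (g ^ b)⁻¹) ^ j := (conj_pow).symm
      _ = x ^ j ^ (b + 1) := by rw [ih, ← pow_mul, pow_succ]

/-- `x` conjugate to `x ^ j`, `j` of order 5 modulo 11: `x` is conjugate to `x ^ 3` -/
theorem conj_three {x g : X} (hx : x ^ 11 = 1) {j : ℕ} (hj : j = 3 ∨ j = 4 ∨ j = 5 ∨ j = 9)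
    (h : g * x * g⁻¹ = x ^ j) : ∃ g' : X, g' * x * g'⁻¹ = x ^ 3 := by
  have key : ∀ k : ℕ, x ^ (3 + 11 * k) = x ^ 3 := fun k => by rw [pow_add, pow_mul, hx, one_pow, mul_one]
  rcases hj with rfl | rfl | rfl | rfl
  · exact ⟨g, h⟩
  · exact ⟨g ^ 4, (conj_pow_iter h 4).trans (key 23)⟩
  · exact ⟨g ^ 2, (conj_pow_iter h 2).trans (key 2)⟩
  · exact ⟨g ^ 3, (conj_pow_iter h 3).trans (key 66)⟩

end Conj

section Main

variable {K : Type*} [Field K] [Fintype K] {m : ℕ}

/-- the fixed space of an element of order 11 -/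
theorem fx_eleven [CharP K 2] (hm : 1 ≤ m) (hK : Fintype.card K = 2 ^ (2 * m + 1)) [hp : Fact (Nat.Prime 11)]
    (h : Hyp 11 2 ↥(twistedF4 K (2 ^ m))) {x : ↥(twistedF4 K (2 ^ m))} (hx : orderOf x = 11) :
    fx ((rh K (2 ^ m) x : GL WI K) : Matrix WI WI K) = 4 := by
  classical
  obtain ⟨Q⟩ : Nonempty (Sylow 11 ↥(twistedF4 K (2 ^ m))) := inferInstance
  have hcard : Nat.card (Q : Subgroup ↥(twistedF4 K (2 ^ m))) = 11 ^ (0 + 2) := h.card Q
  have hcomm : ∀ a b : (Q : Subgroup ↥(twistedF4 K (2 ^ m))), a * b = b * a := by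
    intro a b
    exact Subtype.ext (h.comm Q Q.2 a a.2 b b.2)
  have hexp : ∀ y : (Q : Subgroup ↥(twistedF4 K (2 ^ m))), y ^ 11 = 1 := by
    intro y
    obtain ⟨k, hk1⟩ := Q.2 y
    exact Subtype.ext (h.exp _ k (congrArg Subtype.val hk1))
  let _ : CommGroup (Q : Subgroup ↥(twistedF4 K (2 ^ m))) :=
    { (inferInstance : Group (Q : Subgroup ↥(twistedF4 K (2 ^ m)))) with mul_comm := hcomm }
  have hord : ∀ y : (Q : Subgroup ↥(twistedF4 K (2 ^ m))), y ≠ 1 → orderOf (y : ↥(twistedF4 K (2 ^ m))) = 11 := by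
    intro y hy
    rw [Subgroup.orderOf_coe]
    exact orderOf_eq_prime (hexp y) hy
  let ρ' : (Q : Subgroup ↥(twistedF4 K (2 ^ m))) →* Matrix WI WI K :=
    (Units.coeHom _).comp ((rh K (2 ^ m)).comp (Q : Subgroup ↥(twistedF4 K (2 ^ m))).subtype)
  have hpF : ¬ 11 ∣ Nat.card K := by
    rw [Nat.card_eq_fintype_card, hK]
    intro h2
    have h3 := (Nat.prime_dvd_prime_iff_eq hp.out Nat.prime_two).1 (hp.out.dvd_of_dvd_pow h2)
    omega
  obtain ⟨c, t, h1, h2, h3⟩ := line ρ' (p := 11) (a := 0) (f := fx ((rh K (2 ^ m) x : GL WI K) : Matrix WI WI K))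
    hp.out hpF hcard hexp (fun y hy => by
      obtain ⟨φ, hφ⟩ := h.one (y : ↥(twistedF4 K (2 ^ m))) x (hord y hy) hx
      have h4 := fx_rho_aut hm hK φ (y : ↥(twistedF4 K (2 ^ m)))
      rw [hφ] at h4
      exact h4.symm)
  rw [card_WI] at h1
  have hb := bound hm hK h
  have e1 : ∑ i ∈ range 2, 11 ^ i = 12 := by decide
  have e2 : ∑ i ∈ range (0 + 2), 11 ^ i = 12 := by decide
  have e3 : ∑ i ∈ range (0 + 1), 11 ^ i = 1 := by decide
  rw [e1] at hb
  rw [e2] at h1
  rw [e3] at h2
  have hd1 : orderOf ((Fintype.card K : ℕ) : ZMod 11) ≠ 1 := by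
    intro h0
    rw [orderOf_eq_one_iff] at h0
    apply not_dvd_sub_one hm hK h
    have h1 : 1 ≤ Fintype.card K := Fintype.card_pos
    have h2 : (((Fintype.card K - 1 : ℕ)) : ZMod 11) = 0 := by
      rw [Nat.cast_sub h1, h0, Nat.cast_one, sub_self]
    exact (ZMod.natCast_eq_zero_iff _ _).1 h2
  have hpos : orderOf ((Fintype.card K : ℕ) : ZMod 11) ≠ 0 := by
    intro h0
    rw [Nat.card_eq_fintype_card, h0, zero_dvd_iff] at h3
    rw [h3] at h1 h2
    -- `t = 0`
    have h4 : fx ((rh K (2 ^ m) x : GL WI K) : Matrix WI WI K) = Fintype.card WI := by rw [card_WI]; omega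
    have h5 := eq_one_of_fx h4
    have h6 : x = 1 := rh_injective hm hK (Units.ext (by rw [h5, map_one, Units.val_one]))
    rw [h6, orderOf_one] at hx
    omega
  have hd : orderOf ((Fintype.card K : ℕ) : ZMod 11) = 2 := by omega
  rw [Nat.card_eq_fintype_card, hd] at h3
  have ht : t ≠ 0 := by
    intro h0
    rw [h0] at h1 h2
    have h4 : fx ((rh K (2 ^ m) x : GL WI K) : Matrix WI WI K) = Fintype.card WI := by rw [card_WI]; omega
    have h5 := eq_one_of_fx h4
    have h6 : x = 1 := rh_injective hm hK (Units.ext (by rw [h5, map_one, Units.val_one]))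
    rw [h6, orderOf_one] at hx
    omega
  (clear * - h1 h2 h3 ht; omega)

/-- **The automizer of an element of order 11 has no element of order 5.** -/
theorem no_conj (hm : 1 ≤ m) (hK : Fintype.card K = 2 ^ (2 * m + 1)) [hp : Fact (Nat.Prime 11)]
    (h : Hyp 11 2 ↥(twistedF4 K (2 ^ m))) {x g : ↥(twistedF4 K (2 ^ m))} (hx : orderOf x = 11) {j : ℕ}
    (hj : j = 3 ∨ j = 4 ∨ j = 5 ∨ j = 9) : g * x * g⁻¹ ≠ x ^ j := by
  intro hg
  have hch : CharP K 2 := Cfsg.Agent.ChevalleyStructure.TwF4.Twisted.charP_two hK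
  have hx11 : x ^ 11 = 1 := by rw [← hx]; exact pow_orderOf_eq_one x
  obtain ⟨g', hg'⟩ := conj_three hx11 hj hg
  have h11 : (11 : K) ≠ 0 := by
    have h1 : ((11 : ℕ) : K) = 1 := by
      have h2 : ((11 : ℕ) : K) = ((2 : ℕ) : K) * 5 + 1 := by norm_num
      rw [h2, CharP.cast_eq_zero, zero_mul, zero_add]
    intro h0
    apply one_ne_zero (α := K)
    rw [← h1]
    exact_mod_cast h0
  obtain ⟨k, hk⟩ := five_dvd h11 (A := rh K (2 ^ m) x) (G := rh K (2 ^ m) g') (by rw [← map_pow, hx11, map_one])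
    (by rw [← map_inv, ← map_mul, ← map_mul, hg', map_pow])
  rw [card_WI, fx_eleven hm hK h hx] at hk
  omega

end Main

end Cfsg.Agent.H969.TwF
end

private theorem dce_8099cb6c449a : _root_.True := by
  try have : _root_.True := by simp only [_root_.Cfsg.Agent.H319.One.Num.cond.eq_1]
  try have : _root_.True := by simp only [_root_.Cfsg.Agent.H319.One.Num.sg.eq_1]
  try have : _root_.True := by simp only [_root_.Cfsg.Agent.H319.One.Num.chk.eq_1]
  try have : _root_.True := by simp only [_root_.Cfsg.Agent.H319.One.Num.pr.eq_1]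
  try have : _root_.True := by simp only [_root_.Cfsg.Agent.H144.One.fd.eq_1]
  try have : _root_.True := by simp only [_root_.Cfsg.Agent.H319.One.fx.congr_simp]
  exact _root_.True.intro
end

-- part: H741/One/Count
section
set_option linter.all false
open scoped Cfsg.Agent.FastGrp

-- part: H970/CycOne2
section
/-!
# `k(B₀) = k₀(B₀) = p` for a Sylow subgroup of order `p` with one class of nontrivial `p`-elements (helper970)
-/

set_option autoImplicit false

namespace Cfsg.Agent.H970.CycOne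

open Subgroup MulAction Cfsg Cfsg.Agent.H608.BlockRank

section

variable {G : Type*} [Group G] [Finite G] (p : ℕ) [hp : Fact p.Prime] (P : Sylow p G)

/-- the degrees in the principal block are prime to `p` when `|P| = p` -/
theorem not_dvd_degree (hP : Nat.card (P : Subgroup G) = p) (M : Ideal Cfsg.AlgInt) (hM : Cfsg.IsPModular p M)
    {χ : Cfsg.IrrCharacter G} (hχ : χ ∈ Cfsg.principalBlock M G) : ¬ p ∣ Cfsg.charDegree (χ : G → ℂ) := by
  intro hd
  have hMp := Cfsg.Agent.Blocks.Local.isPrime_of_isPModular hM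
  obtain ⟨hd1, hd0, hdd⟩ := S0914.degree_spec χ
  have hpp : ¬ p ∣ Nat.card G / Cfsg.charDegree (χ : G → ℂ) := by
    intro h
    have h1 : p ^ 2 ∣ Nat.card G := by
      rw [← Nat.mul_div_cancel' hdd, pow_two]
      exact mul_dvd_mul hd h
    have h2 := P.pow_dvd_card_of_pow_dvd_card h1
    rw [hP] at h2
    have h3 := Nat.le_of_dvd hp.out.pos h2
    have h4 := hp.out.two_le
    nlinarith
  have hs := (S0914.result p M hM χ).1 hpp
  have hblk : IsPBlock M ({χ} : Set (IrrCharacter G)) := ⟨χ, hs.symm⟩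
  have hprin := Cfsg.Agent.Blocks.PrincipalSection.isPBlock_principalBlock (K := G) (M := M)
  have h1 := Cfsg.Agent.Blocks.Basic.isPBlock_eq_of_mem hprin hblk hχ (Set.mem_singleton χ)
  have h2 := Cfsg.Agent.Blocks.PrincipalSection.one_mem_principalBlock (K := G) (M := M)
  rw [h1, Set.mem_singleton_iff] at h2
  rw [← h2] at hd1 hd
  have h3 : Cfsg.charDegree (((⟨fun _ => 1, Cfsg.Agent.Blocks.Basic.isIrrCharacter_one⟩ : IrrCharacter G)) : G → ℂ) = 1 := by
    have h4 : ((Cfsg.charDegree (((⟨fun _ => 1, Cfsg.Agent.Blocks.Basic.isIrrCharacter_one⟩ :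
      IrrCharacter G)) : G → ℂ) : ℕ) : ℂ) = 1 := hd1.symm
    exact_mod_cast h4
  rw [h3, Nat.dvd_one] at hd
  exact hp.out.one_lt.ne' hd

theorem card_principal (hP : Nat.card (P : Subgroup G) = p) (M : Ideal Cfsg.AlgInt) (hM : Cfsg.IsPModular p M)
    (he : (Subgroup.centralizer ((P : Subgroup G) : Set G)).relIndex
      (Subgroup.normalizer ((P : Subgroup G) : Set G)) = p - 1) : Nat.card (Cfsg.principalBlock M G) = p := by
  classical
  obtain ⟨x, hx, hx1⟩ := exists_ne_one hP
  have hxo : ∃ k : ℕ, orderOf x = p ^ k := by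
    obtain ⟨k, hk⟩ := IsPGroup.iff_orderOf.1 P.isPGroup' ⟨x, hx⟩
    exact ⟨k, by rw [← hk]; exact (Subgroup.orderOf_coe (⟨x, hx⟩ : (P : Subgroup G)))⟩
  have h1o : ∃ k : ℕ, orderOf (1 : G) = p ^ k := ⟨0, by simp⟩
  have hcard := H634.Cols.card_principal_eq (G := G) hM ({1, x} : Finset G) (by
    intro y hy
    simp only [Finset.mem_insert, Finset.mem_singleton] at hy
    rcases hy with rfl | rfl
    · exact h1o
    · exact hxo) (by
    intro g hg
    by_cases hg1 : g = 1
    · subst hg1
      refine ⟨1, ⟨by simp, IsConj.refl _⟩, ?_⟩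
      rintro y ⟨-, hy⟩
      exact isConj_one_right.1 hy
    · refine ⟨x, ⟨by simp, conj_of_relIndex p P hP he hg1 hx1 hg hxo⟩, ?_⟩
      rintro y ⟨hy, hgy⟩
      simp only [Finset.mem_insert, Finset.mem_singleton] at hy
      rcases hy with rfl | rfl
      · exact absurd (isConj_one_right.1 hgy.symm) hg1
      · rfl)
  rw [Finset.sum_pair (Ne.symm hx1), rank_cent p P hP M hM hx hx1] at hcard
  have h3 : Cfsg.blockRank p (Cfsg.principalBlock M ↥(Subgroup.centralizer ({(1 : G)} : Set G))) =
      Cfsg.blockRank p (Cfsg.principalBlock M G) := by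
    rw [← H634.Cols.finrank_secMap_principal hM h1o, H634.Cols.finrank_secMap_one]
  have h5 := hp.out.two_le
  rw [h3, blockRank_eq p P hP M hM he] at hcard
  omega

/-- `k₀(B₀) = p` -/
theorem card_height_zero (hP : Nat.card (P : Subgroup G) = p) (M : Ideal Cfsg.AlgInt) (hM : Cfsg.IsPModular p M)
    (he : (Subgroup.centralizer ((P : Subgroup G) : Set G)).relIndex
      (Subgroup.normalizer ((P : Subgroup G) : Set G)) = p - 1) :
    Nat.card {χ : Cfsg.IrrCharacter G // χ ∈ Cfsg.principalBlock M G ∧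
      Cfsg.blockHeight p (Cfsg.principalBlock M G) (χ : G → ℂ) = 0} = p := by
  refine Eq.trans ?_ (card_principal p P hP M hM he)
  refine Nat.card_congr (Equiv.subtypeEquivRight fun χ => ⟨fun h => h.1, fun h => ⟨h, ?_⟩⟩)
  unfold Cfsg.blockHeight
  rw [Nat.factorization_eq_zero_of_not_dvd (not_dvd_degree p P hP M hM h), Nat.zero_sub]

end

end Cfsg.Agent.H970.CycOne
end

-- part: H741/One/Count
section
/-!
# S4880: the count of the characters of height zero in the principal block (helper741)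

* `kz` : the number of characters of height zero of the principal block; `Goal` : the statement of S4880;
* `goal_small` : `Goal` if `p ≤ 5` or `p²` does not divide the group order;
* `kz_eq_card` : `k₀(B₀) = k(B₀)` if the Sylow `p`-subgroups have order `p²`.
-/

set_option autoImplicit false

open Cfsg

namespace Cfsg.Agent.H741.One

/-- All nontrivial `p`-elements are conjugate. -/
def OneC (p : ℕ) (G : Type*) [Group G] : Prop :=
  ∀ x y : G, x ≠ 1 → y ≠ 1 → (∃ k : ℕ, orderOf x = p ^ k) → (∃ k : ℕ, orderOf y = p ^ k) → IsConj x y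

/-- The number of characters of height zero in the principal block. -/
noncomputable def kz (p : ℕ) (M : Ideal AlgInt) (G : Type*) [Group G] : ℕ :=
  Nat.card {χ : IrrCharacter G // χ ∈ principalBlock M G ∧ blockHeight p (principalBlock M G) (χ : G → ℂ) = 0}

/-- The statement of S4880. -/
def Goal (p : ℕ) (M : Ideal AlgInt) (G : Type*) [Group G] : Prop :=
  p ≤ kz p M G ∨ (p = 11 ∧ kz p M G = 10)

section

variable {G : Type*} [Group G] {p : ℕ} {M : Ideal AlgInt}

theorem goal_of_le (h : p ≤ kz p M G) : Goal p M G := Or.inl h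

theorem goal_of_ten (h11 : p = 11) (h : 10 ≤ kz p M G) : Goal p M G := by
  rcases Nat.lt_or_ge 10 (kz p M G) with h1 | h1
  · left
    omega
  · right
    exact ⟨h11, by omega⟩

theorem blockDefect_le (B : Set (IrrCharacter G)) : blockDefect p B ≤ (Nat.card G).factorization p :=
  Nat.sub_le _ _

/-- `p = 2` -/
theorem two_le [Finite G] (hM : IsPModular 2 M) (hdiv : 2 ∣ Nat.card G) : 2 ≤ H774.K0.k0 2 M G :=
  Nat.le_of_dvd (H774.K0.k0_pos hM) (H774.K0.even_k0 hM hdiv)

end

variable {G : Type*} [Group G] [Finite G] {p : ℕ} [hp : Fact p.Prime] {M : Ideal AlgInt}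

theorem kz_eq (hM : IsPModular p M) : kz p M G = H774.K0.k0 p M G := by
  unfold kz H774.K0.k0
  refine Nat.card_congr (Equiv.subtypeEquivRight fun χ => ?_)
  rw [S4888.blockHeight_principal p hM, Nat.factorization_eq_zero_iff]
  obtain ⟨-, hd0, -⟩ := S0914.degree_spec χ
  have h1 := hp.out
  have h2 := hd0.ne'
  constructor
  · rintro ⟨h3, h4 | h4 | h4⟩
    · exact absurd h1 h4
    · exact ⟨h3, h4⟩
    · exact absurd h4 h2
  · rintro ⟨h3, h4⟩
    exact ⟨h3, Or.inr (Or.inl h4)⟩

/-- `S4880` if `p ≤ 5` or `p²` does not divide the group order. -/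
theorem goal_small (hM : IsPModular p M) (hdiv : p ∣ Nat.card G) (hconj : OneC p G)
    (hs : ¬ (7 ≤ p ∧ p ^ 2 ∣ Nat.card G)) : Goal p M G := by
  have hp' := hp.out
  apply goal_of_le
  rcases hp'.eq_two_or_odd' with h2 | hodd
  · subst h2
    rw [kz_eq hM]
    exact two_le hM hdiv
  by_cases h : p ^ 2 ∣ Nat.card G
  · have h7 : p < 7 := by
      by_contra h7
      exact hs ⟨by omega, h⟩
    have h6 := H774.K0.six_le_card (G := G) (p := p) (by rintro rfl; exact absurd hodd (by decide)) hM h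
    rw [kz_eq hM]
    refine le_trans ?_ h6
    omega
  · obtain ⟨P⟩ : Nonempty (Sylow p G) := inferInstance
    have hP : Nat.card (P : Subgroup G) = p := by
      have h1 : p ∣ Nat.card (P : Subgroup G) := P.dvd_card_of_dvd_card hdiv
      obtain ⟨n, hn⟩ := IsPGroup.iff_card.1 P.isPGroup'
      rw [hn] at h1 ⊢
      have h2 : n < 2 := by
        by_contra h2
        apply h
        refine dvd_trans (pow_dvd_pow p (by omega : 2 ≤ n)) ?_
        rw [← hn]
        exact Subgroup.card_subgroup_dvd_card _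
      interval_cases n
      · rw [pow_zero, Nat.dvd_one] at h1
        exact absurd h1 hp'.ne_one
      · exact pow_one p
    have h1 := H970.CycOne.card_height_zero p P hP M hM (H970.CycOne.relIndex_eq p P hP hconj)
    exact h1.ge

/-- `k₀(B₀) = k(B₀)` if the Sylow `p`-subgroups have order `p²`. -/
theorem kz_eq_card (hM : IsPModular p M) (h2 : (Nat.card G).factorization p = 2) :
    kz p M G = Nat.card (principalBlock M G) := by
  have := Fintype.ofFinite G
  refine Nat.card_congr (Equiv.subtypeEquivRight fun χ => ⟨fun h => h.1, fun h => ⟨h, ?_⟩⟩)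
  rcases Nat.eq_zero_or_pos (blockHeight p (principalBlock M G) (χ : G → ℂ)) with h0 | h0
  · exact h0
  · have h1 := H657.BrauerFeit.height_add_two_le hM Cfsg.Agent.Blocks.PrincipalSection.isPBlock_principalBlock h h0
    have h3 := blockDefect_le (p := p) (principalBlock M G)
    omega

end Cfsg.Agent.H741.One
end
end

-- part: H267/One/Blk
section
prune_inst 0x400000
set_option linter.all false
open scoped Cfsg.Agent.FastGrp

/-!
# `SL_2 × SL_2` in `Sp_4` (helper267)
-/

set_option autoImplicit false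

namespace Cfsg.Agent.H267.One

open Matrix

variable {F : Type*} [Field F]

/-- two blocks -/
def E (M N : Matrix (Fin 2) (Fin 2) F) : Matrix (Fin 2 ⊕ Fin 2) (Fin 2 ⊕ Fin 2) F :=
  fromBlocks !![M 0 0, 0; 0, N 0 0] !![M 0 1, 0; 0, N 0 1] !![M 1 0, 0; 0, N 1 0] !![M 1 1, 0; 0, N 1 1]

theorem E_mul (M N M' N' : Matrix (Fin 2) (Fin 2) F) : E M N * E M' N' = E (M * M') (N * N') := by
  rw [E, E, E, fromBlocks_multiply]
  congr 1 <;> (ext i j; (revert i j; simp only [Matrix.mul_apply, Fin.sum_univ_two, _root_.Fin.forall_fin_succ, Fin.isValue, _root_.Matrix.cons_mul, _root_.Nat.succ_eq_add_one, Nat.reduceAdd, _root_.Matrix.vecMul_cons, _root_.Matrix.head_cons, _root_.Matrix.smul_cons, _root_.smul_eq_mul, _root_.MulZeroClass.mul_zero, _root_.Matrix.smul_empty, _root_.Matrix.tail_cons, _root_.zero_smul, _root_.Matrix.empty_vecMul, _root_.add_zero, _root_.zero_add, _root_.Matrix.empty_mul, _root_.Equiv.symm_apply_apply, _root_.Matrix.add_apply, _root_.Matrix.of_apply, _root_.Matrix.cons_val',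 _root_.Matrix.cons_val_fin_one, _root_.Matrix.cons_val_zero, _root_.Matrix.cons_val_succ, _root_.forall_const, _root_.and_self, _root_.implies_true]))

theorem E_one : E (1 : Matrix (Fin 2) (Fin 2) F) 1 = 1 := by
  rw [E, ← fromBlocks_one]
  congr 1 <;> (ext i j; (revert i j; simp only [_root_.Fin.forall_fin_succ, _root_.Matrix.one_apply_eq, _root_.Matrix.of_apply, _root_.Matrix.cons_val', _root_.Matrix.cons_val_fin_one, Fin.isValue, _root_.Matrix.cons_val_zero, _root_.Matrix.cons_val_succ, _root_.IsEmpty.forall_iff, _root_.and_true, Nat.reduceAdd, _root_.Fin.succ_zero_eq_one, _root_.ne_eq, _root_.zero_ne_one, _root_.not_false_eq_true, _root_.Matrix.one_apply_ne, _root_.and_self, _root_.Fin.succ_ne_zero, _root_.true_and, _root_.Matrix.zero_apply, _root_.forall_const, _root_.implies_true, _root_.one_ne_zero]))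

theorem E_pow (M N : Matrix (Fin 2) (Fin 2) F) (k : ℕ) : E M N ^ k = E (M ^ k) (N ^ k) := by
  induction k with
  | zero => rw [pow_zero, pow_zero, pow_zero, E_one]
  | succ k ih => rw [pow_succ, ih, E_mul, pow_succ, pow_succ]

theorem E_mem {M N : Matrix (Fin 2) (Fin 2) F} (hM : M.det = 1) (hN : N.det = 1) :
    E M N ∈ symplecticGroup (Fin 2) F := by
  rw [det_fin_two] at hM hN
  rw [SymplecticGroup.mem_iff, J, E, fromBlocks_transpose, fromBlocks_multiply, fromBlocks_multiply]
  congr 1
  · ext i j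
    (revert i j; simp only [Matrix.vecMul, dotProduct, _root_.Fin.forall_fin_succ, Fin.isValue, _root_.MulZeroClass.mul_zero, _root_.mul_one, _root_.zero_add, _root_.Matrix.cons_mul, _root_.Nat.succ_eq_add_one, Nat.reduceAdd, _root_.Matrix.empty_mul, _root_.Equiv.symm_apply_apply, _root_.mul_neg, _root_.Matrix.neg_of, _root_.Matrix.neg_cons, _root_.neg_zero, _root_.Matrix.neg_empty, _root_.add_zero, _root_.Matrix.add_apply, _root_.Matrix.of_apply, _root_.Matrix.cons_val', _root_.Matrix.transpose_apply, _root_.Matrix.cons_val_fin_one, _root_.Fin.sum_univ_two, _root_.Matrix.cons_val_zero, _root_.Matrix.cons_val_one, _root_.MulZeroClass.zero_mul, _root_.neg_mul, _root_.Matrix.zero_apply, _root_.Matrix.cons_val_succ, _root_.forall_const, _root_.and_true, _root_.true_and]) <;> (repeat' with_reducible apply And.intro) <;> ring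
  · ext i j
    (revert i j; simp only [Matrix.vecMul, dotProduct, _root_.Fin.forall_fin_succ, Fin.isValue, _root_.MulZeroClass.mul_zero, _root_.mul_one, _root_.zero_add, _root_.Matrix.cons_mul, _root_.Nat.succ_eq_add_one, Nat.reduceAdd, _root_.Matrix.empty_mul, _root_.Equiv.symm_apply_apply, _root_.mul_neg, _root_.Matrix.neg_of, _root_.Matrix.neg_cons, _root_.neg_zero, _root_.Matrix.neg_empty, _root_.add_zero, _root_.Matrix.add_apply, _root_.Matrix.of_apply, _root_.Matrix.cons_val', _root_.Matrix.transpose_apply, _root_.Matrix.cons_val_fin_one, _root_.Fin.sum_univ_two, _root_.Matrix.cons_val_zero, _root_.Matrix.cons_val_one, _root_.MulZeroClass.zero_mul, _root_.neg_mul, _root_.Matrix.neg_apply, _root_.Matrix.cons_val_succ, _root_.IsEmpty.forall_iff, _root_.Matrix.one_apply_eq, _root_.Fin.succ_zero_eq_one, _root_.ne_eq, _root_.zero_ne_one, _root_.not_false_eq_true, _root_.Matrix.one_apply_ne, _root_.Fin.succ_ne_zero, _root_.and_true, _root_.true_and]) <;> (repeat' with_reducible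 apply And.intro)
    · linear_combination - hM
    · linear_combination - hN
  · ext i j
    (revert i j; simp only [Matrix.vecMul, dotProduct, _root_.Fin.forall_fin_succ, Fin.isValue, _root_.MulZeroClass.mul_zero, _root_.mul_one, _root_.zero_add, _root_.Matrix.cons_mul, _root_.Nat.succ_eq_add_one, Nat.reduceAdd, _root_.Matrix.empty_mul, _root_.Equiv.symm_apply_apply, _root_.mul_neg, _root_.Matrix.neg_of, _root_.Matrix.neg_cons, _root_.neg_zero, _root_.Matrix.neg_empty, _root_.add_zero, _root_.Matrix.add_apply, _root_.Matrix.of_apply, _root_.Matrix.cons_val', _root_.Matrix.transpose_apply, _root_.Matrix.cons_val_fin_one, _root_.Fin.sum_univ_two, _root_.Matrix.cons_val_zero, _root_.Matrix.cons_val_one, _root_.MulZeroClass.zero_mul, _root_.neg_mul, _root_.Matrix.cons_val_succ, _root_.IsEmpty.forall_iff, _root_.Matrix.one_apply_eq, _root_.Fin.succ_zero_eq_one, _root_.ne_eq, _root_.zero_ne_one, _root_.not_false_eq_true, _root_.Matrix.one_apply_ne, _root_.Fin.succ_ne_zero, _root_.and_true,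 _root_.true_and]) <;> (repeat' with_reducible apply And.intro)
    · linear_combination hM
    · linear_combination hN
  · ext i j
    (revert i j; simp only [Matrix.vecMul, dotProduct, _root_.Fin.forall_fin_succ, Fin.isValue, _root_.MulZeroClass.mul_zero, _root_.mul_one, _root_.zero_add, _root_.Matrix.cons_mul, _root_.Nat.succ_eq_add_one, Nat.reduceAdd, _root_.Matrix.empty_mul, _root_.Equiv.symm_apply_apply, _root_.mul_neg, _root_.Matrix.neg_of, _root_.Matrix.neg_cons, _root_.neg_zero, _root_.Matrix.neg_empty, _root_.add_zero, _root_.Matrix.add_apply, _root_.Matrix.of_apply, _root_.Matrix.cons_val', _root_.Matrix.transpose_apply, _root_.Matrix.cons_val_fin_one, _root_.Fin.sum_univ_two, _root_.Matrix.cons_val_zero, _root_.Matrix.cons_val_one, _root_.MulZeroClass.zero_mul, _root_.neg_mul, _root_.Matrix.zero_apply, _root_.Matrix.cons_val_succ, _root_.forall_const, _root_.and_true, _root_.true_and]) <;> (repeat' with_reducible apply And.intro) <;> ring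

theorem E_inj {M N M' N' : Matrix (Fin 2) (Fin 2) F} (h : E M N = E M' N') : M = M' ∧ N = N' := by
  have h1 : ∀ i j, E M N i j = E M' N' i j := fun i j => by rw [h]
  constructor
  · ext i j
    fin_cases i <;> fin_cases j
    · simpa [E] using h1 (Sum.inl 0) (Sum.inl 0)
    · simpa [E] using h1 (Sum.inl 0) (Sum.inr 0)
    · simpa [E] using h1 (Sum.inr 0) (Sum.inl 0)
    · simpa [E] using h1 (Sum.inr 0) (Sum.inr 0)
  · ext i j
    fin_cases i <;> fin_cases j
    · simpa [E] using h1 (Sum.inl 1) (Sum.inl 1)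
    · simpa [E] using h1 (Sum.inl 1) (Sum.inr 1)
    · simpa [E] using h1 (Sum.inr 1) (Sum.inl 1)
    · simpa [E] using h1 (Sum.inr 1) (Sum.inr 1)

theorem E_one_iff {M N : Matrix (Fin 2) (Fin 2) F} (h : E M N = 1) : M = 1 ∧ N = 1 := by
  rw [← E_one] at h
  exact E_inj h

theorem eq_of_sq {x y : F} (h2 : (2 : F) = 0) (h : x * x = y * y) : x = y := by
  have h3 : (x - y) * (x - y) = 0 := by linear_combination h + (y * y - x * y) * h2
  exact sub_eq_zero.1 (mul_self_eq_zero.1 h3)

/-- an involution commuting with a matrix of non-zero trace -/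
theorem two_one (h2 : (2 : F) = 0) {B t : Matrix (Fin 2) (Fin 2) F} (htr : B 0 0 + B 1 1 ≠ 0) (h : B * t = t * B)
    (ht : t * t = 1) : t = 1 := by
  have e1 : ∀ i j, (B * t) i j = (t * B) i j := fun i j => by rw [h]
  have e2 : ∀ i j, (t * t) i j = (1 : Matrix (Fin 2) (Fin 2) F) i j := fun i j => by rw [ht]
  have a01 := e1 0 1
  have a10 := e1 1 0
  have b00 := e2 0 0
  have b11 := e2 1 1
  simp only [Matrix.mul_apply, Fin.sum_univ_two] at a01 a10 b00 b11
  rw [Matrix.one_apply_eq] at b00 b11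
  have hxw : t 0 0 = t 1 1 := eq_of_sq h2 (by linear_combination b00 - b11)
  have hy : t 0 1 = 0 := by
    have : (B 0 0 + B 1 1) * t 0 1 = 0 := by
      rw [hxw] at a01
      linear_combination a01 + (B 1 1 * t 0 1) * h2
    exact (mul_eq_zero.1 this).resolve_left htr
  have hz : t 1 0 = 0 := by
    have : (B 0 0 + B 1 1) * t 1 0 = 0 := by
      rw [hxw] at a10
      linear_combination a10 + (B 0 0 * t 1 0) * h2
    exact (mul_eq_zero.1 this).resolve_left htr
  have hw : t 1 1 = 1 := by
    rw [hy] at b11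
    exact eq_of_sq h2 (by linear_combination b11)
  ext i j
  fin_cases i <;> fin_cases j
  · simpa using hxw.trans hw
  · simpa using hy
  · simpa using hz
  · simpa using hw

/-- the matrix `diag(τ, τ²)` of the blocks -/
theorem E_add (M N M' N' : Matrix (Fin 2) (Fin 2) F) : E M N + E M' N' = E (M + M') (N + N') := by
  rw [E, E, E, fromBlocks_add]
  congr 1 <;> (ext i j; (revert i j; simp only [_root_.Fin.forall_fin_succ, Fin.isValue, _root_.Matrix.add_apply, _root_.Matrix.of_apply, _root_.Matrix.cons_val', _root_.Matrix.cons_val_fin_one, _root_.Matrix.cons_val_zero, _root_.Matrix.cons_val_succ, _root_.forall_const, _root_.add_zero, _root_.and_self, _root_.implies_true]))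

theorem adj_add (M : Matrix (Fin 2) (Fin 2) F) : M + M.adjugate = (M 0 0 + M 1 1) • (1 : Matrix (Fin 2) (Fin 2) F) := by
  rw [adjugate_fin_two]
  ext i j
  (revert i j; simp only [_root_.Fin.forall_fin_succ, Fin.isValue, _root_.Matrix.add_apply, _root_.Matrix.of_apply, _root_.Matrix.cons_val', _root_.Matrix.cons_val_fin_one, _root_.Matrix.smul_apply, _root_.smul_eq_mul, _root_.Matrix.cons_val_zero, _root_.Matrix.cons_val_succ, _root_.Fin.succ_zero_eq_one, _root_.IsEmpty.forall_iff, _root_.Matrix.one_apply_eq, _root_.mul_one, _root_.add_neg_cancel, Nat.reduceAdd, _root_.ne_eq, _root_.zero_ne_one, _root_.not_false_eq_true, _root_.Matrix.one_apply_ne, _root_.MulZeroClass.mul_zero, _root_.Fin.succ_ne_zero, _root_.and_true, _root_.true_and]) <;> (repeat' with_reducible apply And.intro)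
  ring

theorem trace_sq (h2 : (2 : F) = 0) (M : Matrix (Fin 2) (Fin 2) F) :
    (M * M) 0 0 + (M * M) 1 1 = (M 0 0 + M 1 1) * (M 0 0 + M 1 1) := by
  simp only [Matrix.mul_apply, Fin.sum_univ_two]
  linear_combination (M 0 1 * M 1 0 - M 0 0 * M 1 1) * h2

/-- **the centralizer of `B ⊕ B²` has no involution** -/
theorem cent_one (h2 : (2 : F) = 0) {B : Matrix (Fin 2) (Fin 2) F} (hdet : B.det = 1) (h0 : B 0 0 + B 1 1 ≠ 0)
    (h1 : B 0 0 + B 1 1 ≠ 1) {t : Matrix (Fin 2 ⊕ Fin 2) (Fin 2 ⊕ Fin 2) F} (h : E B (B * B) * t = t * E B (B * B))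
    (ht : t * t = 1) : t = 1 := by
  obtain ⟨τ, hτ⟩ : ∃ τ, B 0 0 + B 1 1 = τ := ⟨_, rfl⟩
  have hdet2 : (B * B).det = 1 := by rw [det_mul, hdet, one_mul]
  have htr2 := trace_sq h2 B
  rw [hτ] at h0 h1 htr2
  -- the inverse
  have hinv : E B.adjugate (B * B).adjugate * E B (B * B) = 1 := by
    rw [E_mul, adjugate_mul, adjugate_mul, hdet, hdet2, one_smul, E_one]
  have hinv' : E B (B * B) * E B.adjugate (B * B).adjugate = 1 := by
    rw [E_mul, mul_adjugate, mul_adjugate, hdet, hdet2, one_smul, E_one]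
  have h3 : E B.adjugate (B * B).adjugate * t = t * E B.adjugate (B * B).adjugate := by
    calc E B.adjugate (B * B).adjugate * t =
        E B.adjugate (B * B).adjugate * t * (E B (B * B) * E B.adjugate (B * B).adjugate) := by
          rw [hinv', mul_one]
      _ = E B.adjugate (B * B).adjugate * (t * E B (B * B)) * E B.adjugate (B * B).adjugate := by
          simp only [mul_assoc]
      _ = E B.adjugate (B * B).adjugate * (E B (B * B) * t) * E B.adjugate (B * B).adjugate := by rw [h]
      _ = (E B.adjugate (B * B).adjugate * E B (B * B)) * t * E B.adjugate (B * B).adjugate := by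
          simp only [mul_assoc]
      _ = t * E B.adjugate (B * B).adjugate := by rw [hinv, one_mul]
  have hD : E (τ • 1) ((τ * τ) • 1) * t = t * E (τ • 1) ((τ * τ) • 1) := by
    have e : E (τ • 1) ((τ * τ) • 1) = E B (B * B) + E B.adjugate (B * B).adjugate := by
      rw [E_add, adj_add, adj_add, hτ, htr2]
    rw [e, add_mul, mul_add, h, h3]
  have hDd : E (τ • 1) ((τ * τ) • 1) = diagonal (Sum.elim ![τ, τ * τ] ![τ, τ * τ]) := by
    rw [E, ← fromBlocks_diagonal]
    congr 1 <;> (ext i j; (revert i j; simp only [_root_.Fin.forall_fin_succ, Fin.isValue, _root_.Matrix.smul_apply, _root_.Matrix.one_apply_eq, _root_.smul_eq_mul, _root_.mul_one, _root_.Matrix.of_apply, _root_.Matrix.cons_val', _root_.Matrix.cons_val_fin_one, _root_.Nat.succ_eq_add_one, Nat.reduceAdd, _root_.Matrix.cons_val_zero, _root_.Matrix.cons_val_succ, _root_.Fin.succ_zero_eq_one, _root_.IsEmpty.forall_iff, _root_.and_true, _root_.Matrix.diagonal_apply_eq, _root_.ne_eq, _root_.zero_ne_one, _root_.not_false_eq_true,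 _root_.Matrix.diagonal_apply_ne, _root_.and_self, _root_.Fin.succ_ne_zero, _root_.true_and, _root_.Matrix.cons_val_one, _root_.Matrix.one_apply_ne, _root_.MulZeroClass.mul_zero, _root_.Matrix.zero_apply, _root_.forall_const, _root_.implies_true, _root_.one_ne_zero]))
  rw [hDd] at hD
  have hne : τ ≠ τ * τ := by
    intro h4
    have h5 : τ * (τ - 1) = 0 := by linear_combination - h4
    rcases mul_eq_zero.1 h5 with h6 | h6
    · exact h0 h6
    · exact h1 (sub_eq_zero.1 h6)
  have hz : ∀ i j, Sum.elim ![τ, τ * τ] ![τ, τ * τ] i ≠ Sum.elim ![τ, τ * τ] ![τ, τ * τ] j → t i j = 0 := by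
    intro i j hij
    have h4 : (diagonal (Sum.elim ![τ, τ * τ] ![τ, τ * τ]) * t) i j =
        (t * diagonal (Sum.elim ![τ, τ * τ] ![τ, τ * τ])) i j := by rw [hD]
    rw [diagonal_mul, mul_diagonal] at h4
    have h5 : (Sum.elim ![τ, τ * τ] ![τ, τ * τ] i - Sum.elim ![τ, τ * τ] ![τ, τ * τ] j) * t i j = 0 := by
      linear_combination h4
    exact (mul_eq_zero.1 h5).resolve_left (sub_ne_zero.2 hij)
  -- `t` has blocks
  obtain ⟨t1, t2, hte⟩ : ∃ t1 t2 : Matrix (Fin 2) (Fin 2) F, t = E t1 t2 := by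
    refine ⟨!![t (Sum.inl 0) (Sum.inl 0), t (Sum.inl 0) (Sum.inr 0); t (Sum.inr 0) (Sum.inl 0), t (Sum.inr 0) (Sum.inr 0)],
      !![t (Sum.inl 1) (Sum.inl 1), t (Sum.inl 1) (Sum.inr 1); t (Sum.inr 1) (Sum.inl 1), t (Sum.inr 1) (Sum.inr 1)],
      ?_⟩
    have a1 : t (Sum.inl 0) (Sum.inl 1) = 0 := hz _ _ (by simpa only [_root_.Nat.succ_eq_add_one, _root_.Nat.reduceAdd, _root_.Fin.isValue, _root_.Sum.elim_inl, _root_.Matrix.cons_val_zero, _root_.Matrix.cons_val_one, _root_.Matrix.cons_val_fin_one, _root_.ne_eq] using hne)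
    have a2 : t (Sum.inl 1) (Sum.inl 0) = 0 := hz _ _ (by simpa only [_root_.Nat.succ_eq_add_one, _root_.Nat.reduceAdd, _root_.Fin.isValue, _root_.Sum.elim_inl, _root_.Matrix.cons_val_one, _root_.Matrix.cons_val_fin_one, _root_.Matrix.cons_val_zero, _root_.ne_eq] using hne.symm)
    have a3 : t (Sum.inl 0) (Sum.inr 1) = 0 := hz _ _ (by simpa using hne)
    have a4 : t (Sum.inl 1) (Sum.inr 0) = 0 := hz _ _ (by simpa using hne.symm)
    have a5 : t (Sum.inr 0) (Sum.inl 1) = 0 := hz _ _ (by simpa using hne)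
    have a6 : t (Sum.inr 1) (Sum.inl 0) = 0 := hz _ _ (by simpa using hne.symm)
    have a7 : t (Sum.inr 0) (Sum.inr 1) = 0 := hz _ _ (by simpa using hne)
    have a8 : t (Sum.inr 1) (Sum.inr 0) = 0 := hz _ _ (by simpa using hne.symm)
    ext i j
    rcases i with i | i <;> rcases j with j | j <;> (revert i j; simp only [E, a1, a2, a3, a4, a5, a6, a7, a8, _root_.Fin.forall_fin_succ, Fin.isValue, _root_.Matrix.of_apply, _root_.Matrix.cons_val', _root_.Matrix.cons_val_zero, _root_.Matrix.cons_val_fin_one, _root_.Matrix.cons_val_one, _root_.Matrix.fromBlocks_apply₁₁, _root_.Matrix.cons_val_succ, _root_.Fin.succ_zero_eq_one, _root_.IsEmpty.forall_iff, _root_.and_true, _root_.and_self, _root_.Matrix.fromBlocks_apply₁₂, _root_.Matrix.fromBlocks_apply₂₁, _root_.Matrix.fromBlocks_apply₂₂])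
  rw [hte, E_mul, E_mul] at h
  rw [hte, E_mul] at ht
  obtain ⟨c1, c2⟩ := E_inj h
  obtain ⟨d1, d2⟩ := E_one_iff ht
  have e1 := two_one h2 (by rw [hτ]; exact h0) c1 d1
  have e2 := two_one h2 (by rw [htr2]; exact mul_ne_zero h0 h0) c2 d2
  rw [hte, e1, e2, E_one]

end Cfsg.Agent.H267.One

private theorem dce_80f862688fc1 : _root_.True := by
  try have : _root_.True := by simp only [_root_.Cfsg.Agent.H267.One.E.eq_1]
  exact _root_.True.intro
end

-- part: H267/One/Four
section
prune_inst 0x400000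
set_option linter.all false
open scoped Cfsg.Agent.FastGrp

/-!
# S4880, `Sp_4(q)`, `q` even (helper267)

All elements of order `p` are conjugate under `Aut S`; one commutes with an involution, `B ⊕ B²` does not.
-/

set_option autoImplicit false

namespace Cfsg.Agent.H267.One

open Cfsg Matrix Cfsg.Agent.H319.One

variable {F : Type*} [Field F] [Fintype F] {p n : ℕ} [Fact p.Prime]

theorem card_SL : Nat.card (SpecialLinearGroup (Fin 2) F) = (Fintype.card F ^ 2 - 1) * Fintype.card F := by
  have h := Cfsg.Agent.S0242.result (F := F) rfl 2 (by norm_num)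
  have hq : 1 < Fintype.card F := Fintype.one_lt_card
  rw [Fin.prod_univ_two] at h
  simp only [Fin.val_zero, pow_zero, Fin.val_one, pow_one] at h
  have h2 : Fintype.card F ^ 2 - Fintype.card F = (Fintype.card F - 1) * Fintype.card F := by
    rw [Nat.sub_mul, one_mul, sq]
  rw [h2] at h
  apply Nat.eq_of_mul_eq_mul_left (show 0 < Fintype.card F - 1 by omega)
  rw [h]; ring

/-- a matrix `B` of order `p`, its trace is not `0, 1` -/
theorem exists_B (h2 : (2 : F) = 0) (h5 : 5 ≤ p) (hd : p ∣ Fintype.card F ^ 2 - 1) :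
    ∃ B : Matrix (Fin 2) (Fin 2) F, B.det = 1 ∧ B ^ p = 1 ∧ B ≠ 1 ∧ B 0 0 + B 1 1 ≠ 0 ∧ B 0 0 + B 1 1 ≠ 1 := by
  classical
  have hp : p.Prime := Fact.out
  obtain ⟨g, hg⟩ := exists_prime_orderOf_dvd_card' (G := SpecialLinearGroup (Fin 2) F) p
    (by rw [card_SL]; exact hd.mul_right _)
  have hgp : (g : Matrix (Fin 2) (Fin 2) F) ^ p = 1 := by
    have := congrArg (Subtype.val) (show g ^ p = 1 by rw [← hg]; exact pow_orderOf_eq_one g)
    simpa only [_root_.Matrix.SpecialLinearGroup.coe_pow, _root_.Matrix.SpecialLinearGroup.coe_one] using this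
  have hg1 : (g : Matrix (Fin 2) (Fin 2) F) ≠ 1 := by
    intro h
    have : g = 1 := Subtype.ext (by simpa using h)
    rw [this, orderOf_one] at hg
    omega
  have hdet := g.2
  obtain ⟨B, hB⟩ : ∃ B : Matrix (Fin 2) (Fin 2) F, (g : Matrix (Fin 2) (Fin 2) F) = B := ⟨_, rfl⟩
  rw [hB] at hgp hg1 hdet
  -- Cayley–Hamilton
  have hsq : B * B = (B 0 0 + B 1 1) • B + 1 := by
    rw [det_fin_two] at hdet
    ext i j
    fin_cases i <;> fin_cases j <;> simp only [Matrix.mul_apply, Fin.sum_univ_two, _root_.Fin.zero_eta, _root_.Fin.isValue, _root_.Matrix.mul_apply, _root_.Fin.sum_univ_two, _root_.Matrix.add_apply, _root_.Matrix.smul_apply, _root_.smul_eq_mul, _root_.Matrix.one_apply_eq, _root_.Fin.mk_one, _root_.Nat.reduceAdd, _root_.ne_eq, _root_.zero_ne_one, _root_.not_false_eq_true, _root_.Matrix.one_apply_ne, _root_.add_zero, _root_.one_ne_zero]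
    · linear_combination - hdet - h2
    · ring
    · ring
    · linear_combination - hdet - h2
  refine ⟨B, hdet, hgp, hg1, fun h0 => ?_, fun h1 => ?_⟩
  · rw [h0, zero_smul, zero_add] at hsq
    have h3 : B ^ 2 = 1 := by rw [sq, hsq]
    obtain ⟨k, hk⟩ : ∃ k, p = 2 * k + 1 := by
      obtain ⟨k, hk⟩ := hp.odd_of_ne_two (by omega)
      exact ⟨k, hk⟩
    apply hg1
    rw [hk, pow_add, pow_mul, h3, one_pow, one_mul, pow_one] at hgp
    exact hgp
  · rw [h1, one_smul] at hsq
    have h3 : B ^ 3 = 1 := by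
      rw [pow_succ, sq, hsq, add_mul, one_mul, hsq]
      have h4 : B + 1 + B = (2 : F) • B + 1 := by
        rw [two_smul]; abel
      rw [h4, h2, zero_smul, zero_add]
    have h4 : p % 3 = 1 ∨ p % 3 = 2 := by
      have : p % 3 ≠ 0 := by
        intro h5
        have h6 := (Nat.prime_dvd_prime_iff_eq Nat.prime_three hp).1 (Nat.dvd_of_mod_eq_zero h5)
        omega
      omega
    obtain ⟨k, hk⟩ : ∃ k, p = 3 * k + p % 3 := ⟨p / 3, by omega⟩
    apply hg1
    rcases h4 with h4 | h4
    · rw [hk, h4, pow_add, pow_mul, h3, one_pow, one_mul, pow_one] at hgp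
      exact hgp
    · rw [hk, h4, pow_add, pow_mul, h3, one_pow, one_mul] at hgp
      have h5 : B ^ 3 = B ^ 2 * B := pow_succ B 2
      rw [h3, hgp, one_mul] at h5
      exact h5.symm

theorem four_false (h2 : (2 : F) = 0) (hpF : ¬ p ∣ Fintype.card F) (h : Hyp p n (PSp 2 F)) : False := by
  classical
  have hp : p.Prime := Fact.out
  have h5 := h.five
  have hq : 1 < Fintype.card F := Fintype.one_lt_card
  have hnat : Nat.card F = Fintype.card F := Nat.card_eq_fintype_card
  -- the centre is trivial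
  have heven : Fintype.card F % 2 = 0 := by
    have : CharP F 2 := by
      obtain ⟨c, hc⟩ := CharP.exists F
      have hcp : c.Prime := CharP.char_is_prime F c
      have h3 : c ∣ 2 := (CharP.cast_eq_zero_iff F c 2).1 (by exact_mod_cast h2)
      have h4 : c = 2 := (Nat.prime_dvd_prime_iff_eq hcp Nat.prime_two).1 h3
      rwa [h4] at hc
    obtain ⟨k, hk, hk'⟩ := FiniteField.card F 2
    rw [hk']
    have : 2 ∣ 2 ^ (k : ℕ) := dvd_pow_self 2 (PNat.ne_zero k)
    omega
  have hZ : Nat.card (Subgroup.center (symplecticGroup (Fin 2) F)) = 1 := by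
    rw [Cfsg.Agent.S0246.result (F := F) rfl 2 (by norm_num)]
    exact (Nat.coprime_two_left.2 (Nat.odd_iff.2 (by omega)) : Nat.Coprime 2 (Fintype.card F - 1))
  have hbot : Subgroup.center (symplecticGroup (Fin 2) F) = ⊥ := Subgroup.card_eq_one.1 hZ
  have hinj : ∀ x y : symplecticGroup (Fin 2) F, (QuotientGroup.mk x : PSp 2 F) = QuotientGroup.mk y → x = y := by
    intro x y hxy
    have h3 := QuotientGroup.eq.1 hxy
    rw [hbot, Subgroup.mem_bot] at h3
    exact (eq_of_inv_mul_eq_one h3)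
  have hcard : Nat.card (PSp 2 F) = Fintype.card F ^ 4 * ((Fintype.card F ^ 2 - 1) * (Fintype.card F ^ 4 - 1)) := by
    have h3 := Subgroup.card_eq_card_quotient_mul_card_subgroup (Subgroup.center (symplecticGroup (Fin 2) F))
    rw [hZ, mul_one, Cfsg.Agent.S0245.result (F := F) rfl 2] at h3
    rw [← h3]
    simp only [Finset.prod_range_succ, _root_.Nat.reducePow, _root_.Finset.prod_range_succ, _root_.Finset.range_one, _root_.Finset.prod_singleton, _root_.zero_add, _root_.mul_one, _root_.Nat.reduceAdd, _root_.Nat.reduceMul]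
  have h4 : Fintype.card F ^ 4 - 1 = (Fintype.card F ^ 2 + 1) * (Fintype.card F ^ 2 - 1) := by
    have := Nat.sq_sub_sq (Fintype.card F ^ 2) 1
    rw [one_pow, ← pow_mul] at this
    exact this
  by_cases hd : p ∣ Fintype.card F ^ 2 - 1
  · -- `p ∣ q² - 1`
    obtain ⟨B, hdet, hBp, hB1, h0, h1⟩ := exists_B (F := F) h2 h5 hd
    have hdet2 : (B * B).det = 1 := by rw [det_mul, hdet, one_mul]
    let y : symplecticGroup (Fin 2) F := ⟨E B (B * B), E_mem hdet hdet2⟩
    have hyp : y ^ p = 1 := by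
      apply Subtype.ext
      change (E B (B * B)) ^ p = 1
      rw [E_pow, hBp, ← sq, ← pow_mul, mul_comm 2 p, pow_mul, hBp, one_pow, E_one]
    have hy1 : y ≠ 1 := by
      intro h3
      have h3' : E B (B * B) = 1 := congrArg Subtype.val h3
      exact hB1 (E_one_iff h3').1
    have hy : orderOf y = p := orderOf_eq_prime hyp hy1
    have hyS : orderOf (QuotientGroup.mk y : PSp 2 F) = p := by
      apply orderOf_eq_prime
      · rw [← QuotientGroup.mk_pow, hyp]
        rfl
      · intro h3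
        exact hy1 (hinj y 1 h3)
    obtain ⟨-, -, -, x, t, hx, ht, hxt⟩ := H377.psp_adj_two_of_dvd (F := F) (m := 2) (i := 1) le_rfl (by norm_num)
      hp (by omega) (by rw [hnat, mul_one]; exact hd)
    obtain ⟨φ, hφ⟩ := h.one x (QuotientGroup.mk y) hx hyS
    obtain ⟨s, hs⟩ := QuotientGroup.mk_surjective (φ t)
    have ht2 : orderOf (φ t) = 2 := (orderOf_injective φ.toMonoidHom φ.injective t).trans ht
    have hs2 : s * s = 1 := by
      apply hinj
      have h3 : φ t ^ 2 = 1 := by
        have := pow_orderOf_eq_one (φ t)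
        rwa [ht2] at this
      rw [QuotientGroup.mk_mul, hs, ← sq, h3]
      rfl
    have hsy : y * s = s * y := by
      apply hinj
      rw [QuotientGroup.mk_mul, QuotientGroup.mk_mul, hs, ← hφ, ← map_mul, ← map_mul, hxt.eq]
    have h3 := cent_one (F := F) h2 hdet h0 h1 (t := (s : Matrix (Fin 2 ⊕ Fin 2) (Fin 2 ⊕ Fin 2) F))
      (congrArg Subtype.val hsy) (congrArg Subtype.val hs2)
    have h6 : s = 1 := Subtype.ext h3
    rw [← hs, h6] at ht2
    change orderOf (1 : PSp 2 F) = 2 at ht2
    rw [orderOf_one] at ht2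
    omega
  · -- `p ∣ q² + 1`
    have h3 := h.dvd
    rw [hcard] at h3
    have c1 : Nat.Coprime (p ^ n) (Fintype.card F ^ 4) :=
      Nat.Coprime.pow_left _ (Nat.Coprime.pow_right _ ((Nat.Prime.coprime_iff_not_dvd hp).2 hpF))
    have c2 : Nat.Coprime (p ^ n) (Fintype.card F ^ 2 - 1) :=
      Nat.Coprime.pow_left _ ((Nat.Prime.coprime_iff_not_dvd hp).2 hd)
    have h6 := c2.dvd_of_dvd_mul_left (c1.dvd_of_dvd_mul_left h3)
    rw [h4] at h6
    have h7 := c2.dvd_of_dvd_mul_right h6
    have hodd : Odd (p ^ n) := (hp.odd_of_ne_two (by omega)).pow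
    obtain ⟨g, hg⟩ := H377.exists_psp_tor_minus (F := F) (m := 2) (by norm_num) (N := p ^ n)
      (Nat.pow_pos hp.pos) (Or.inl ⟨hodd, by rw [hnat]; exact h7⟩)
    have h8 := h.orderOf_le hg
    have := h.two
    omega

end Cfsg.Agent.H267.One
end

-- part: H267/One/Psp
section
prune_inst 0x400000
set_option linter.all false
open scoped Cfsg.Agent.FastGrp

/-!
# S4880, row `PSp` in cross characteristic (helper267)

* `fx_conjHom` : semisimilitudes preserve `fx`;
* `hinv_psp` : if `φ (π x) = π y`, `x`, `y` of order `p`, then `fx x = fx y`;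
* `row_psp`.
-/

set_option autoImplicit false

namespace Cfsg.Agent.H267.One

open Cfsg Matrix Cfsg.Agent.H319.One Cfsg.Agent.ClassicalGeometry.SympAutSemi

variable {F : Type*} [Field F] {m : ℕ}

theorem fx_conjHom (g : semiSim m F) (x : symplecticGroup (Fin m) F) :
    fx ((conjHom m F g x : symplecticGroup (Fin m) F) : Matrix (Fin m ⊕ Fin m) (Fin m ⊕ Fin m) F) =
      fx (x : Matrix (Fin m ⊕ Fin m) (Fin m ⊕ Fin m) F) := by
  obtain ⟨A, σ, -, hA, -⟩ := Cfsg.Agent.H198.SympGamma.exists_pair_Psi g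
  obtain ⟨x', hx'⟩ : ∃ x', conjHom m F g x = x' := ⟨_, rfl⟩
  rw [hx']
  have h1 : (x' : Matrix (Fin m ⊕ Fin m) (Fin m ⊕ Fin m) F) * (A : Matrix (Fin m ⊕ Fin m) (Fin m ⊕ Fin m) F) =
      (A : Matrix (Fin m ⊕ Fin m) (Fin m ⊕ Fin m) F) *
        (x : Matrix (Fin m ⊕ Fin m) (Fin m ⊕ Fin m) F).map σ := by
    apply Matrix.mulVec_injective
    funext w
    obtain ⟨v, rfl⟩ : ∃ v : Fin m ⊕ Fin m → F, (fun i => σ (v i)) = w :=
      ⟨fun i => σ.symm (w i), by funext i; simp⟩
    rw [← Matrix.mulVec_mulVec, ← Matrix.mulVec_mulVec, ← hA]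
    have h2 : rho m F x' (g.1 v) = g.1 (rho m F x v) := by
      rw [← hx', rho_conjHom, Equiv.Perm.mul_apply, Equiv.Perm.mul_apply, perm_inv_apply_self]
    rw [rho_apply, rho_apply] at h2
    rw [h2, hA]
    congr 1
    exact (Cfsg.Agent.H198.SemiMat.map_mulVec σ _ v).symm
  have h2 : (x' : Matrix (Fin m ⊕ Fin m) (Fin m ⊕ Fin m) F) =
      (A : Matrix (Fin m ⊕ Fin m) (Fin m ⊕ Fin m) F) * (x : Matrix (Fin m ⊕ Fin m) (Fin m ⊕ Fin m) F).map σ *
        ((A⁻¹ : GL (Fin m ⊕ Fin m) F) : Matrix (Fin m ⊕ Fin m) (Fin m ⊕ Fin m) F) := by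
    rw [← h1, mul_assoc, Units.mul_inv, mul_one]
  rw [h2, fx_conj]
  exact fx_map (σ : F →+* F) _

variable [Fintype F]

/-- the projection -/
abbrev pr (m : ℕ) (F : Type*) [Field F] : symplecticGroup (Fin m) F →* PSp m F :=
  QuotientGroup.mk' (Subgroup.center (symplecticGroup (Fin m) F))

theorem sq_of_center (hm : 1 ≤ m) {z : symplecticGroup (Fin m) F}
    (hz : z ∈ Subgroup.center (symplecticGroup (Fin m) F)) : z ^ 2 = 1 := by
  have h1 : (⟨z, hz⟩ : Subgroup.center (symplecticGroup (Fin m) F)) ^ Nat.card (Subgroup.center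
      (symplecticGroup (Fin m) F)) = 1 := pow_card_eq_one'
  rw [Cfsg.Agent.S0246.result (F := F) rfl m hm] at h1
  obtain ⟨k, hk⟩ := Nat.gcd_dvd_left 2 (Fintype.card F - 1)
  have h2 : z ^ Nat.gcd 2 (Fintype.card F - 1) = 1 := congrArg Subtype.val h1
  rw [hk, pow_mul, h2, one_pow]

theorem hinv_psp (hm : 2 ≤ m) (h2 : 3 ≤ m ∨ (2 : F) ≠ 0) {p : ℕ} (hp : p.Prime) (hp2 : p ≠ 2)
    (φ : MulAut (PSp m F)) (x y : symplecticGroup (Fin m) F) (hx : orderOf x = p) (hy : orderOf y = p)
    (h : φ (pr m F x) = pr m F y) :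
    fx (x : Matrix (Fin m ⊕ Fin m) (Fin m ⊕ Fin m) F) = fx (y : Matrix (Fin m ⊕ Fin m) (Fin m ⊕ Fin m) F) := by
  obtain ⟨g, hg⟩ := ClassicalGeometry.SympAutExists.exists_semi hm φ
    (ClassicalGeometry.SympAutOddA.recog hm h2 φ)
  rw [← fx_conjHom g x]
  obtain ⟨x', hx'⟩ : ∃ x', conjHom m F g x = x' := ⟨_, rfl⟩
  have hxp : orderOf x' = p := by
    rw [← hx', ← hx]
    exact orderOf_injective (conjHom m F g).toMonoidHom (conjHom m F g).injective x
  rw [hx']
  congr 2
  have h3 : pr m F x' = pr m F y := by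
    rw [← h, ← hg, ← hx']
    rfl
  have h4 : x'⁻¹ * y ∈ Subgroup.center (symplecticGroup (Fin m) F) := QuotientGroup.eq.1 h3
  have h5 := sq_of_center (by omega) h4
  obtain ⟨z, hz⟩ : ∃ z, x'⁻¹ * y = z := ⟨_, rfl⟩
  rw [hz] at h4 h5
  have hyz : y = x' * z := by rw [← hz, mul_inv_cancel_left]
  have hcz : Commute x' z := (Subgroup.mem_center_iff.1 h4 x')
  have h6 : z ^ p = 1 := by
    have h7 := pow_orderOf_eq_one y
    rw [hy, hyz, hcz.mul_pow, ← hxp, pow_orderOf_eq_one, one_mul, hxp] at h7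
    exact h7
  have h7 : orderOf z ∣ 1 := by
    rw [← (Nat.coprime_primes Nat.prime_two hp).2 hp2.symm]
    exact Nat.dvd_gcd (orderOf_dvd_of_pow_eq_one h5) (orderOf_dvd_of_pow_eq_one h6)
  rw [Nat.dvd_one, orderOf_eq_one_iff] at h7
  rw [hyz, h7, mul_one]

/-- numbers -/
theorem two_le_geom {p : ℕ} (hp : 5 ≤ p) (k : ℕ) : 2 * (k + 2 + 1) ≤ ∑ i ∈ Finset.range (k + 2), p ^ i := by
  induction k with
  | zero =>
    rw [Finset.sum_range_succ, Finset.sum_range_one]
    simp
    omega
  | succ k ih =>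
    rw [Finset.sum_range_succ]
    have h1 : 2 ≤ p ^ (k + 2) := by
      calc 2 ≤ p := by omega
        _ = p ^ 1 := (pow_one p).symm
        _ ≤ p ^ (k + 2) := Nat.pow_le_pow_right (by omega) (by omega)
    omega

/-- **row `PSp`** -/
theorem row_psp {p n : ℕ} [Fact p.Prime] (hm : 2 ≤ m) (hpF : ¬ p ∣ Fintype.card F) (h : Hyp p n (PSp m F)) : False := by
  classical
  have hp : p.Prime := Fact.out
  have h5 := h.five
  by_cases h2 : 3 ≤ m ∨ (2 : F) ≠ 0
  · have hq1 : 1 < Fintype.card F := Fintype.one_lt_card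
    have : Finite (symplecticGroup (Fin m) F) :=
      Finite.of_injective (fun A => (A : Matrix (Fin m ⊕ Fin m) (Fin m ⊕ Fin m) F)) Subtype.val_injective
    let ρ : symplecticGroup (Fin m) F →* GL (Fin m ⊕ Fin m) F :=
      MonoidHom.toHomUnits (symplecticGroup (Fin m) F).subtype
    have hρv : ∀ x, ((ρ x : GL (Fin m ⊕ Fin m) F) : Matrix (Fin m ⊕ Fin m) (Fin m ⊕ Fin m) F) = x := fun x => rfl
    have hρ : Function.Injective ρ := fun x y hxy => Subtype.ext (by rw [← hρv, ← hρv, hxy])
    have hZ : Nat.card (pr m F).ker = Nat.gcd 2 (Fintype.card F - 1) := by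
      rw [QuotientGroup.ker_mk', Cfsg.Agent.S0246.result (F := F) rfl m (by omega)]
    have hc : ¬ p ∣ Nat.gcd 2 (Fintype.card F - 1) := by
      intro h3
      have := Nat.le_of_dvd (by norm_num) (h3.trans (Nat.gcd_dvd_left _ _))
      omega
    refine classical_false h ρ hρ (pr m F) (QuotientGroup.mk'_surjective _) (by rw [hZ]; exact hc) hpF
      (fun φ x y hx hy hxy => ?_) ?_
    · rw [hρv, hρv]
      exact hinv_psp hm h2 hp (by omega) φ x y hx hy hxy
    · -- the size
      obtain ⟨q, hq⟩ : ∃ q, Fintype.card F = q := ⟨_, rfl⟩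
      rw [hq] at hq1 hc hpF ⊢
      have hq0 : (q : ZMod p) ≠ 0 := fun h3 => hpF ((ZMod.natCast_eq_zero_iff q p).1 h3)
      have hd0 : 0 < orderOf (q : ZMod p) := by
        rw [orderOf_pos_iff, isOfFinOrder_iff_pow_eq_one]
        exact ⟨p - 1, by omega, ZMod.pow_card_sub_one_eq_one hq0⟩
      have he0 : 0 < orderOf ((q : ZMod p) ^ 2) := by
        rw [orderOf_pos_iff, isOfFinOrder_iff_pow_eq_one]
        exact ⟨p - 1, by omega, ZMod.pow_card_sub_one_eq_one (pow_ne_zero 2 hq0)⟩
      have hed : orderOf ((q : ZMod p) ^ 2) ≤ orderOf (q : ZMod p) := by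
        apply orderOf_le_of_pow_eq_one hd0
        rw [← pow_mul, mul_comm, pow_mul, pow_orderOf_eq_one, one_pow]
      obtain ⟨e, he⟩ : ∃ e, orderOf ((q : ZMod p) ^ 2) = e := ⟨_, rfl⟩
      obtain ⟨d, hd⟩ : ∃ d, orderOf (q : ZMod p) = d := ⟨_, rfl⟩
      have he1 : ((q : ZMod p) ^ 2) ^ e = 1 := by rw [← he, pow_orderOf_eq_one]
      rw [he] at he0 hed
      rw [hd] at hd0 hed ⊢
      have h1 : p ^ (m / e) ∣ ∏ i ∈ Finset.range m, (q ^ (2 * (i + 1)) - 1) := by
        refine H634.Num.pow_dvd_prod (d := e) (fun j => q ^ (2 * j) - 1) (fun k _ => ?_) m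
        apply H634.El.dvd_sub_one_of_pow hq1.le
        rw [← mul_assoc, mul_comm 2 e, mul_assoc, mul_comm, mul_assoc, pow_mul, mul_comm k e, pow_mul, he1, one_pow]
      have h3 : p ^ (m / e) ∣ Nat.gcd 2 (q - 1) * Nat.card (PSp m F) := by
        have h4 : Nat.card (symplecticGroup (Fin m) F) = Nat.gcd 2 (q - 1) * Nat.card (PSp m F) := by
          rw [Subgroup.card_eq_card_quotient_mul_card_subgroup (Subgroup.center (symplecticGroup (Fin m) F)),
            Cfsg.Agent.S0246.result hq m (by omega), mul_comm]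
        rw [← h4, Cfsg.Agent.S0245.result hq m]
        exact h1.mul_left _
      have h4 : p ^ (m / e) ∣ Nat.card (PSp m F) :=
        (Nat.Coprime.pow_left _ ((Nat.Prime.coprime_iff_not_dvd hp).2 hc)).dvd_of_dvd_mul_left h3
      have h6 := h.le_of_dvd h4
      have h7 : m < (n + 1) * e := (Nat.div_lt_iff_lt_mul he0).1 (by omega)
      have h8 : (n + 1) * e ≤ (n + 1) * d := Nat.mul_le_mul_left _ hed
      have hn := h.two
      obtain ⟨k, rfl⟩ : ∃ k, n = k + 2 := ⟨n - 2, by omega⟩
      have h9 := two_le_geom h5 k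
      rw [Fintype.card_sum, Fintype.card_fin]
      calc m + m < 2 * ((k + 2 + 1) * d) := by omega
        _ = d * (2 * (k + 2 + 1)) := by ring
        _ ≤ d * ∑ i ∈ Finset.range (k + 2), p ^ i := Nat.mul_le_mul_left _ h9
  · push Not at h2
    obtain rfl : m = 2 := by omega
    exact four_false h2.2 hpF h

end Cfsg.Agent.H267.One
end

-- part: H210/EL/Data
section
prune_inst 0xf53075457ba2020008040592e3003ed7df000192002b8801e9e60b420f89ef638d42af20beb013168beebaa4503cc048111005f9422000000a003600413f07a990af9206b178ae0c5c008f801084400000000000000000000000000000000004200400000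
set_option linter.all false
open scoped Cfsg.Agent.FastGrp

/-!
# S4880, task EL: `Loc 7 3` for `F₄(q)` and `Loc 11 5` for `E₈(q)` (helper210)

`w` of type `A₂ × A₂` (order 3), resp. `A₄ × A₄` (order 5), or its negative; `v` its first factor.
-/

set_option autoImplicit false
set_option linter.unusedSectionVars false
set_option maxRecDepth 100000
set_option maxHeartbeats 8000000

namespace Cfsg.Agent.H210.EL

open Cfsg Cfsg.Lie Cfsg.Lie.ChevalleyDatum
open Cfsg.Agent.ChevalleyStructure.CoxeterGeomTypes Cfsg.Agent.Nodes.RGDChev Cfsg.Agent.H129.WData Cfsg.Agent.H129.TorusChar Cfsg.Agent.H319.One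
  Cfsg.Agent.BpExc.RowsUntw Cfsg.Agent.Tits.Roots Cfsg.Agent.Nodes.Reps Cfsg.Agent.BpExc Cfsg.Agent.Nodes

universe u

local instance : Fact (Nat.Prime 3) := ⟨by norm_num⟩
local instance : Fact (Nat.Prime 5) := ⟨by norm_num⟩
local instance : Fact (Nat.Prime 7) := ⟨by norm_num⟩
local instance : Fact (Nat.Prime 11) := ⟨by norm_num⟩

theorem ord7_4 : orderOf ((4 : ℕ) : ZMod 7) = 3 := by
  exact orderOf_eq_prime (by decide +kernel) (by decide +kernel)

theorem ord7_2 : orderOf ((2 : ℕ) : ZMod 7) = 3 := by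
  exact orderOf_eq_prime (by decide +kernel) (by decide +kernel)

theorem ord11_4 : orderOf ((4 : ℕ) : ZMod 11) = 5 := by
  exact orderOf_eq_prime (by decide +kernel) (by decide +kernel)

theorem ord11_3 : orderOf ((3 : ℕ) : ZMod 11) = 5 := by
  exact orderOf_eq_prime (by decide +kernel) (by decide +kernel)

theorem ord11_9 : orderOf ((9 : ℕ) : ZMod 11) = 5 := by
  exact orderOf_eq_prime (by decide +kernel) (by decide +kernel)

theorem ord11_5 : orderOf ((5 : ℕ) : ZMod 11) = 5 := by
  exact orderOf_eq_prime (by decide +kernel) (by decide +kernel)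

/-- a matrix with small entries from its code -/
private def dcm (l n : ℕ) : Mat l := fun j m => Int.subNatNat (Nat.mod (Nat.shiftRight n (Nat.mul 4 (Nat.add (Nat.mul l j.1) m.1))) 16) 8

/-- a chain from its codes -/
private def chn (l : ℕ) (L : List ℕ) : List (Fin (l + 1) × Mat (l + 1)) :=
  L.map fun n => (⟨n % 16 % (l + 1), Nat.mod_lt _ (Nat.succ_pos l)⟩, dcm (l + 1) (Nat.shiftRight n 4))

namespace F4

/-- the Cartan matrix -/
def Am : Mat 4 := dcm 4 (nat_lit 12072033459240405114)

/-- `v` -/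
def cv : List (Fin 4 × Mat 4) := chn 3 [
    nat_lit 175858980097994819968, nat_lit 175858979960556915089]

/-- `w` -/
def cw : List (Fin 4 × Mat 4) := chn 3 [
    nat_lit 116763027262615882112, nat_lit 116763027125177977233, nat_lit 116763024926188275858, nat_lit 116763007334270666897,
    nat_lit 116763007334270667152, nat_lit 116763007334271715714, nat_lit 116763024926189328769, nat_lit 116763027125195807106,
    nat_lit 116763044717381847427, nat_lit 135209788791091399042, nat_lit 136362692703512205697, nat_lit 136506805692581583232,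
    nat_lit 136515812891835275666, nat_lit 137668716804524509585, nat_lit 137812831992600365202, nat_lit 138965771089124821139]

/-- `-w` -/
def cm : List (Fin 4 × Mat 4) := chn 3 [
    nat_lit 198061404928693798785, nat_lit 198061404928677022083, nat_lit 179614942329944181122, nat_lit 178462020825337338241,
    nat_lit 178317905637278259584, nat_lit 178308898575461423506, nat_lit 177155977071123007889, nat_lit 177011864082070407314]

theorem hA : ∀ i j, Am i j = cartanOf chevF4 4 i j := by decide +kernel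
theorem cv_ok : ChainOK Am cv := by decide +kernel
theorem cw_ok : ChainOK Am cw := by decide +kernel
theorem cm_ok : ChainOK Am cm := by decide +kernel
theorem comm_w : CommOK (hd cv) (hd cw) := by decide +kernel
theorem comm_m : CommOK (hd cv) (hd cm) := by decide +kernel

theorem loc_w2 {F : Type u} [Field F] [Fintype F] (hF : (7 : F) ≠ 0) (hq : (Fintype.card F : ZMod 7) = 2) :
    Loc 7 3 ↥(chevF4.group F) :=
  loc_of_data (p := 7) f4T (by exact_mod_cast hF) invC_F4 hA cw_ok cv_ok comm_w (a := ![6, 5, 1, 0])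
    (b := ![0, 0, 1, 1]) (by rw [hq]; decide +kernel) (by rw [hq]; decide +kernel) (s := 2) (n := 4)
    (by decide +kernel) (by decide +kernel) (by decide +kernel) (ord7_4) (z := sr 0) (by rw [lam_sr]; decide +kernel)
    (by rw [lam_sr]; decide +kernel) (z' := sr 2) (by rw [lam_sr]; decide +kernel)

theorem loc_m5 {F : Type u} [Field F] [Fintype F] (hF : (7 : F) ≠ 0) (hq : (Fintype.card F : ZMod 7) = 5) :
    Loc 7 3 ↥(chevF4.group F) :=
  loc_of_data (p := 7) f4T (by exact_mod_cast hF) invC_F4 hA cm_ok cv_ok comm_m (a := ![6, 5, 1, 0])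
    (b := ![0, 0, 1, 1]) (by rw [hq]; decide +kernel) (by rw [hq]; decide +kernel) (s := 2) (n := 4)
    (by decide +kernel) (by decide +kernel) (by decide +kernel) (ord7_4) (z := sr 0) (by rw [lam_sr]; decide +kernel)
    (by rw [lam_sr]; decide +kernel) (z' := sr 2) (by rw [lam_sr]; decide +kernel)

theorem loc_w4 {F : Type u} [Field F] [Fintype F] (hF : (7 : F) ≠ 0) (hq : (Fintype.card F : ZMod 7) = 4) :
    Loc 7 3 ↥(chevF4.group F) :=
  loc_of_data (p := 7) f4T (by exact_mod_cast hF) invC_F4 hA cw_ok cv_ok comm_w (a := ![1, 4, 1, 0])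
    (b := ![0, 0, 5, 1]) (by rw [hq]; decide +kernel) (by rw [hq]; decide +kernel) (s := 4) (n := 2)
    (by decide +kernel) (by decide +kernel) (by decide +kernel) (ord7_2) (z := sr 0) (by rw [lam_sr]; decide +kernel)
    (by rw [lam_sr]; decide +kernel) (z' := sr 2) (by rw [lam_sr]; decide +kernel)

theorem loc_m3 {F : Type u} [Field F] [Fintype F] (hF : (7 : F) ≠ 0) (hq : (Fintype.card F : ZMod 7) = 3) :
    Loc 7 3 ↥(chevF4.group F) :=
  loc_of_data (p := 7) f4T (by exact_mod_cast hF) invC_F4 hA cm_ok cv_ok comm_m (a := ![1, 4, 1, 0])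
    (b := ![0, 0, 5, 1]) (by rw [hq]; decide +kernel) (by rw [hq]; decide +kernel) (s := 4) (n := 2)
    (by decide +kernel) (by decide +kernel) (by decide +kernel) (ord7_2) (z := sr 0) (by rw [lam_sr]; decide +kernel)
    (by rw [lam_sr]; decide +kernel) (z' := sr 2) (by rw [lam_sr]; decide +kernel)

end F4

namespace E8

/-- the Cartan matrix -/
def Am : Mat 8 := dcm 8 (nat_lit 75777479231168941497200271480712806432749265416028376703375056459510367946634)

/-- `v` -/
def cv : List (Fin 8 × Mat 8) := chn 7 [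
    nat_lit 1103884584064099393038098158665312311377755782101751548997360163668046601820288,
    nat_lit 1103884584064099393038098158665312311372311264231016533581946169949207029913746,
    nat_lit 1103884584064099393038098158665312309978514689322852587311521641652190945249427,
    nat_lit 1103884584064099393038098158665312287677769495984526303101705178201171570493585]

/-- `w` -/
def cw : List (Fin 8 × Mat 8) := chn 7 [
    nat_lit 732835636123801435203855475903621559158413433956375687384954698545854400731264,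
    nat_lit 732835636123801435203855475903621559152968916085640671969540704827014828824722,
    nat_lit 732835636123801435203855475903621557759172341177476725699116176529998744160403,
    nat_lit 732835636123801435203855475903621535458427147839150441489299713078979369404561,
    nat_lit 732835636123801435203855475903621535458427147818868031885648042657231141374100,
    nat_lit 732835636123801435203855475903621178646504054405647503871397736771388313208979,
    nat_lit 732835636123801435203855475903621178646504049213350646545495928136996135405713,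
    nat_lit 732835636123801435203855475903621178646504049213350646550218294618766268991634,
    nat_lit 732835636123801435203855475903621178646504049213350646474660430910444131621008,
    nat_lit 732835636123801435203855475903621178646504049213350646474660430910512851097731,
    nat_lit 732835636123801435203855475903621178646504054405647503800562239544905028966530,
    nat_lit 732835636123801435203855475903621178646504054730166057458988966310468863494276,
    nat_lit 732835636123801435203855475903621535458427148143386585473239272196311692707971,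
    nat_lit 732835636123801435203855475903621557759172341481712869683055735928806044108929,
    nat_lit 732835636123801435203855475903621557846284627413473116324957268948469061027973,
    nat_lit 732835636123801435203879995832269703077247537126383288128017370793878484453508,
    nat_lit 732835636123801435203881528327810212154182718983440193208521740993283366619267,
    nat_lit 732835636123801435203881624108781493971491173041803105893029253431984151627906,
    nat_lit 732835636123801435203881630095092200478869525679577627040497775177120013125760,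
    nat_lit 732835636123801435203881630118476226676163972370836584363958303491546214336646,
    nat_lit 732835636125486431870186226247181247571362962448988426739360692056336456255621,
    nat_lit 732835636125591744161830263505225311377312899328873226372833162686704537602180,
    nat_lit 732835636125598326180058015833853065365184853460615724221541020920910220658819,
    nat_lit 732835636125598737556197250354392322290172038739879056012074097544021074806913,
    nat_lit 732835636125598739163135294613382597745021845149281411887653191825380759603330,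
    nat_lit 732835636125598764874143996770916301302833544553753923782988235862296836475011,
    nat_lit 732835636125599176250283327072426817744383990553053886466063999857922520156292,
    nat_lit 732835636125605758268512611896595437621114136878324100195097591523501442369669,
    nat_lit 732835636125711070560181169083293355648797807310642685805488319289687045343366,
    nat_lit 732835636127396067226878084070460044091736534227745007331897105069755752548487,
    nat_lit 848627725364712262650449069079147951945006518893385571371354689077668882188422,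
    nat_lit 855864730940359528197725340655024257742897166017885785097412002298094745585797,
    nat_lit 856317043788837482294430107628516526855265331463167357940300405719440053274756,
    nat_lit 856345313341867354425474155564359793674788424880247154114596759753081812977795,
    nat_lit 856347080188931721433664408560350020151753806364844067050479117363657421916289,
    nat_lit 856347087090678066617290151736115606973929452406550683345286578244821960919170,
    nat_lit 856347197518619589555302048534675699848524992219821726176136416808293464836224,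
    nat_lit 856347197949978736229712285225963915043544636306757079613325048191525027612803,
    nat_lit 856348964797043103237902634002925401037073278511390623441750093174615466084482,
    nat_lit 856349075224984651886923226972708490962102165091359657020466454029867185375364,
    nat_lit 856377344778014524017968807404092623670483450701967169075088541494882184235139,
    nat_lit 856379111625079302402298294920622084771690824127501132009539150662382691846273,
    nat_lit 856379118526825649192862082355377946961603990646849857538024172805243898726533,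
    nat_lit 856831431375303603289591369257524070295705889644565216357830833362406728042628,
    nat_lit 856859700928340057438863169521995447915023947529858321180656408862222527793283,
    nat_lit 856861467775404835823192752819496168532794581675428912589798066735929469012098,
    nat_lit 856861578203346384472213351775589964965201820568653913657556222570753215273088,
    nat_lit 856861578634705531146623588490262206357515911346848224418205382268342259783830,
    nat_lit 864098584210352796694292178924600179703146295310298917295269092704046588467349,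
    nat_lit 864550897058936063082640983156142221612235221474988903945488122046168075704468,
    nat_lit 864579166611972517231914315916153751496565367804118385834567761859545928407187,
    nat_lit 864580933459037295616243899213654494415081190095718404127624074831355043158161,
    nat_lit 864580940360783642406807686648410356692106642546827376293288263512109133371538,
    nat_lit 864581050788725191055828285604504153124513881764570931095031009820818851530899,
    nat_lit 864582817635789969440157868902004896043029714440764664039890940061412321953940,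
    nat_lit 864611087188826423589431201662017139551206047596335201957471191646475832035477,
    nat_lit 865063400037409689977829045750855471922220793186845532213810424679416149346454,
    nat_lit 872300405616426948858106828442603487058249157306599909841678912244700693432471]

/-- `-w` -/
def cm : List (Fin 8 × Mat 8) := chn 7 [
    nat_lit 1243349353526394966691756001577985401537394304337223272221788068522529678456961,
    nat_lit 1243349353526394966691756001577985401450282018446027844777745143383922362054786,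
    nat_lit 1243349353526394966691756001577985401450282018446027844702187279658008038643843,
    nat_lit 1243349353526394966691756001577985379149536825107701561701296635258667885238401,
    nat_lit 1243349353526394966691756001577985379149536825087419152102367331317590279166338,
    nat_lit 1243349353526394966691756001577985377755740250503773759490369529768545842989443,
    nat_lit 1243349353526394966691756001577985377755740245311476903373393540467307863116165,
    nat_lit 1243349353526394966691731481649337232524777335598566731570333438621898456467844,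
    nat_lit 1243349353526394966691729949153796366635918977251539600603962933716843068164483,
    nat_lit 1243349353526394966691729853372825062517865335047147261035540766461515086268801,
    nat_lit 1243349353526394966691729852998680643361154188007286353463823983853543606552706,
    nat_lit 1243349353526394966691729847012369938247572409628638671345484400617802670119040,
    nat_lit 1243349353526394966691729846988985912055722480808114729437437866022147321338003,
    nat_lit 1243349353526394966691729751208014630238414026749751816752930353864921512974482,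
    nat_lit 1243349353526394966691729745221703925124832248695622688368575361103066548439188,
    nat_lit 1243349353526394966691728212726163416047897066838565783288070995407261292595347,
    nat_lit 1243349353526394966691728116945192134230588623164796585255367100518819839903889,
    nat_lit 1243349353526394966691728116571047715248102047947891351769594776068019181881494,
    nat_lit 1243349353524709970025423520442342694352903057869739509394192387503229208397973,
    nat_lit 1243349353524604657733754963255644776325219387437420614298791910449568935348372,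
    nat_lit 1243349353524598075715525678431476156448489241112150419912571428114457181063315,
    nat_lit 1243349353524597664339386348129965640006938795112850458438421483451985695377553,
    nat_lit 1243349353524597662732448304245119783534575563900070926449685409681448574158994,
    nat_lit 1243349353524597637021439596101275376256978661349633232364862037471371480045712,
    nat_lit 1243349353524597636921005968335088484041050548449045585122638344078855219222659,
    nat_lit 1243349353524597225544866733814549227116063363169782252123179448122590167144578,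
    nat_lit 1243349353524597199833858031657015523558251664089828293886271130851237924800644,
    nat_lit 1243349353524590617815630279328387769570379709958085776694750163286565074864259,
    nat_lit 1243349353524590206439491044807848534946137712824851870579205922428402196318337,
    nat_lit 1243349353524590204832553000923002678560886767543832585227649015195757958432901,
    nat_lit 1243349353524484892540908963664958614754936830663948095079186293852864563939460,
    nat_lit 1243349353524478310522681211336330860767064959608955333787720487603000519985283,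
    nat_lit 1243349353524477899146541976815791626142822972860315142323979864013621997111426,
    nat_lit 1243349353524477873435533274658257925372604422947651969462182877257002901866624,
    nat_lit 1243349353524477873335099646938839085540376167688112206036052253055659899652231,
    nat_lit 1127557264314121624578679301724818192774125813696108786419135241528850380261510,
    nat_lit 1120320258736789362364706115161775198533296439654506251166669142528356078094469,
    nat_lit 1119867945888206095976332791001585011393244603776906402198399832685893875435652,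
    nat_lit 1119839676335169641827059458241573124696991447111306109509498829640547665741955,
    nat_lit 1119837909488104863442729874944072404079220812965735516891431352433686526593153,
    nat_lit 1119837902586358516652166087509316541889307646446386791367668696772595453298818,
    nat_lit 1119837792158416968003145494539533450570482185282772365101396670659977160460416,
    nat_lit 1119837791727057821429168885567664075202246278584641759674924669759317747468419,
    nat_lit 1119836024879993043044839398051134614101038905159107797949399879924971437852802,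
    nat_lit 1119835914452051520106827501252574519832646790762191362430994376104133360388228,
    nat_lit 1119807644899015065957555700988103499025251826290118785622419106490160389851267,
    nat_lit 1119805878051950698949365352211142013031723184085485243002919880840224149375105,
    nat_lit 1119805871150204353765739609035376426209547538043778626712834786440829743958149,
    nat_lit 1119353558301621087377390804803840093291229435718612563721483733734185062926468,
    nat_lit 1119325288748591215246345224372456317394771243521225579681111952155012893280387,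
    nat_lit 1119323521901526848238154971376466090917805862036628665536303775211283086411906,
    nat_lit 1119323411473585325300143080564216703156792099952968197506940066370017035917440,
    nat_lit 1119323411042226178726166471615731353985850639946096549403928593783715104659606,
    nat_lit 1112086405464893916512585603911150027292761002743444493302468891998499267778709,
    nat_lit 1111634092616415962415856317009009612949429927585253058141530208076813244668052,
    nat_lit 1111605823063386090284812269073165989317983823831702451167412490811203127974035,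
    nat_lit 1111604056216321723276622016077175785141763630493134963906518968965575494637713,
    nat_lit 1111604049314575378092996272901410198406700270383188594253613041104073972553874,
    nat_lit 1111603938886633855154984382089160810645686508624046679958233922736693893957779,
    nat_lit 1111602172039569488146794129093170606469466325670072907349144018159850616293524,
    nat_lit 1111573902486539616015750081157327696461866408742963356403526912665926156978325,
    nat_lit 1111121589638061661919069834112483572580461153010592264848708432435058963941526]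

theorem hA : ∀ i j, Am i j = cartanOf chevE8 8 i j := by decide +kernel
theorem cv_ok : ChainOK Am cv :=
  H129.ChainF.ok H129.ChainF.i8 rfl rfl (by decide +kernel)
theorem cw_ok : ChainOK Am cw :=
  H129.ChainF.ok H129.ChainF.i8 rfl rfl (by decide +kernel)
theorem cm_ok : ChainOK Am cm :=
  H129.ChainF.ok H129.ChainF.i8 rfl rfl (by decide +kernel)
theorem comm_w : CommOK (hd cv) (hd cw) := by decide +kernel
theorem comm_m : CommOK (hd cv) (hd cm) := by decide +kernel

theorem loc_w3 {F : Type u} [Field F] [Fintype F] (hF : (11 : F) ≠ 0) (hq : (Fintype.card F : ZMod 11) = 3) :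
    Loc 11 5 ↥(chevE8.group F) :=
  loc_of_data (p := 11) e8T (by exact_mod_cast hF) invC_E8 hA cw_ok cv_ok comm_w (a := ![1, 5, 3, 9, 1, 0, 0, 0])
    (b := ![0, 0, 0, 0, 8, 5, 4, 1]) (by rw [hq]; decide +kernel) (by rw [hq]; decide +kernel) (s := 3) (n := 4)
    (by decide +kernel) (by decide +kernel) (by decide +kernel) (ord11_4) (z := sr 0) (by rw [lam_sr]; decide +kernel)
    (by rw [lam_sr]; decide +kernel) (z' := sr 4) (by rw [lam_sr]; decide +kernel)

theorem loc_m8 {F : Type u} [Field F] [Fintype F] (hF : (11 : F) ≠ 0) (hq : (Fintype.card F : ZMod 11) = 8) :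
    Loc 11 5 ↥(chevE8.group F) :=
  loc_of_data (p := 11) e8T (by exact_mod_cast hF) invC_E8 hA cm_ok cv_ok comm_m (a := ![1, 5, 3, 9, 1, 0, 0, 0])
    (b := ![0, 0, 0, 0, 8, 5, 4, 1]) (by rw [hq]; decide +kernel) (by rw [hq]; decide +kernel) (s := 3) (n := 4)
    (by decide +kernel) (by decide +kernel) (by decide +kernel) (ord11_4) (z := sr 0) (by rw [lam_sr]; decide +kernel)
    (by rw [lam_sr]; decide +kernel) (z' := sr 4) (by rw [lam_sr]; decide +kernel)

theorem loc_w4 {F : Type u} [Field F] [Fintype F] (hF : (11 : F) ≠ 0) (hq : (Fintype.card F : ZMod 11) = 4) :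
    Loc 11 5 ↥(chevE8.group F) :=
  loc_of_data (p := 11) e8T (by exact_mod_cast hF) invC_E8 hA cw_ok cv_ok comm_w (a := ![8, 6, 10, 7, 1, 0, 0, 0])
    (b := ![0, 0, 0, 0, 3, 9, 3, 1]) (by rw [hq]; decide +kernel) (by rw [hq]; decide +kernel) (s := 4) (n := 3)
    (by decide +kernel) (by decide +kernel) (by decide +kernel) (ord11_3) (z := sr 0) (by rw [lam_sr]; decide +kernel)
    (by rw [lam_sr]; decide +kernel) (z' := sr 4) (by rw [lam_sr]; decide +kernel)

theorem loc_m7 {F : Type u} [Field F] [Fintype F] (hF : (11 : F) ≠ 0) (hq : (Fintype.card F : ZMod 11) = 7) :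
    Loc 11 5 ↥(chevE8.group F) :=
  loc_of_data (p := 11) e8T (by exact_mod_cast hF) invC_E8 hA cm_ok cv_ok comm_m (a := ![8, 6, 10, 7, 1, 0, 0, 0])
    (b := ![0, 0, 0, 0, 3, 9, 3, 1]) (by rw [hq]; decide +kernel) (by rw [hq]; decide +kernel) (s := 4) (n := 3)
    (by decide +kernel) (by decide +kernel) (by decide +kernel) (ord11_3) (z := sr 0) (by rw [lam_sr]; decide +kernel)
    (by rw [lam_sr]; decide +kernel) (z' := sr 4) (by rw [lam_sr]; decide +kernel)

theorem loc_w5 {F : Type u} [Field F] [Fintype F] (hF : (11 : F) ≠ 0) (hq : (Fintype.card F : ZMod 11) = 5) :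
    Loc 11 5 ↥(chevE8.group F) :=
  loc_of_data (p := 11) e8T (by exact_mod_cast hF) invC_E8 hA cw_ok cv_ok comm_w (a := ![9, 3, 1, 5, 1, 0, 0, 0])
    (b := ![0, 0, 0, 0, 1, 4, 9, 1]) (by rw [hq]; decide +kernel) (by rw [hq]; decide +kernel) (s := 5) (n := 9)
    (by decide +kernel) (by decide +kernel) (by decide +kernel) (ord11_9) (z := sr 0) (by rw [lam_sr]; decide +kernel)
    (by rw [lam_sr]; decide +kernel) (z' := sr 4) (by rw [lam_sr]; decide +kernel)

theorem loc_m6 {F : Type u} [Field F] [Fintype F] (hF : (11 : F) ≠ 0) (hq : (Fintype.card F : ZMod 11) = 6) :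
    Loc 11 5 ↥(chevE8.group F) :=
  loc_of_data (p := 11) e8T (by exact_mod_cast hF) invC_E8 hA cm_ok cv_ok comm_m (a := ![9, 3, 1, 5, 1, 0, 0, 0])
    (b := ![0, 0, 0, 0, 1, 4, 9, 1]) (by rw [hq]; decide +kernel) (by rw [hq]; decide +kernel) (s := 5) (n := 9)
    (by decide +kernel) (by decide +kernel) (by decide +kernel) (ord11_9) (z := sr 0) (by rw [lam_sr]; decide +kernel)
    (by rw [lam_sr]; decide +kernel) (z' := sr 4) (by rw [lam_sr]; decide +kernel)

theorem loc_w9 {F : Type u} [Field F] [Fintype F] (hF : (11 : F) ≠ 0) (hq : (Fintype.card F : ZMod 11) = 9) :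
    Loc 11 5 ↥(chevE8.group F) :=
  loc_of_data (p := 11) e8T (by exact_mod_cast hF) invC_E8 hA cw_ok cv_ok comm_w (a := ![10, 8, 2, 7, 1, 0, 0, 0])
    (b := ![0, 0, 0, 0, 10, 3, 5, 1]) (by rw [hq]; decide +kernel) (by rw [hq]; decide +kernel) (s := 9) (n := 5)
    (by decide +kernel) (by decide +kernel) (by decide +kernel) (ord11_5) (z := sr 0) (by rw [lam_sr]; decide +kernel)
    (by rw [lam_sr]; decide +kernel) (z' := sr 4) (by rw [lam_sr]; decide +kernel)

theorem loc_m2 {F : Type u} [Field F] [Fintype F] (hF : (11 : F) ≠ 0) (hq : (Fintype.card F : ZMod 11) = 2) :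
    Loc 11 5 ↥(chevE8.group F) :=
  loc_of_data (p := 11) e8T (by exact_mod_cast hF) invC_E8 hA cm_ok cv_ok comm_m (a := ![10, 8, 2, 7, 1, 0, 0, 0])
    (b := ![0, 0, 0, 0, 10, 3, 5, 1]) (by rw [hq]; decide +kernel) (by rw [hq]; decide +kernel) (s := 9) (n := 5)
    (by decide +kernel) (by decide +kernel) (by decide +kernel) (ord11_5) (z := sr 0) (by rw [lam_sr]; decide +kernel)
    (by rw [lam_sr]; decide +kernel) (z' := sr 4) (by rw [lam_sr]; decide +kernel)

end E8

/-- the characteristic is not `p` if `|F|` is a unit modulo `p` -/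
theorem ne_zero_of_card {F : Type u} [Field F] [Fintype F] {p : ℕ} [hpp : Fact p.Prime]
    (h : (Fintype.card F : ZMod p) ≠ 0) : (p : F) ≠ 0 := by
  intro h0
  apply h
  have hc : CharP F p := by
    obtain ⟨q, hq⟩ := CharP.exists F
    have h1 : q ∣ p := (CharP.cast_eq_zero_iff F q p).1 h0
    have hq1 : q.Prime := CharP.char_is_prime F q
    rwa [← (Nat.prime_dvd_prime_iff_eq hq1 hpp.out).1 h1]
  obtain ⟨n, -, h2⟩ := FiniteField.card F p
  rw [h2, Nat.cast_pow, ZMod.natCast_self, zero_pow n.pos.ne']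

theorem cases7' : ∀ x : ZMod 7, x ≠ 0 → x ≠ 1 → x ^ 2 ≠ 1 → x = 2 ∨ x = 3 ∨ x = 4 ∨ x = 5 := by
  decide +kernel

theorem cases11' : ∀ x : ZMod 11, x ≠ 0 → x ≠ 1 → x ^ 2 ≠ 1 →
    x = 2 ∨ x = 3 ∨ x = 4 ∨ x = 5 ∨ x = 6 ∨ x = 7 ∨ x = 8 ∨ x = 9 := by
  decide +kernel

theorem order_facts {p : ℕ} [hpp : Fact p.Prime] {x : ZMod p} {n : ℕ} (h : orderOf x = n) (hn : 3 ≤ n) :
    x ≠ 0 ∧ x ≠ 1 ∧ x ^ 2 ≠ 1 := by
  refine ⟨?_, ?_, ?_⟩
  · rintro rfl
    have h3 := pow_orderOf_eq_one (0 : ZMod p)
    rw [h, zero_pow (by omega)] at h3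
    exact zero_ne_one h3
  · rintro rfl
    rw [orderOf_one] at h
    omega
  · intro h2
    have := Nat.le_of_dvd (by norm_num) (orderOf_dvd_of_pow_eq_one h2)
    omega

/-- **`Loc 7 3 F₄(q)`**, `q` of order 3 or 6 modulo 7 (`7 ∣ q² + q + 1` or `7 ∣ q² - q + 1`). -/
theorem loc_f4 {F : Type u} [Field F] [Fintype F]
    (h : orderOf (Fintype.card F : ZMod 7) = 3 ∨ orderOf (Fintype.card F : ZMod 7) = 6) :
    Loc 7 3 ↥(chevF4.group F) := by
  have : Fact (Nat.Prime 7) := ⟨by norm_num⟩
  have h1 : (Fintype.card F : ZMod 7) ≠ 0 ∧ (Fintype.card F : ZMod 7) ≠ 1 ∧ (Fintype.card F : ZMod 7) ^ 2 ≠ 1 := by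
    rcases h with h | h
    · exact order_facts h (by norm_num)
    · exact order_facts h (by norm_num)
  have hF : (7 : F) ≠ 0 := by exact_mod_cast ne_zero_of_card (p := 7) h1.1
  rcases cases7' _ h1.1 h1.2.1 h1.2.2 with h | h | h | h
  · exact F4.loc_w2 hF h
  · exact F4.loc_m3 hF h
  · exact F4.loc_w4 hF h
  · exact F4.loc_m5 hF h

/-- **`Loc 11 5 E₈(q)`**, `q` of order 5 or 10 modulo 11. -/
theorem loc_e8 {F : Type u} [Field F] [Fintype F]
    (h : orderOf (Fintype.card F : ZMod 11) = 5 ∨ orderOf (Fintype.card F : ZMod 11) = 10) :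
    Loc 11 5 ↥(chevE8.group F) := by
  have : Fact (Nat.Prime 11) := ⟨by norm_num⟩
  have h1 : (Fintype.card F : ZMod 11) ≠ 0 ∧ (Fintype.card F : ZMod 11) ≠ 1 ∧ (Fintype.card F : ZMod 11) ^ 2 ≠ 1 := by
    rcases h with h | h
    · exact order_facts h (by norm_num)
    · exact order_facts h (by norm_num)
  have hF : (11 : F) ≠ 0 := by exact_mod_cast ne_zero_of_card (p := 11) h1.1
  rcases cases11' _ h1.1 h1.2.1 h1.2.2 with h | h | h | h | h | h | h | h
  · exact E8.loc_m2 hF h
  · exact E8.loc_w3 hF h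
  · exact E8.loc_w4 hF h
  · exact E8.loc_w5 hF h
  · exact E8.loc_m6 hF h
  · exact E8.loc_m7 hF h
  · exact E8.loc_m8 hF h
  · exact E8.loc_w9 hF h

end Cfsg.Agent.H210.EL
end

-- part: H478/Loc/B
section
prune_inst 0x400000
set_option linter.all false
open scoped Cfsg.Agent.FastGrp

-- part: H478/Loc/Th
section
/-!
# S4880, `Loc 7 3` for the Thompson group (helper478, task 3413)

`x = (a b s)³`, `c = (a b s)⁷` in the subgroup `³D₄(2):3`; `y = c z c⁻¹ z⁻¹`, `z` a conjugate of `x` commuting with `x`.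
-/

set_option autoImplicit false
set_option maxRecDepth 100000

namespace Cfsg.Agent.H478.Loc

open Cfsg.Agent.H319.One

/-- `Loc` goes up along injective homomorphisms -/
theorem loc_map {p e : ℕ} {S S' : Type*} [Group S] [Group S'] (h : Loc p e S) (f : S →* S')
    (hf : Function.Injective f) : Loc p e S' := by
  obtain ⟨x, y, c, k, hx, hy, hxy, hn, hc, hk, he⟩ := h
  refine ⟨f x, f y, f c, k, by rw [orderOf_injective f hf, hx], by rw [orderOf_injective f hf, hy],
    by rw [← map_mul, hxy, map_mul], ?_, by rw [← map_mul, hc, map_mul],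
    by rw [← map_inv, ← map_mul, ← map_mul, hk, map_pow], he⟩
  rintro ⟨m, hm⟩
  apply hn
  refine ⟨m, hf ?_⟩
  simpa using hm

end Cfsg.Agent.H478.Loc

namespace Cfsg.Agent.H478.Loc.Th

open Cfsg Cfsg.Agent.H319.One
open Cfsg.Agent.Th.Base Cfsg.Agent.Th.Word Cfsg.Agent.Th.RelWords Cfsg.Agent.Th.PermTab
  Cfsg.Agent.Th.KOracle Cfsg.Agent.Th.KPerm Cfsg.Agent.Th.CStruct Cfsg.Agent.Th.NineAct
  Cfsg.Agent.KFacts.Th.Struct
open Cfsg.Agent.Th.IndexUpper (gTh)

universe u

variable {G : Type u} [Group G] {γ : ℕ → G}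

def wx : List ℕ := [1, 2, 6, 1, 2, 6, 1, 2, 6]
def wcc : List ℕ := [1, 2, 6, 1, 2, 6, 1, 2, 6, 1, 2, 6, 1, 2, 6, 1, 2, 6, 1, 2, 6]
def wh : List ℕ := [5, 4, 3, 2, 7, 5, 4, 3, 6, 5, 4, 3, 2, 4, 7, 5, 4, 3, 2, 4, 3, 6, 5]
def wz : List ℕ := iw wh ++ (wx ++ wh)
def wy : List ℕ := wcc ++ (wz ++ (iw wcc ++ iw wz))

theorem chk_x7 : korc (wx ++ (wx ++ (wx ++ (wx ++ (wx ++ (wx ++ wx)))))) = true := by decide +kernel
theorem chk_y7 : korc (wy ++ (wy ++ (wy ++ (wy ++ (wy ++ (wy ++ wy)))))) = true := by decide +kernel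
theorem chk_xy : korc (wx ++ (wy ++ (iw wx ++ iw wy))) = true := by decide +kernel
theorem chk_cx : korc (wcc ++ (wx ++ (iw wcc ++ iw wx))) = true := by decide +kernel
theorem chk_cy : korc (wcc ++ (wy ++ (iw wcc ++ (iw wy ++ iw wy)))) = true := by decide +kernel

/-- `x ≠ 1` and `y ≠ x ^ i` -/
theorem chk_ne : and (allL isK wx) (and (allL isK wy) (and (!korc wx) (and (!korc wy)
    (and (!korc (wy ++ wx)) (and (!korc (wy ++ (wx ++ wx))) (and (!korc (wy ++ (wx ++ (wx ++ wx))))
    (and (!korc (wy ++ (wx ++ (wx ++ (wx ++ wx))))) (and (!korc (wy ++ (wx ++ (wx ++ (wx ++ (wx ++ wx))))))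
    (!korc (wy ++ (wx ++ (wx ++ (wx ++ (wx ++ (wx ++ wx)))))))))))))))  = true := by
  decide +kernel

section

variable (h : Ctx γ)
include h

theorem korc1 {w : List ℕ} (hw : korc w = true) : ev γ w = 1 := korc_sound boundK h.inv h.K hw

theorem ne_one {w : List ℕ} (hw : allL isK w = true) (hk : korc w = false) : ev γ w ≠ 1 := by
  intro h1
  have hw' := (allL_iff _ _).mp hw
  obtain ⟨φ, hφ, hφw⟩ := exists_hom h.inv h.K h.cardK
  have h2 : ev (rho isTab) w = 1 := by
    rw [← hφw w hw']
    have h3 : (⟨ev γ w, ev_mem_sub hw'⟩ : sub γ isK) = 1 := Subtype.ext h1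
    rw [h3, map_one]
  have h5 : ∀ p : Fin 819, tr act w p = p := by
    intro p
    have := ev_rho_inv_apply isTab hw' p
    rw [h2, inv_one, Equiv.Perm.one_apply] at this
    exact this.symm
  have h4 : korc w = true := by
    rw [korc_iff]
    exact ⟨hw', h5 0, h5 1, h5 39, h5 45⟩
  rw [h4] at hk
  exact absurd hk (by decide)

omit [Group G] h in
theorem allL_append {f : ℕ → Bool} {v w : List ℕ} (hv : allL f v = true) (hw : allL f w = true) :
    allL f (v ++ w) = true := by
  rw [allL_iff] at hv hw ⊢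
  intro x hx
  rcases List.mem_append.1 hx with hx | hx
  · exact hv x hx
  · exact hw x hx

theorem comm_of {v w : List ℕ} (hc : korc (v ++ (w ++ (iw v ++ iw w))) = true) : ev γ v * ev γ w = ev γ w * ev γ v := by
  have h1 := korc1 h hc
  rw [ev_append, ev_append, ev_append, ev_iw h.inv, ev_iw h.inv] at h1
  calc ev γ v * ev γ w = (ev γ v * (ev γ w * ((ev γ v)⁻¹ * (ev γ w)⁻¹))) * (ev γ w * ev γ v) := by group
    _ = ev γ w * ev γ v := by rw [h1, one_mul]

theorem loc : Loc 7 3 G := by
  have hne := chk_ne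
  simp only [Bool.and_eq_true, Bool.not_eq_true'] at hne
  obtain ⟨hLx, hLy, n0, m0, m1, m2, m3, m4, m5, m6⟩ := hne
  have hx7 : ev γ wx ^ 7 = 1 := by
    have h1 := korc1 h chk_x7
    simp only [ev_append] at h1
    rw [← h1]
    simp only [pow_succ, pow_zero, one_mul, mul_assoc]
  have hy7 : ev γ wy ^ 7 = 1 := by
    have h1 := korc1 h chk_y7
    simp only [ev_append] at h1
    rw [← h1]
    simp only [pow_succ, pow_zero, one_mul, mul_assoc]
  have f7 : Fact (Nat.Prime 7) := ⟨by norm_num⟩
  have hxo : orderOf (ev γ wx) = 7 := orderOf_eq_prime hx7 (ne_one h hLx n0)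
  have hyo : orderOf (ev γ wy) = 7 := orderOf_eq_prime hy7 (ne_one h hLy m0)
  refine ⟨ev γ wx, ev γ wy, ev γ wcc, 2, hxo, hyo, comm_of h chk_xy, ?_, comm_of h chk_cx, ?_, ?_⟩
  · rintro ⟨m, hm⟩
    replace hm : ev γ wx ^ m = ev γ wy := hm
    obtain ⟨k, hk7, j, hj⟩ : ∃ k : ℕ, k < 7 ∧ ∃ j : ℤ, m + k = 7 * j := by
      refine ⟨((-m) % 7).toNat, by omega, -((-m) / 7), by omega⟩
    have hk1 : ev γ wy * ev γ wx ^ k = 1 := by
      rw [← hm, ← zpow_natCast, ← zpow_add, hj, zpow_mul, zpow_ofNat, hx7, one_zpow]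
    have e1 : ∀ w : List ℕ, ev γ w = 1 → allL isK w = true → korc w = false → False :=
      fun w h1 h2 h3 => ne_one h h2 h3 h1
    have a2 := allL_append hLx hLx
    have a3 := allL_append hLx a2
    have a4 := allL_append hLx a3
    have a5 := allL_append hLx a4
    have a6 := allL_append hLx a5
    interval_cases k
    · exact e1 wy (by simpa using hk1) hLy m0
    · exact e1 _ (by rw [ev_append, ← hk1, pow_one]) (allL_append hLy hLx) m1
    · exact e1 _ (by simp only [ev_append]; rw [← hk1]; simp only [pow_succ, pow_zero, one_mul, mul_assoc])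
        (allL_append hLy a2) m2
    · exact e1 _ (by simp only [ev_append]; rw [← hk1]; simp only [pow_succ, pow_zero, one_mul, mul_assoc])
        (allL_append hLy a3) m3
    · exact e1 _ (by simp only [ev_append]; rw [← hk1]; simp only [pow_succ, pow_zero, one_mul, mul_assoc])
        (allL_append hLy a4) m4
    · exact e1 _ (by simp only [ev_append]; rw [← hk1]; simp only [pow_succ, pow_zero, one_mul, mul_assoc])
        (allL_append hLy a5) m5
    · exact e1 _ (by simp only [ev_append]; rw [← hk1]; simp only [pow_succ, pow_zero, one_mul, mul_assoc])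
        (allL_append hLy a6) m6
  · have h1 := korc1 h chk_cy
    rw [ev_append, ev_append, ev_append, ev_append, ev_iw h.inv, ev_iw h.inv] at h1
    rw [pow_two]
    calc ev γ wcc * ev γ wy * (ev γ wcc)⁻¹ = (ev γ wcc * (ev γ wy * ((ev γ wcc)⁻¹ * ((ev γ wy)⁻¹ * (ev γ wy)⁻¹)))) *
          (ev γ wy * ev γ wy) := by group
      _ = ev γ wy * ev γ wy := by rw [h1, one_mul]
  · exact orderOf_eq_prime (p := 3) (by decide) (by decide)

end

/-- **`Loc 7 3` for the presented Thompson group** -/
theorem loc_th : Loc 7 3 Spor.Th := loc Cfsg.Agent.KFacts.Th.Main.ctx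

end Cfsg.Agent.H478.Loc.Th

namespace Cfsg.Agent.H478.Loc

/-- **task 3413, Th** -/
theorem loc_isoTh {S : Type*} [Group S] (h : Cfsg.Spor.IsoTh S) : Cfsg.Agent.H319.One.Loc 7 3 S := by
  obtain ⟨e⟩ := h
  exact Th.loc_th.congr e.symm

end Cfsg.Agent.H478.Loc
end

-- part: H478/Loc/B
section
/-!
# S4880, `Loc 7 3` for the Baby Monster (helper478, task 3413): `Th ≤ B`
-/

set_option autoImplicit false

namespace Cfsg.Agent.H478.Loc

open Cfsg Cfsg.Spor Cfsg.Agent.BabyM Cfsg.Agent.MonsterX.WordSub Cfsg.Agent.MonsterX.WordRels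

/-- an isomorphic copy of the presented group `Th` -/
theorem th_sub {G : Type} [Group G] (hs : IsTh Cfsg.Spor.Th) (f : Cfsg.Spor.Th.Gen → G) (h : ∀ w ∈ thWs, ev f w = 1)
    (hne : ∃ x, f x ≠ 1) : ∃ K : Subgroup G, Nonempty (Cfsg.Spor.Th ≃* K) := by
  obtain ⟨K, he, -⟩ := exists_subgroup Cfsg.Spor.Th.edges Cfsg.Spor.Th.extra hs.1 f (by
    rintro r (hr | hr)
    · exact cox_lift _ f (fun x hx => absurd hx (by simp [coxNodes, Cfsg.Spor.Th.edges])) r hr
    · exact lift_extra th_extra f h r hr) hne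
  exact ⟨K, he⟩

/-- **task 3413, B** -/
theorem loc_isoB {S : Type*} [Group S] (h : Cfsg.Spor.IsoB S) : Cfsg.Agent.H319.One.Loc 7 3 S := by
  obtain ⟨e⟩ := Cfsg.Agent.KFacts.Baby.RowB.exists_iso h
  obtain ⟨K, ⟨f⟩⟩ := th_sub Cfsg.Agent.S1700.result WordsTh0.S.gen (WordsTh.rel Instance.all Instance.ok)
    ⟨.a, WordsTh.gen_a⟩
  exact (loc_map Th.loc_th (K.subtype.comp f.toMonoidHom) (K.subtype_injective.comp f.injective)).congr e

end Cfsg.Agent.H478.Loc
end
end

-- part: H319/One/PslB
section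
prune_inst 0x400000
set_option linter.all false
open scoped Cfsg.Agent.FastGrp

-- part: H319/One/PslA
section
/-!
# S4880: the principal block of `PSL₂(q)` in its own characteristic (helper319)
-/

set_option autoImplicit false
set_option linter.unusedSectionVars false

namespace Cfsg.Agent.H319.One.PslA

open Cfsg Cfsg.Agent.ClassicalGeometry.PSL2Basic Matrix

universe u

section

variable {F : Type*} [Field F]

/-- the upper unitriangular matrices -/
def uu (b : F) : _root_.Matrix.SpecialLinearGroup (Fin 2) F := ⟨!![1, b; 0, 1], by simp [Matrix.det_fin_two]⟩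

theorem uu_coe (b : F) : (uu b : Matrix (Fin 2) (Fin 2) F) = !![1, b; 0, 1] := rfl

theorem uu_mul (a b : F) : uu a * uu b = uu (a + b) := by
  apply Subtype.ext
  show !![1, a; 0, 1] * !![1, b; 0, 1] = !![1, a + b; 0, 1]
  rw [Matrix.mul_fin_two]
  ext i j
  (revert i j; simp [add_comm, _root_.Fin.forall_fin_succ])

theorem uu_zero : uu (0 : F) = 1 := by
  apply Subtype.ext
  show !![1, (0 : F); 0, 1] = 1
  rw [Matrix.one_fin_two]

theorem uu_pow (b : F) (m : ℕ) : uu b ^ m = uu (m * b) := by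
  induction m with
  | zero => rw [pow_zero, Nat.cast_zero, zero_mul, uu_zero]
  | succ m ih => rw [pow_succ, ih, uu_mul]; congr 1; push_cast; ring

/-- the hom from the additive group -/
def uh (F : Type*) [Field F] : Multiplicative F →* _root_.Matrix.SpecialLinearGroup (Fin 2) F where
  toFun b := uu b.toAdd
  map_one' := uu_zero
  map_mul' _ _ := (uu_mul _ _).symm

theorem uu_center {b : F} (h : uu b ∈ Subgroup.center (_root_.Matrix.SpecialLinearGroup (Fin 2) F)) : b = 0 := by
  rcases mem_center_SL2_iff.1 h with h | h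
  · have h1 := congrFun (congrFun (congrArg (fun g : _root_.Matrix.SpecialLinearGroup (Fin 2) F => (g : Matrix (Fin 2) (Fin 2) F)) h) 0) 1
    simpa only [uu, _root_.Fin.isValue, _root_.Matrix.of_apply, _root_.Matrix.cons_val', _root_.Matrix.cons_val_one, _root_.Matrix.cons_val_fin_one, _root_.Matrix.cons_val_zero, _root_.Matrix.SpecialLinearGroup.coe_one, _root_.ne_eq, _root_.zero_ne_one, _root_.not_false_eq_true, _root_.Matrix.one_apply_ne] using h1
  · have h1 := congrFun (congrFun (congrArg (fun g : _root_.Matrix.SpecialLinearGroup (Fin 2) F => (g : Matrix (Fin 2) (Fin 2) F)) h) 0) 1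
    simpa [uu] using h1

/-- Elements commuting with `uu 1` up to the centre. -/
theorem comm_uu (h2 : (2 : F) ≠ 0) {g : _root_.Matrix.SpecialLinearGroup (Fin 2) F}
    (h : g * uu 1 * g⁻¹ * (uu 1)⁻¹ ∈ Subgroup.center (_root_.Matrix.SpecialLinearGroup (Fin 2) F)) :
    ∃ b : F, g = uu b ∨ g = -uu b := by
  have key : g * uu 1 = uu 1 * g ∨ g * uu 1 = -(uu 1 * g) := by
    rcases mem_center_SL2_iff.1 h with h | h
    · left
      have := congrArg (fun z => z * uu 1 * g) h
      simpa only [mul_assoc, _root_.inv_mul_cancel, _root_.mul_one, _root_.one_mul] using this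
    · right
      have := congrArg (fun z => z * uu 1 * g) h
      simpa only [mul_assoc, _root_.inv_mul_cancel, _root_.mul_one, _root_.neg_mul, _root_.one_mul] using this
  have hent : ∀ (i j : Fin 2) {A B : _root_.Matrix.SpecialLinearGroup (Fin 2) F}, A = B →
      (A : Matrix (Fin 2) (Fin 2) F) i j = (B : Matrix (Fin 2) (Fin 2) F) i j := by
    intro i j A B h; rw [h]
  have hdet : g 0 0 * g 1 1 - g 0 1 * g 1 0 = 1 := by
    have := g.det_coe
    rwa [Matrix.det_fin_two] at this
  rcases key with h | h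
  · have h00 := hent 0 0 h
    have h01 := hent 0 1 h
    simp only [SpecialLinearGroup.coe_mul, SpecialLinearGroup.coe_neg, uu_coe, Matrix.mul_apply, Fin.sum_univ_two, _root_.Fin.isValue, _root_.Matrix.SpecialLinearGroup.coe_mul, _root_.Matrix.of_apply, _root_.Matrix.cons_val', _root_.Matrix.cons_val_zero, _root_.Matrix.cons_val_fin_one, _root_.mul_one, _root_.Matrix.cons_val_one, _root_.MulZeroClass.mul_zero, _root_.add_zero, _root_.one_mul, _root_.left_eq_add] at h00 h01
    have hc : g 1 0 = 0 := by simpa using h00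
    have had : g 0 0 = g 1 1 := by
      linear_combination h01
    rw [hc, had, mul_zero, sub_zero] at hdet
    have ha : g 1 1 = 1 ∨ g 1 1 = -1 := by
      have : (g 1 1 - 1) * (g 1 1 + 1) = 0 := by linear_combination hdet
      rcases mul_eq_zero.1 this with h | h
      · left; linear_combination h
      · right; linear_combination h
    rcases ha with ha | ha
    · refine ⟨g 0 1, Or.inl ?_⟩
      apply Subtype.ext
      ext i j
      (revert i j; simp only [SpecialLinearGroup.coe_neg, uu_coe, hc, had, ha, _root_.Fin.forall_fin_succ, Fin.isValue, _root_.Matrix.of_apply, _root_.Matrix.cons_val', _root_.Matrix.cons_val_fin_one, _root_.Matrix.cons_val_zero, _root_.Matrix.cons_val_succ, _root_.Fin.succ_zero_eq_one, _root_.IsEmpty.forall_iff, _root_.and_true, _root_.and_self])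
    · refine ⟨-g 0 1, Or.inr ?_⟩
      apply Subtype.ext
      ext i j
      (revert i j; simp only [SpecialLinearGroup.coe_neg, uu_coe, hc, had, ha, _root_.Fin.forall_fin_succ, Fin.isValue, _root_.Matrix.neg_apply, _root_.Matrix.of_apply, _root_.Matrix.cons_val', _root_.Matrix.cons_val_fin_one, _root_.Matrix.cons_val_zero, _root_.Matrix.cons_val_succ, _root_.Fin.succ_zero_eq_one, _root_.IsEmpty.forall_iff, _root_.and_true, _root_.neg_neg, _root_.and_self, _root_.neg_zero])
  · exfalso
    have h00 := hent 0 0 h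
    have h01 := hent 0 1 h
    have h10 := hent 1 0 h
    have h11 := hent 1 1 h
    simp only [SpecialLinearGroup.coe_mul, SpecialLinearGroup.coe_neg, uu_coe, Matrix.mul_apply, Matrix.vecMul, dotProduct, Fin.sum_univ_two, _root_.Fin.isValue, _root_.Matrix.SpecialLinearGroup.coe_mul, _root_.Matrix.of_apply, _root_.Matrix.cons_val', _root_.Matrix.cons_val_zero, _root_.Matrix.cons_val_fin_one, _root_.mul_one, _root_.Matrix.cons_val_one, _root_.MulZeroClass.mul_zero, _root_.add_zero, _root_.Matrix.cons_mul, _root_.Nat.succ_eq_add_one, _root_.Nat.reduceAdd, _root_.Matrix.empty_mul, _root_.Equiv.symm_apply_apply, _root_.Matrix.neg_apply, _root_.one_mul, _root_.MulZeroClass.zero_mul, _root_.zero_add, _root_.neg_add_rev] at h00 h01 h10 h11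
    have hc : g 1 0 = 0 := by
      have : (2 : F) * g 1 0 = 0 := by linear_combination h10
      exact (mul_eq_zero.1 this).resolve_left h2
    rw [hc] at h00
    have ha : g 0 0 = 0 := by
      have : (2 : F) * g 0 0 = 0 := by linear_combination h00
      exact (mul_eq_zero.1 this).resolve_left h2
    rw [hc, ha] at hdet
    simp at hdet

end

end Cfsg.Agent.H319.One.PslA
end

-- part: H319/One/PslB
section
/-!
# S4880: the principal block of `PSL₂(q)` in its own characteristic (helper319)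
-/

set_option autoImplicit false
set_option linter.unusedSectionVars false

namespace Cfsg.Agent.H319.One.PslB

open Cfsg Cfsg.Agent.ClassicalGeometry.PSL2Basic Matrix Cfsg.Agent.H319.One.PslA
open Cfsg.Agent.Characters

universe u

section

variable {F : Type} [Field F] [Fintype F] {X : Type u} [Group X] [Finite X] {p n : ℕ}

/-- the projection -/
noncomputable def pr (e : X ≃* ProjectiveSpecialLinearGroup (Fin 2) F) : _root_.Matrix.SpecialLinearGroup (Fin 2) F →* X :=
  e.symm.toMonoidHom.comp (QuotientGroup.mk' (Subgroup.center (_root_.Matrix.SpecialLinearGroup (Fin 2) F)))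

variable (e : X ≃* ProjectiveSpecialLinearGroup (Fin 2) F)

theorem pr_surj : Function.Surjective (pr e) :=
  e.symm.surjective.comp (QuotientGroup.mk'_surjective _)

theorem pr_eq_one {s : _root_.Matrix.SpecialLinearGroup (Fin 2) F} :
    pr e s = 1 ↔ s ∈ Subgroup.center (_root_.Matrix.SpecialLinearGroup (Fin 2) F) := by
  show e.symm (QuotientGroup.mk' _ s) = 1 ↔ _
  rw [map_eq_one_iff e.symm e.symm.injective, ← MonoidHom.mem_ker, QuotientGroup.ker_mk']

theorem cast_p (hF : Fintype.card F = p ^ n) : (p : F) = 0 := by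
  have h : ((Fintype.card F : ℕ) : F) = 0 := FiniteField.cast_card_eq_zero F
  rw [hF, Nat.cast_pow] at h
  exact eq_zero_of_pow_eq_zero h

theorem pr_neg (s : _root_.Matrix.SpecialLinearGroup (Fin 2) F) : pr e (-s) = pr e s := by
  have h : pr e (-1) = 1 := (pr_eq_one e).2 (mem_center_SL2_iff.2 (Or.inr rfl))
  rw [← neg_one_mul s, map_mul, h, one_mul]

/-- elements commuting with the transvection have order dividing `p` -/
theorem pow_of_commute (hF : Fintype.card F = p ^ n) (hodd : Odd (Fintype.card F)) {g : X}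
    (h : Commute g (pr e (uu 1))) : g ^ p = 1 := by
  obtain ⟨s, rfl⟩ := pr_surj e g
  have h1 : pr e (s * uu 1 * s⁻¹ * (uu 1)⁻¹) = 1 := by
    rw [map_mul, map_mul, map_mul, map_inv, map_inv, h.eq]
    group
  obtain ⟨b, rfl | rfl⟩ := comm_uu ((two_ne_zero_iff_odd F).2 hodd) ((pr_eq_one e).1 h1)
  · rw [← map_pow, uu_pow, cast_p hF, zero_mul, uu_zero, map_one]
  · rw [pr_neg, ← map_pow, uu_pow, cast_p hF, zero_mul, uu_zero, map_one]

theorem orderOf_x0 [Fact p.Prime] (hF : Fintype.card F = p ^ n) : orderOf (pr e (uu 1)) = p := by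
  refine orderOf_eq_prime ?_ ?_
  · rw [← map_pow, uu_pow, cast_p hF, zero_mul, uu_zero, map_one]
  · intro h
    exact one_ne_zero (uu_center ((pr_eq_one e).1 h))

/-- `q` divides the order of the centralizer of the transvection -/
theorem dvd_card : Fintype.card F ∣ Nat.card (Subgroup.centralizer ({pr e (uu 1)} : Set X)) := by
  let φ : Multiplicative F →* Subgroup.centralizer ({pr e (uu 1)} : Set X) :=
    ((pr e).comp (uh F)).codRestrict _ (fun b => by
      rw [Subgroup.mem_centralizer_singleton_iff]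
      show pr e (uu b.toAdd) * pr e (uu 1) = pr e (uu 1) * pr e (uu b.toAdd)
      rw [← map_mul, ← map_mul, uu_mul, uu_mul, add_comm])
  have hφ : Function.Injective φ := by
    rw [injective_iff_map_eq_one]
    intro b hb
    have h1 : pr e (uu b.toAdd) = 1 := congrArg Subtype.val hb
    exact Multiplicative.toAdd.injective (uu_center ((pr_eq_one e).1 h1))
  have h := Subgroup.card_dvd_of_injective φ hφ
  rwa [Nat.card_eq_fintype_card, Fintype.card_multiplicative] at h

theorem index_not [Fact p.Prime] (hn : 0 < n) (hF : Fintype.card F = p ^ n) (hodd : Odd (Fintype.card F)) :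
    ¬ p ∣ (Subgroup.centralizer ({pr e (uu 1)} : Set X)).index := by
  intro h
  have hp : p.Prime := Fact.out
  have h1 : Nat.card X * 2 = Fintype.card F * (Fintype.card F ^ 2 - 1) := by
    rw [Nat.card_congr e.toEquiv]
    exact card_PSL2_odd F hodd
  have h2 := (Subgroup.centralizer ({pr e (uu 1)} : Set X)).card_mul_index
  obtain ⟨a, ha⟩ := dvd_card e
  obtain ⟨b, hb⟩ := h
  have hq : 0 < Fintype.card F := Fintype.card_pos
  have h3 : Fintype.card F * (p * (a * b * 2)) = Fintype.card F * (Fintype.card F ^ 2 - 1) := by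
    rw [← h1, ← h2, ha, hb]
    ring
  have h4 := Nat.eq_of_mul_eq_mul_left hq h3
  have h5 : p ∣ Fintype.card F ^ 2 - 1 := ⟨_, h4.symm⟩
  have h6 : p ∣ Fintype.card F ^ 2 := by
    rw [hF, ← pow_mul]
    exact dvd_pow_self p (by positivity)
  have h7 : 1 ≤ Fintype.card F ^ 2 := Nat.one_le_pow _ _ hq
  have h8 := (Nat.dvd_sub_iff_right h7 h6).1 h5
  exact hp.one_lt.ne' (Nat.dvd_one.1 h8)

include e in
/-- the degrees -/
theorem deg_cases [Fact p.Prime] (hn : 0 < n) (hF : Fintype.card F = p ^ n) (hodd : Odd (Fintype.card F))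
    (θ : IrrCharacter X) : charDegree (θ : X → ℂ) = Fintype.card F ∨ ¬ p ∣ charDegree (θ : X → ℂ) := by
  have hp : p.Prime := Fact.out
  have hp1 := hp.two_le
  have hpq : p ∣ Fintype.card F := by rw [hF]; exact dvd_pow_self p hn.ne'
  obtain ⟨m, hm⟩ := hodd
  have hm0 : 0 < m := by
    rcases Nat.eq_zero_or_pos m with h | h
    · rw [h] at hm
      rw [hm] at hpq
      have := Nat.le_of_dvd (by norm_num) hpq
      omega
    · exact h
  have h1 := (S2299.result (F := F) ⟨m, hm⟩).1 ((θ : X → ℂ) ∘ pr e)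
    (Core.isIrr_comp (pr e) (pr_surj e) θ.2)
  have h2 : ((θ : X → ℂ) ∘ pr e) 1 = (charDegree (θ : X → ℂ) : ℂ) := by
    rw [Function.comp_apply, map_one]
    exact (Cfsg.Agent.H686.CharKit.charDegree_irr θ).symm
  rw [h2] at h1
  rcases h1 with h | h | h | h | h | h
  · right
    have h' : charDegree (θ : X → ℂ) = 1 := by exact_mod_cast h
    rw [h']
    intro hd
    exact hp.one_lt.ne' (Nat.dvd_one.1 hd)
  · left; exact_mod_cast h
  · right
    have h' : charDegree (θ : X → ℂ) = Fintype.card F + 1 := by exact_mod_cast h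
    rw [h']
    intro hd
    exact hp.one_lt.ne' (Nat.dvd_one.1 ((Nat.dvd_add_right hpq).1 hd))
  · right
    have h' : charDegree (θ : X → ℂ) + 1 = Fintype.card F := by
      have : ((charDegree (θ : X → ℂ) : ℂ)) + 1 = (Fintype.card F : ℂ) := by rw [h]; ring
      exact_mod_cast this
    intro hd
    exact hp.one_lt.ne' (Nat.dvd_one.1 ((Nat.dvd_add_right hd).1 (h' ▸ hpq)))
  · right
    have h' : charDegree (θ : X → ℂ) = m + 1 := by
      have : charDegree (θ : X → ℂ) = (Fintype.card F + 1) / 2 := by exact_mod_cast h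
      omega
    intro hd
    have h3 : p ∣ 2 * charDegree (θ : X → ℂ) := hd.mul_left 2
    have h4 : 2 * charDegree (θ : X → ℂ) = Fintype.card F + 1 := by omega
    rw [h4] at h3
    exact hp.one_lt.ne' (Nat.dvd_one.1 ((Nat.dvd_add_right hpq).1 h3))
  · right
    have h' : charDegree (θ : X → ℂ) = m := by
      have : charDegree (θ : X → ℂ) = (Fintype.card F - 1) / 2 := by exact_mod_cast h
      omega
    intro hd
    have h3 : p ∣ 2 * charDegree (θ : X → ℂ) := hd.mul_left 2
    have h4 : 2 * charDegree (θ : X → ℂ) + 1 = Fintype.card F := by omega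
    exact hp.one_lt.ne' (Nat.dvd_one.1 ((Nat.dvd_add_right h3).1 (h4 ▸ hpq)))

include e in
/-- at most one irreducible character of degree `q` -/
theorem card_deg_q (hodd : Odd (Fintype.card F)) (h5 : 5 ≤ Fintype.card F) :
    Nat.card {θ : IrrCharacter X // charDegree (θ : X → ℂ) = Fintype.card F} ≤ 1 := by
  classical
  have h1 := ((S2299.result (F := F) hodd).2 h5).2.1
  rw [← h1]
  have := Core.finite_irr (G := _root_.Matrix.SpecialLinearGroup (Fin 2) F)
  refine Nat.card_le_card_of_injective (fun θ => ⟨⟨((θ.1 : IrrCharacter X) : X → ℂ) ∘ pr e,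
    Core.isIrr_comp (pr e) (pr_surj e) θ.1.2⟩, ?_⟩) ?_
  · show ((θ.1 : IrrCharacter X) : X → ℂ) (pr e 1) = _
    rw [map_one, ← Cfsg.Agent.H686.CharKit.charDegree_irr, θ.2]
  · intro a b hab
    have h2 : ((a.1 : IrrCharacter X) : X → ℂ) ∘ pr e = ((b.1 : IrrCharacter X) : X → ℂ) ∘ pr e :=
      congrArg (fun z => ((z.1 : IrrCharacter (_root_.Matrix.SpecialLinearGroup (Fin 2) F)) :
        _root_.Matrix.SpecialLinearGroup (Fin 2) F → ℂ)) hab
    exact Subtype.ext (Subtype.ext ((pr_surj e).injective_comp_right h2))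

include e in
/-- characters of `p'`-degree lie in the principal block -/
theorem mem_principal {M : Ideal AlgInt} [Fact p.Prime] (hM : IsPModular p M) (hF : Fintype.card F = p ^ n)
    (hodd : Odd (Fintype.card F)) (θ : IrrCharacter X) (h : ¬ p ∣ charDegree (θ : X → ℂ)) :
    θ ∈ principalBlock M X := by
  have hp : p.Prime := Fact.out
  have hz : IsPGroup p (Subgroup.zpowers (pr e (uu 1))) := by
    refine IsPGroup.of_card (n := 1) ?_
    rw [Nat.card_zpowers, orderOf_x0 e hF, pow_one]
  obtain ⟨P, hP⟩ := hz.exists_le_sylow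
  refine Cfsg.Agent.H142.GmnBlock.mem_principal hM P θ h fun g hg => ?_
  refine Cfsg.Agent.H142.GmnBlock.mem_of_pElement hM θ ?_
  have h1 : Commute g (pr e (uu 1)) :=
    (Subgroup.mem_centralizer_iff.1 hg _ (hP (Subgroup.mem_zpowers _))).symm
  obtain ⟨k, -, hk⟩ := (Nat.dvd_prime_pow hp).1 (show orderOf g ∣ p ^ 1 by
    rw [pow_one]
    exact orderOf_dvd_of_pow_eq_one (pow_of_commute e hF hodd h1))
  exact ⟨k, hk⟩

include e in
/-- members of the principal block have `p'`-degree -/
theorem deg_of_mem {M : Ideal AlgInt} [Fact p.Prime] (hM : IsPModular p M) (hn : 0 < n) (hF : Fintype.card F = p ^ n)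
    (hodd : Odd (Fintype.card F)) (θ : IrrCharacter X) (h : θ ∈ principalBlock M X) :
    ¬ p ∣ charDegree (θ : X → ℂ) := by
  have hp : p.Prime := Fact.out
  rcases deg_cases e hn hF hodd θ with h1 | h1
  swap
  · exact h1
  exfalso
  have hfac : (Nat.card X).factorization p = n := by
    have h2 : Nat.card X * 2 = Fintype.card F * (Fintype.card F ^ 2 - 1) := by
      rw [Nat.card_congr e.toEquiv]
      exact card_PSL2_odd F hodd
    have hq : 0 < Fintype.card F := Fintype.card_pos
    have hp2 : ¬ p ∣ 2 := by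
      intro h
      have h3 := (Nat.prime_dvd_prime_iff_eq hp Nat.prime_two).1 h
      rw [hF, h3] at hodd
      exact (Nat.not_odd_iff_even.2 (Nat.even_pow.2 ⟨even_two, hn.ne'⟩)) hodd
    have hq2 : ¬ p ∣ Fintype.card F ^ 2 - 1 := by
      intro h5
      have h6 : p ∣ Fintype.card F ^ 2 := by
        rw [hF, ← pow_mul]
        exact dvd_pow_self p (by positivity)
      have h7 : 1 ≤ Fintype.card F ^ 2 := Nat.one_le_pow _ _ hq
      exact hp.one_lt.ne' (Nat.dvd_one.1 ((Nat.dvd_sub_iff_right h7 h6).1 h5))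
    have h3 := congrArg (fun k => k.factorization p) h2
    have hne : Fintype.card F ^ 2 - 1 ≠ 0 := fun h0 => hq2 (h0 ▸ dvd_zero p)
    simp only [Nat.factorization_mul Nat.card_pos.ne' two_ne_zero,
      Nat.factorization_mul hq.ne' hne, Finsupp.add_apply,
      Nat.factorization_eq_zero_of_not_dvd hp2, Nat.factorization_eq_zero_of_not_dvd hq2, add_zero] at h3
    rw [h3, hF, Nat.factorization_pow, Finsupp.smul_apply, hp.factorization_self, smul_eq_mul, mul_one]
  have h0 : (θ : X → ℂ) (pr e (uu 1)) = 0 := by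
    refine Cfsg.Agent.H692.RealOver.defect_zero_vanish θ.2 p hp ?_ ?_
    · rw [hfac, h1, hF]
    · rw [orderOf_x0 e hF]
  have h2 := h (pr e (uu 1))
  rw [centralChar, centralChar, h0] at h2
  simp only [mul_one, div_one, mul_zero, zero_div, sub_zero] at h2
  exact index_not e hn hF hodd ((Cfsg.Agent.Blocks.Local.memLocalIdeal_natCast_iff hM _).1 h2)

theorem card_conj_congr {Y Z : Type*} [Group Y] [Group Z] [Finite Y] (f : Y ≃* Z) :
    Nat.card (ConjClasses Y) = Nat.card (ConjClasses Z) := by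
  have : Finite Z := Finite.of_equiv Y f.toEquiv
  refine le_antisymm ?_ ?_
  · exact Nat.card_le_card_of_surjective (ConjClasses.map f.symm.toMonoidHom)
      (ConjClasses.map_surjective f.symm.surjective)
  · exact Nat.card_le_card_of_surjective (ConjClasses.map f.toMonoidHom)
      (ConjClasses.map_surjective f.surjective)

include e in
/-- **The size of the principal block.** -/
theorem card_principal {M : Ideal AlgInt} [Fact p.Prime] (hM : IsPModular p M) (hn : 0 < n)
    (hF : Fintype.card F = p ^ n) (hodd : Odd (Fintype.card F)) (h5 : 5 ≤ Fintype.card F) :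
    Fintype.card F + 3 ≤ 2 * Nat.card (principalBlock M X) := by
  classical
  have hfin := Core.finite_irr (G := X)
  have := Fintype.ofFinite (IrrCharacter X)
  have h1 : 2 * Nat.card (IrrCharacter X) = Fintype.card F + 5 := by
    rw [S0133.result, ← Cfsg.Agent.H525.PslK.psl2_odd hodd]
    congr 1
    exact card_conj_congr e
  have h2 := card_deg_q e hodd h5
  have h3 : Nat.card (IrrCharacter X) ≤ Nat.card (principalBlock M X) +
      Nat.card {θ : IrrCharacter X // charDegree (θ : X → ℂ) = Fintype.card F} := by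
    have h4 : ∀ θ : IrrCharacter X, θ ∈ principalBlock M X ∨ charDegree (θ : X → ℂ) = Fintype.card F := by
      intro θ
      rcases deg_cases e hn hF hodd θ with h | h
      · exact Or.inr h
      · exact Or.inl (mem_principal e hM hF hodd θ h)
    rw [← Nat.card_sum]
    refine Nat.card_le_card_of_injective (fun θ => if h : θ ∈ principalBlock M X then Sum.inl ⟨θ, h⟩
      else Sum.inr ⟨θ, (h4 θ).resolve_left h⟩) ?_
    intro a b hab
    by_cases ha : a ∈ principalBlock M X <;> by_cases hb : b ∈ principalBlock M X <;>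
      simp only [ha, hb, dite_true, dite_false, reduceCtorEq, Sum.inl.injEq, Sum.inr.injEq,
        Subtype.mk.injEq] at hab
    · exact hab
    · exact hab
  omega

end

end Cfsg.Agent.H319.One.PslB
end

private theorem dce_3cc7c09aa8bb : _root_.True := by
  try have : _root_.True := by simp only [_root_.Cfsg.Agent.H319.One.PslA.uu.eq_1]
  exact _root_.True.intro
end
end
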