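import Cfsg.Agent.H319.One.Base
import Cfsg.Agent.H334.Star.Own
import Cfsg.Agent.ClassicalGeometry.PSL2Basic
import Cfsg.Agent.H319.One.ExcRows_mg_m3
import Cfsg.Agent.H634.ElPSU_m3
import Mathlib.GroupTheory.Perm.Centralizer
import Cfsg.Agent.H156.One.OrthInv
import Cfsg.Agent.OddRank.SzTits
import Cfsg.Agent.S1156
import Cfsg.Agent.OrdDiv.Table
import Cfsg.Agent.H800.Sp.NotAbA
import Cfsg.Agent.H800.Sp.NotAbB
import Cfsg.Agent.H573.Spor.JFour
import Cfsg.Agent.BpSevenCo.Conj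
import Cfsg.Agent.H55.OutGen
import Cfsg.Agent.S2069
import Cfsg.Agent.S2085
import Cfsg.Agent.H746.MEleven.Final
import Cfsg.Agent.H61.SpAltFb
import Mathlib.GroupTheory.Index
import Cfsg.Agent.H697.OneClass
import Cfsg.Prelude.Def_Transfer
import Cfsg.Prelude.Def_LieTwisted
import Cfsg.Agent.FastGrp
import Cfsg.Agent.Prune
set_option linter.all false

section
prune_inst 0x7ffefdfbaff83fffdfff7e7ffffddffe39c4dfffefdff94bffece9dfbfdf23162bc5fbaf0de0d0fe0ed6623410b87853f9ffdeffe36bfc7ffffd5ff41ffbee5ff5f7b50931d49c340f3c2fff0bf07f8e7f3fffffffffffffffffffffffffffbeffffffffffff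

-- part: H333/OwnOne
section
set_option linter.all false
open scoped Cfsg.Agent.FastGrp

/-!
# S4880: the own characteristic (helper333)
-/

set_option autoImplicit false
set_option linter.unusedSectionVars false

namespace Cfsg.Agent.H333.OwnOne

open Cfsg Cfsg.Agent.H319.One Cfsg.Agent.H794.DefRank

variable {p n : ℕ} [Fact p.Prime]

theorem not_notAb {S : Type*} [Group S] (h : Hyp p n S) : ¬ ∃ P : Sylow p S, ¬ IsMulCommutative (P : Subgroup S) := by
  rintro ⟨P, hP⟩
  exact hP ⟨⟨fun a b => Subtype.ext (h.comm P P.isPGroup' a a.2 b b.2)⟩⟩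

theorem noncomm {S : Type*} [Group S] [Finite S] [IsSimpleGroup S] (h : Hyp p n S) : ∃ a b : S, a * b ≠ b * a := by
  by_contra hno
  push Not at hno
  have hp : p.Prime := Fact.out
  let _ : CommGroup S := { (inferInstance : Group S) with mul_comm := hno }
  have h1 : (Nat.card S).Prime := IsSimpleGroup.prime_card
  have h2 : p ^ n ∣ Nat.card S := h.dvd
  have h3 : p ^ 2 ∣ Nat.card S := (pow_dvd_pow p h.two).trans h2
  have h4 : p ∣ Nat.card S := (dvd_pow_self p two_ne_zero).trans h3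
  rw [Nat.prime_dvd_prime_iff_eq hp h1] at h4
  rw [← h4] at h3
  have h5 := Nat.le_of_dvd hp.pos h3
  have h6 := hp.one_lt
  nlinarith

theorem card_psl_two {F : Type*} [Field F] [Fintype F] [CharP F p]
    (h : Hyp p n (Matrix.ProjectiveSpecialLinearGroup (Fin 2) F)) : Fintype.card F = p ^ n := by
  have hp : p.Prime := Fact.out
  obtain ⟨m, hp', hm⟩ := FiniteField.card F p
  have hfin : Finite (Matrix.ProjectiveSpecialLinearGroup (Fin 2) F) := Quotient.finite _
  obtain ⟨P⟩ : Nonempty (Sylow p (Matrix.ProjectiveSpecialLinearGroup (Fin 2) F)) := inferInstance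
  have h1 := h.card P
  rw [Sylow.card_eq_multiplicity] at h1
  have h2 := Nat.pow_right_injective hp.two_le h1
  have hcard := Cfsg.Agent.ClassicalGeometry.PSL2Basic.card_PSL2_gcd F
  rw [hm] at hcard ⊢
  congr 1
  rw [← h2]
  -- `|PSL| * d = q * (q ^ 2 - 1)`
  have hcop : p.Coprime ((p ^ (m : ℕ)) ^ 2 - 1) := by
    rw [Nat.Prime.coprime_iff_not_dvd hp]
    intro h3
    have h4 : p ∣ (p ^ (m : ℕ)) ^ 2 := (dvd_pow_self p m.2.ne').trans (dvd_pow_self _ two_ne_zero)
    have h5 : 0 < (p ^ (m : ℕ)) ^ 2 := pow_pos (pow_pos hp.pos _) 2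
    have h6 := Nat.dvd_sub h4 h3
    rw [show (p ^ (m : ℕ)) ^ 2 - ((p ^ (m : ℕ)) ^ 2 - 1) = 1 by omega] at h6
    exact hp.one_lt.ne' (Nat.dvd_one.1 h6)
  have hne : (p ^ (m : ℕ)) ^ 2 - 1 ≠ 0 := by
    intro h0
    rw [h0] at hcop
    exact hp.one_lt.ne' (Nat.coprime_zero_right _ |>.mp hcop)
  set N := Nat.card (Matrix.ProjectiveSpecialLinearGroup (Fin 2) F) with hN
  have hN0 : N ≠ 0 := Nat.card_pos.ne'
  have hd : Nat.gcd 2 (p ^ (m : ℕ) - 1) ≠ 0 := by
    intro h0
    exact two_ne_zero (Nat.eq_zero_of_gcd_eq_zero_left h0)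
  have hpd : ¬ p ∣ Nat.gcd 2 (p ^ (m : ℕ) - 1) := by
    intro h0
    have h3 := Nat.le_of_dvd (by norm_num) (h0.trans (Nat.gcd_dvd_left _ _))
    have := h.five
    omega
  have e1 := congrArg (fun k => k.factorization p) hcard
  rw [Nat.factorization_mul hN0 hd, Nat.factorization_mul (pow_pos hp.pos _).ne' hne, Finsupp.add_apply,
    Finsupp.add_apply, Nat.factorization_eq_zero_of_not_dvd hpd, add_zero, Nat.Prime.factorization_pow hp,
    Finsupp.single_eq_same, Nat.factorization_eq_zero_of_not_dvd ((Nat.Prime.coprime_iff_not_dvd hp).mp hcop),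
    add_zero] at e1
  exact e1.symm

/-- the characteristic from the order of the field -/
theorem charP_of_dvd {F : Type*} [Field F] [Fintype F] (h : p ∣ Fintype.card F) : CharP F p := by
  obtain ⟨r, hr⟩ := CharP.exists F
  obtain ⟨m, hr', hm⟩ := FiniteField.card F r
  rw [hm] at h
  have h1 : p = r := (Nat.prime_dvd_prime_iff_eq Fact.out hr').mp ((Fact.out : p.Prime).dvd_of_dvd_pow h)
  rw [h1]
  exact hr

/-- **Own characteristic.** -/
theorem own {S : Type*} [Group S] [Finite S] [IsSimpleGroup S] (h : Hyp p n S) (hS : IsLieTypeChar p S) :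
    ∃ (F : Type) (_ : Field F) (_ : Fintype F), Fintype.card F = p ^ n ∧
      Nonempty (S ≃* Matrix.ProjectiveSpecialLinearGroup (Fin 2) F) := by
  have h5 := h.five
  rcases rk2_or (by omega) hS with h1 | ⟨F, i1, i2, i3, -, ⟨e⟩⟩ | ⟨F, i1, i2, i3, q, hF, -, ⟨e⟩⟩ | ⟨h3, -⟩
  · exact (not_notAb h (Cfsg.Agent.H334.Star.notAb_of_rk2 (noncomm h) h1)).elim
  · exact ⟨F, i1, i2, card_psl_two (h.congr e), ⟨e⟩⟩
  · exfalso
    have h2 : Cfsg.Agent.H800.Sp.NotAb p (PSU 3 F q) := Cfsg.Agent.H794.PsuNotAb.notAb hF le_rfl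
    exact not_notAb (h.congr e) ⟨default, h2 _⟩
  · omega

end Cfsg.Agent.H333.OwnOne
end

-- part: H267/One/Psp_mg
section

end

-- part: H319/One/Main
section
prune_inst 0x10004500200000000000000002000021100000000000000000020000000000000000000002000000000000000000002002000000400000000a000000000000000000000000000100000000000000000000000000000000000000000000000000000000000
set_option linter.all false
open scoped Cfsg.Agent.FastGrp

-- part: H600/OneAlt
section
/-!
# S4880, alternating groups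
-/

set_option autoImplicit false

namespace Cfsg.Agent.H600.OneAlt

open Cfsg.Agent.H319.One

variable {p n : ℕ}

theorem card_cent_gen {G : Type*} [Group G] [Finite G] (A : Subgroup G) [A.Normal] (h4 : A.index ≤ 2) (g : A) :
    Nat.card (Subgroup.centralizer {g}) ≤ Nat.card (Subgroup.centralizer {(g : G)}) ∧
      Nat.card (Subgroup.centralizer {(g : G)}) ≤ 2 * Nat.card (Subgroup.centralizer {g}) := by
  set H := Subgroup.centralizer {(g : G)} with hH
  have h1 : Nat.card (Subgroup.centralizer {g}) = Nat.card (A.subgroupOf H) := by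
    refine Nat.card_congr ⟨fun y => ⟨⟨y.1.1, ?_⟩, ?_⟩, fun y => ⟨⟨y.1.1, y.2⟩, ?_⟩, fun y => ?_, fun y => ?_⟩
    · rw [hH, Subgroup.mem_centralizer_singleton_iff]
      exact congrArg Subtype.val (Subgroup.mem_centralizer_singleton_iff.1 y.2)
    · exact y.1.2
    · rw [Subgroup.mem_centralizer_singleton_iff]
      exact Subtype.ext (Subgroup.mem_centralizer_singleton_iff.1 y.1.2)
    · rfl
    · rfl
  have h2 := (A.subgroupOf H).card_mul_index
  have h3 : (A.subgroupOf H).index ∣ A.index := Subgroup.relIndex_dvd_index_of_normal A H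
  have h0 : 0 < A.index := Nat.pos_of_ne_zero Subgroup.index_ne_zero_of_finite
  have h5 : (A.subgroupOf H).index ≤ 2 := (Nat.le_of_dvd h0 h3).trans h4
  have h6 : 0 < (A.subgroupOf H).index := Nat.pos_of_ne_zero Subgroup.index_ne_zero_of_finite
  rw [h1]
  constructor <;> nlinarith only [h2, h6, h5]

theorem card_cent {m : ℕ} (g : alternatingGroup (Fin m)) :
    Nat.card (Subgroup.centralizer {g}) ≤ Nat.card (Subgroup.centralizer {(g : Equiv.Perm (Fin m))}) ∧
      Nat.card (Subgroup.centralizer {(g : Equiv.Perm (Fin m))}) ≤ 2 * Nat.card (Subgroup.centralizer {g}) := by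
  refine card_cent_gen _ ?_ g
  rcases subsingleton_or_nontrivial (Fin m) with h | h
  · have : alternatingGroup (Fin m) = ⊤ := by
      have : Subsingleton (Equiv.Perm (Fin m)) := inferInstance
      exact Subsingleton.elim _ _
    rw [this, Subgroup.index_top]
    norm_num
  · exact le_of_eq alternatingGroup.index_eq_two

theorem card_perm {m k : ℕ} (hk : k ≠ 0) {g : Equiv.Perm (Fin m)} (hg : g.cycleType = Multiset.replicate k p) :
    Nat.card (Subgroup.centralizer {g}) = (m - k * p).factorial * p ^ k * k.factorial := by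
  rw [Equiv.Perm.nat_card_centralizer, hg, Multiset.sum_replicate, Multiset.prod_replicate, Fintype.card_fin,
    smul_eq_mul]
  congr 1
  have h1 : (Multiset.replicate k p).toFinset = {p} := by
    ext a
    rw [Multiset.mem_toFinset, Multiset.mem_replicate, Finset.mem_singleton]
    tauto
  rw [h1, Finset.prod_singleton, Multiset.count_replicate_self]

theorem row_alt [hp : Fact p.Prime] {m : ℕ} (h : Hyp p n ↥(alternatingGroup (Fin m))) : False := by
  have h5 := h.five
  have hp2 : p ≠ 2 := by omega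
  have h2p : 2 * p ≤ m := by
    by_contra hlt
    have hd : p ^ 2 ∣ Nat.card (alternatingGroup (Fin m)) := (pow_dvd_pow p h.two).trans h.dvd
    have hd' : p ^ 2 ∣ m.factorial := by
      have h4 : Nat.card (alternatingGroup (Fin m)) ∣ Nat.card (Equiv.Perm (Fin m)) := Subgroup.card_subgroup_dvd_card _
      rw [Nat.card_perm, Nat.card_eq_fintype_card, Nat.card_eq_fintype_card, Fintype.card_fin] at h4
      rw [Nat.card_eq_fintype_card] at hd
      exact hd.trans h4
    have hlog : Nat.log p m < 2 := by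
      apply Nat.log_lt_of_lt_pow'
      · norm_num
      · rw [pow_two]
        have : 2 * p ≤ p * p := Nat.mul_le_mul_right _ (by omega)
        omega
    rw [Nat.Prime.pow_dvd_factorial_iff hp.out hlog] at hd'
    have h5 : Finset.Ico 1 2 = {1} := rfl
    rw [h5, Finset.sum_singleton, pow_one] at hd'
    have h6 := (Nat.le_div_iff_mul_le hp.out.pos).1 hd'
    omega
  obtain ⟨x, hx, hxc⟩ := Cfsg.Agent.H634.El.exists_cycles (m := m) hp2 1 (by omega)
  obtain ⟨y, hy, hyc⟩ := Cfsg.Agent.H634.El.exists_cycles (m := m) hp2 2 (by omega)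
  have key : ∀ (g : alternatingGroup (Fin m)) (k : ℕ), k ≠ 0 →
      (g : Equiv.Perm (Fin m)).cycleType = Multiset.replicate k p → g ≠ 1 := by
    rintro g k hk hg rfl
    rw [Subgroup.coe_one, Equiv.Perm.cycleType_one] at hg
    have := congrArg Multiset.card hg
    rw [Multiset.card_replicate, Multiset.card_zero] at this
    omega
  have hox : orderOf x = p := orderOf_eq_prime hx (key x 1 one_ne_zero hxc)
  have hoy : orderOf y = p := orderOf_eq_prime hy (key y 2 two_ne_zero hyc)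
  have h1 := h.card_centralizer hox hoy
  have h2 := (card_cent x).2
  have h3 := (card_cent y).1
  rw [card_perm one_ne_zero hxc] at h2
  rw [card_perm two_ne_zero hyc] at h3
  obtain ⟨k, rfl⟩ := Nat.exists_eq_add_of_le h2p
  rw [show 2 * p + k - 1 * p = k + p by omega, pow_one, Nat.factorial_one, mul_one, h1] at h2
  rw [show 2 * p + k - 2 * p = k by omega] at h3
  have h4 : k.factorial * p.factorial ≤ (k + p).factorial :=
    Nat.le_of_dvd (Nat.factorial_pos _) (Nat.factorial_mul_factorial_dvd_factorial_add k p)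
  obtain ⟨q, hq⟩ := Nat.exists_eq_add_of_le h5
  have h6 : p.factorial = p * (q + 4).factorial := by
    rw [hq, show 5 + q = q + 4 + 1 by ring, Nat.factorial_succ]
  have h7 : (4 : ℕ).factorial ≤ (q + 4).factorial := Nat.factorial_le (by omega)
  rw [show (4 : ℕ).factorial = 24 from rfl] at h7
  have hk := Nat.factorial_pos k
  have hp0 := hp.out.pos
  have h8 : k.factorial * (p * 24) * p ≤ 2 * (k.factorial * p ^ 2 * 2) := by
    calc k.factorial * (p * 24) * p ≤ k.factorial * p.factorial * p := by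
          rw [h6]
          gcongr
      _ ≤ (k + p).factorial * p := Nat.mul_le_mul_right _ h4
      _ ≤ _ := h2
      _ ≤ _ := by
        have h9 : Nat.factorial 2 = 2 := rfl
        rw [h9] at h3
        exact Nat.mul_le_mul_left _ h3
  have h10 : 0 < k.factorial * p ^ 2 := by positivity
  linarith only [h8, h10]

end Cfsg.Agent.H600.OneAlt
end

-- part: H156/One/Num
section
/-!
# S4880, orthogonal groups: numbers (helper156)
-/

set_option autoImplicit false

namespace Cfsg.Agent.H156.One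

open Cfsg Subgroup
open Cfsg.Agent.H319.One Cfsg.Agent.H634.El Cfsg.Agent.H634.Num

variable {p n : ℕ} {S : Type*} [Group S]

theorem orderOf_pos_of {p q : ℕ} [hp : Fact p.Prime] (hpq : ¬ p ∣ q) : 0 < orderOf (q : ZMod p) := by
  apply orderOf_pos_iff.2
  rw [isOfFinOrder_iff_pow_eq_one]
  exact ⟨p - 1, by have := hp.out.two_le; omega, ZMod.pow_card_sub_one_eq_one (zmod_ne_zero hpq)⟩

/-- The common part of the types `B`, `C`, `D`. -/
theorem exists_le [hp : Fact p.Prime] [Finite S] (s : Hyp p n S) {q c A m : ℕ} (hq1 : 1 ≤ q) (hpq : ¬ p ∣ q)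
    (hc : ¬ p ∣ c) (h : c * Nat.card S = A * ∏ i ∈ Finset.range m, (q ^ (2 * (i + 1)) - 1)) :
    m < (n + 1) * orderOf (q : ZMod p) := by
  set d := orderOf (q : ZMod p) with hd
  have hdpos : 0 < d := orderOf_pos_of hpq
  have h1 : p ^ (m / d) ∣ ∏ i ∈ Finset.range m, (q ^ (2 * (i + 1)) - 1) := by
    refine pow_dvd_prod (d := d) (fun j => q ^ (2 * j) - 1) (fun k _ => ?_) m
    apply dvd_sub_one_of_pow hq1
    rw [mul_comm, mul_assoc, pow_mul, hd, pow_orderOf_eq_one, one_pow]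
  have h2 : p ^ (m / d) ∣ c * Nat.card S := by
    rw [h]
    exact h1.mul_left _
  have h3 : p ^ (m / d) ∣ Nat.card S := by
    have hc : (p ^ (m / d)).Coprime c := Nat.Coprime.pow_left _ ((Nat.Prime.coprime_iff_not_dvd hp.out).2 hc)
    exact hc.dvd_of_dvd_mul_left h2
  have h4 := s.le_of_dvd h3
  exact (Nat.div_lt_iff_lt_mul hdpos).1 (by omega)

theorem sum_gt (s : Hyp p n S) (hp : p.Prime) : 2 * (n + 1) < ∑ i ∈ Finset.range n, p ^ i := by
  have h5 := s.five
  have h2 := s.two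
  by_cases hn : n = 2
  · subst hn
    have h7 : 7 ≤ p := by
      have h6 : p ≠ 5 := fun e => by have := s.three e; omega
      have h8 : p ≠ 6 := fun e => by rw [e] at hp; exact absurd hp (by norm_num)
      omega
    simp [Finset.sum_range_succ]
    omega
  · obtain ⟨k, rfl⟩ : ∃ k, n = k + 3 := ⟨n - 3, by omega⟩
    clear h2 hn s hp
    induction k with
    | zero =>
      simp only [Finset.sum_range_succ, Finset.sum_range_zero]
      have : 25 ≤ p ^ 2 := by nlinarith
      norm_num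
      omega
    | succ k ih =>
      rw [show k + 1 + 3 = (k + 3) + 1 by ring, Finset.sum_range_succ]
      have h1 : 5 ≤ p ^ (k + 3) := by
        calc 5 ≤ p := h5
          _ = p ^ 1 := (pow_one p).symm
          _ ≤ p ^ (k + 3) := Nat.pow_le_pow_right (by omega) (by omega)
      omega

/-- the numeric hypothesis of `classical_false` -/
theorem lt_of_le [hp : Fact p.Prime] (s : Hyp p n S) {q N : ℕ} (hpq : ¬ p ∣ q)
    (h : N ≤ 2 * ((n + 1) * orderOf (q : ZMod p))) : N < orderOf (q : ZMod p) * ∑ i ∈ Finset.range n, p ^ i := by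
  have h1 := sum_gt s hp.out
  have h2 := orderOf_pos_of hpq
  calc N ≤ 2 * ((n + 1) * orderOf (q : ZMod p)) := h
    _ = orderOf (q : ZMod p) * (2 * (n + 1)) := by ring
    _ < _ := Nat.mul_lt_mul_of_pos_left h1 h2

end Cfsg.Agent.H156.One
end

-- part: H156/One/Orth
section
/-!
# S4880, rows `POmega` (helper156)

`Hyp p n S → False` for the simple orthogonal groups in cross characteristic (type `D_m` : `m ≥ 5`).
-/

set_option autoImplicit false

namespace Cfsg.Agent.H156.One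

open Cfsg Subgroup
open Cfsg.Agent.H319.One Cfsg.Agent.LieClassical.QuadForms Cfsg.Agent.LieClassical.OmegaReindex
  Cfsg.Agent.LieClassical.PomegaCard QuadraticMap

variable {p n : ℕ}

theorem omega_false [hp : Fact p.Prime] {F : Type*} [Field F] [Fintype F] {ι : Type} [Fintype ι]
    [DecidableEq ι] (Q : QuadraticForm F (ι → F)) (hQ : (polarBilin Q).Nondegenerate) (hn : 3 ≤ Fintype.card ι)
    (hs : ∃ u : ι → F, u ≠ 0 ∧ Q u = 0) (hInd : ∀ φ : MulAut (POmega F (⇑Q)), AutOrth.Main.Ind (⇑Q) φ)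
    (hpF : ¬ p ∣ Fintype.card F) (h : Hyp p n (POmega F (⇑Q)))
    (hle : Fintype.card ι ≤ 2 * ((n + 1) * orderOf (Fintype.card F : ZMod p))) : False := by
  classical
  have hp5 := h.five
  let ρ : Omega F (⇑Q) →* Matrix.GeneralLinearGroup ι F := (isometryGroup F (⇑Q)).subtype.comp (Omega F (⇑Q)).subtype
  have hρ : Function.Injective ρ := fun a b hab => Subtype.ext (Subtype.ext hab)
  have hk : ¬ p ∣ Nat.card (QuotientGroup.mk' (center (Omega F (⇑Q)))).ker := by
    rw [QuotientGroup.ker_mk']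
    intro hd
    obtain ⟨z, hz⟩ := exists_prime_orderOf_dvd_card' p hd
    have hz2 : z ^ 2 = 1 := by
      apply Subtype.ext
      apply hρ
      apply Units.ext
      rcases (Cfsg.Agent.LieClassical.OrthCenter.mem_center_omega_iff hQ hn hs z.1).1 z.2 with h | h
      · have h' : ((ρ (z : Omega F (⇑Q)) : Matrix.GeneralLinearGroup ι F) : Matrix ι ι F) = 1 := h
        change ((ρ (z : Omega F (⇑Q)) : Matrix.GeneralLinearGroup ι F) : Matrix ι ι F) ^ 2 = 1
        rw [h', one_pow]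
      · have h' : ((ρ (z : Omega F (⇑Q)) : Matrix.GeneralLinearGroup ι F) : Matrix ι ι F) = -1 := h
        change ((ρ (z : Omega F (⇑Q)) : Matrix.GeneralLinearGroup ι F) : Matrix ι ι F) ^ 2 = 1
        rw [h', neg_one_sq]
    have h1 := orderOf_dvd_of_pow_eq_one hz2
    rw [hz] at h1
    have := Nat.le_of_dvd (by norm_num) h1
    omega
  refine classical_false h ρ hρ (QuotientGroup.mk' _) (QuotientGroup.mk'_surjective _) hk hpF ?_ (lt_of_le h hpF hle)
  intro φ x y hx hy hxy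
  obtain ⟨g, σ, e⟩ := exists_semi hQ hn hs (hInd φ) hp.out (by omega) hx hy hxy
  have e' : ((ρ y : Matrix.GeneralLinearGroup ι F) : Matrix ι ι F) =
      (g : Matrix ι ι F) * ((ρ x : Matrix.GeneralLinearGroup ι F) : Matrix ι ι F).map σ *
        ((g⁻¹ : Matrix.GeneralLinearGroup ι F) : Matrix ι ι F) := e
  rw [e', fx_conj]
  exact (fx_map (σ : F →+* F) _).symm

theorem row_oodd [hp : Fact p.Prime] {F : Type*} [Field F] [Fintype F] {m : ℕ} (hm : 3 ≤ m)
    (ho : Odd (Fintype.card F)) (hpF : ¬ p ∣ Fintype.card F) (h : Hyp p n (POmega F (quadFormOdd m F))) : False := by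
  classical
  set q := Fintype.card F with hq
  have hq1 : 1 < q := Fintype.one_lt_card
  have hp5 := h.five
  have hc : ¬ p ∣ 2 := by
    intro h
    have := Nat.le_of_dvd (by norm_num) h
    omega
  have hcard := S0292.result hq.symm ho m hm
  have h1 := exists_le h hq1.le hpF hc hcard
  have h2 : (2 : F) ≠ 0 := odd_card_iff.1 ho
  have h3 : Fintype.card (Unit ⊕ (Fin m ⊕ Fin m)) = 2 * m + 1 := by
    simp only [_root_.Fintype.card_sum, _root_.Fintype.card_unique, _root_.Fintype.card_fin]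
    ring
  have hInd := AutOrth.Main.all_odd (F := F) hm h2
  rw [← coe_oddForm] at h hInd
  exact omega_false (oddForm m F) (S0292.oddForm_nondegenerate h2 m) (by omega) (S0292.exists_singular (by omega))
    hInd hpF h (by rw [h3, ← hq]; omega)

theorem row_oplus [hp : Fact p.Prime] {F : Type*} [Field F] [Fintype F] {m : ℕ} (hm : 5 ≤ m)
    (hpF : ¬ p ∣ Fintype.card F) (h : Hyp p n (POmega F (quadFormPlus m F))) : False := by
  classical
  set q := Fintype.card F with hq
  have hq1 : 1 < q := Fintype.one_lt_card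
  have hp5 := h.five
  have hcard := S0293.result hq.symm m (by omega)
  have h1 := exists_le h hq1.le hpF (H634.El.gcd_four (by omega)) hcard
  have h3 : Fintype.card (Fin m ⊕ Fin m) = 2 * m := by
    simp only [_root_.Fintype.card_sum, _root_.Fintype.card_fin]
    ring
  have hInd := AutOrth.Main.all_plus (F := F) hm
  rw [← coe_quadPlus] at h hInd
  exact omega_false (quadPlus m F) quadPlus_nondegenerate (by omega) (quadPlus_isotropic (by omega))
    hInd hpF h (by rw [h3, ← hq]; omega)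

theorem row_ominus [hp : Fact p.Prime] {F : Type*} [Field F] [Fintype F] {m : ℕ} (hm : 4 ≤ m) {a b : F}
    (hab : ∀ z₁ z₂ : F, z₁ ^ 2 + a * z₁ * z₂ + b * z₂ ^ 2 = 0 → z₁ = 0 ∧ z₂ = 0)
    (hpF : ¬ p ∣ Fintype.card F) (h : Hyp p n (POmega F (quadFormMinus (m - 1) F a b))) : False := by
  classical
  set q := Fintype.card F with hq
  have hq1 : 1 < q := Fintype.one_lt_card
  have hp5 := h.five
  have hcard := S0294.result hq.symm m hm a b hab
  have h1 := exists_le h hq1.le hpF (H634.El.gcd_four (by omega)) hcard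
  have h3 : Fintype.card ((Fin (m - 1) ⊕ Fin (m - 1)) ⊕ Fin 2) = 2 * m := by
    simp only [Fintype.card_sum, Fintype.card_fin]; omega
  have hInd := AutOrth.Main.all_minus (F := F) (m := m - 1) (by omega) hab
  rw [← coe_quadMinus] at h hInd
  exact omega_false (quadMinus (m - 1) F a b) (quadMinus_nondegenerate hab) (by omega)
    (quadMinus_isotropic (by omega) a b) hInd hpF h (by rw [h3, ← hq]; omega)

end Cfsg.Agent.H156.One
end

-- part: H488/One/SzRee
section
/-!
# S4880, the rows `Sz(q)` and `²G₂(q)` (helper488)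

The Sylow `p`-subgroups are cyclic for `p ≥ 5`.
-/

set_option autoImplicit false

namespace Cfsg.Agent.H488.One.SzRee

open Cfsg Cfsg.Agent.H319.One

universe u

variable {p n : ℕ} [Fact p.Prime] {S : Type u} [Group S] [Finite S]

theorem row_sz (hS : Lie.IsoSuzuki S) (h : Hyp p n S) : False := by
  obtain ⟨P⟩ : Nonempty (Sylow p S) := inferInstance
  have h5 := h.five
  exact h.not_cyclic P (OddRank.SzTits.isCyclic_of_isPGroup hS (by omega) P P.isPGroup')

theorem row_ree (hS : Lie.IsoRee S) (h : Hyp p n S) : False := by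
  obtain ⟨K, _, _, m, hm, hK, ⟨e⟩⟩ := hS
  have h' := h.congr e
  obtain ⟨P⟩ : Nonempty (Sylow p ↥(Cfsg.Lie.twistedG2 K (3 ^ m))) := inferInstance
  have h5 := h.five
  exact h'.not_cyclic P (Cfsg.Agent.S1156.result hm hK (by omega) P)

end Cfsg.Agent.H488.One.SzRee
end

-- part: H447/One/Spor
section
/-!
# S4880: the sporadic groups and the Tits group (helper447)
-/

set_option autoImplicit false
set_option maxRecDepth 10000

namespace Cfsg.Agent.H447.One.Spor

open Subgroup Cfsg Cfsg.Agent.H319.One Cfsg.Agent.OrdDiv Cfsg.Agent.H800.Sp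

universe u

/-! ### The orders -/

/-- the primes up to `71` -/
def prs : List ℕ := [2, 3, 5, 7, 11, 13, 17, 19, 23, 29, 31, 37, 41, 43, 47, 53, 59, 61, 67, 71]

theorem prs_prime : ∀ q ∈ prs, q.Prime := by
  simp only [prs, List.forall_mem_cons]
  norm_num

/-- the pairs (prime, exact exponent) -/
def exc : Grp → List (ℕ × ℕ)
  | .hs => [(5, 3)]
  | .mcl => [(5, 3)]
  | .co3 => [(5, 3)]
  | .co2 => [(5, 3)]
  | .co1 => [(5, 4), (7, 2)]
  | .he => [(7, 3)]
  | .ru => [(5, 3)]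
  | .on => [(7, 3)]
  | .ly => [(5, 6)]
  | .fi24 => [(7, 3)]
  | .hn => [(5, 6)]
  | .th => [(5, 3), (7, 2)]
  | .b => [(5, 6), (7, 2)]
  | .m => [(5, 9), (7, 6), (11, 2), (13, 3)]
  | .j4 => [(11, 3)]
  | _ => []

/-- the check: `N` divides a power of the product of the primes; for a prime `q ≥ 5` either `q ^ 2 ∤ N` (`q ^ 3 ∤ N` if
`q = 5`), or the exact exponent is in the list -/
def ok (N : ℕ) (l : List (ℕ × ℕ)) : Bool :=
  (prs.prod ^ 64 % N == 0) && prs.all fun q =>
    decide (q < 5) || !(N % q ^ (if q = 5 then 3 else 2) == 0) ||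
      l.any fun x => Nat.beq x.1 q && (N % q ^ x.2 == 0) && !(N % q ^ (x.2 + 1) == 0)

theorem ok_spor : ∀ x ∈ spor, ok x.2 (exc x.1) = true := by decide +kernel

theorem mem_exc {N p n : ℕ} {l : List (ℕ × ℕ)} (h : ok N l = true) (hp : p.Prime) (h5 : 5 ≤ p) (h2 : 2 ≤ n)
    (h3 : p = 5 → 3 ≤ n) (hd : p ^ n ∣ N) (hm : ¬ p ^ (n + 1) ∣ N) : (p, n) ∈ l := by
  rw [ok, Bool.and_eq_true, List.all_eq_true, beq_iff_eq] at h
  obtain ⟨h1, h4⟩ := h
  have hpN : p ∣ N := (dvd_pow_self p (by omega)).trans hd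
  have hpp : p ∈ prs := by
    have h6 : p ∣ prs.prod := hp.dvd_of_dvd_pow (hpN.trans (Nat.dvd_of_mod_eq_zero h1))
    obtain ⟨q, hq, hpq⟩ := (hp.prime.dvd_prod_iff).1 h6
    rwa [(Nat.prime_dvd_prime_iff_eq hp (prs_prime q hq)).1 hpq]
  have h6 := h4 p hpp
  rw [Bool.or_eq_true, Bool.or_eq_true, decide_eq_true_eq, Bool.not_eq_true', List.any_eq_true] at h6
  rcases h6 with (h6 | h6) | ⟨x, hx, h6⟩
  · omega
  · exfalso
    rw [beq_eq_false_iff_ne] at h6
    apply h6
    apply Nat.mod_eq_zero_of_dvd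
    refine (pow_dvd_pow p ?_).trans hd
    split_ifs with h7
    · exact h3 h7
    · exact h2
  · rw [Bool.and_eq_true, Bool.and_eq_true, Nat.beq_eq, beq_iff_eq, Bool.not_eq_true', beq_eq_false_iff_ne] at h6
    obtain ⟨⟨h7, h8⟩, h9⟩ := h6
    have h10 : x.2 = n := by
      apply le_antisymm
      · by_contra hlt
        push Not at hlt
        exact hm ((pow_dvd_pow p hlt).trans (Nat.dvd_of_mod_eq_zero h8))
      · by_contra hlt
        push Not at hlt
        exact h9 (Nat.mod_eq_zero_of_dvd ((pow_dvd_pow p hlt).trans hd))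
    have h11 : x = (p, n) := Prod.ext h7 h10
    rwa [← h11]

/-! ### The kills -/

theorem false_of_notAb {p n : ℕ} [Fact p.Prime] {S : Type*} [Group S] (h : Hyp p n S) (hna : NotAb p S) : False := by
  obtain ⟨P⟩ : Nonempty (Sylow p S) := inferInstance
  refine hna P ⟨⟨fun a b => Subtype.ext ?_⟩⟩
  exact h.comm P P.isPGroup' a a.2 b b.2

/-- `Out(S) = 1`: all elements of order `p` are conjugate -/
theorem conj_of_out {p n : ℕ} {S : Type*} [Group S] (h : Hyp p n S) (ho : Nat.card (Out S) = 1) {x y : S}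
    (hx : orderOf x = p) (hy : orderOf y = p) : ∃ g : S, g * x * g⁻¹ = y := by
  obtain ⟨φ, hφ⟩ := h.one x y hx hy
  have h1 : Subsingleton (Out S) := (Nat.card_eq_one_iff_unique.1 ho).1
  have h2 : (QuotientGroup.mk φ : Out S) = QuotientGroup.mk 1 := Subsingleton.elim _ _
  rw [eq_comm, QuotientGroup.eq, inv_one, one_mul] at h2
  obtain ⟨s, hs⟩ := h2
  exact ⟨s, by rw [← hφ, ← hs]; rfl⟩

theorem co1_seven {n : ℕ} (h : Hyp 7 n Cfsg.Spor.Co1) : False := by
  obtain ⟨g, hg⟩ := conj_of_out h S2069.result BpSevenCo.Conj.orderOf_x BpSevenCo.Conj.orderOf_y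
  have h1 := LThreeMB.fr_conj g BpSevenCo.Conj.x
  rw [hg, BpSevenCo.Conj.fr_x, BpSevenCo.Conj.fr_y] at h1
  norm_num at h1

section monster

open Cfsg.Agent.LThreeMB (fr XX KChart.Cent KChart.pi KChart.chart)
open Cfsg.Agent.MonsterX Cfsg.Agent.MonsterX.Model Cfsg.Agent.MonsterX.MainSimple Cfsg.Agent.MonsterX.MainPack
open Cfsg.Agent.MonsterX.MainBasic Cfsg.Agent.MonsterU
open Cfsg.Agent.BpSpor.MBigModel
open Cfsg.Agent.H573 Cfsg.Agent.H573.Spor.Monster

theorem m_thirteen_model (h : ∀ x y : MG, orderOf x = 13 → orderOf y = 13 → ∃ g : MG, g * x * g⁻¹ = y) : False := by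
  have h13 : Fact (Nat.Prime 13) := ⟨by norm_num⟩
  have := Cfsg.Agent.H573.Spor.Monster.finite
  have hdz : 13 ∣ Nat.card ↥(centralizer ({zz} : Set MG)) := by
    rw [card_cent_z]; norm_num
  obtain ⟨x₀, hx₀⟩ := exists_prime_orderOf_dvd_card' (G := ↥(centralizer ({zz} : Set MG))) 13 hdz
  have ht : LThreeB.Row.TA (tG MonsterN.LitFin.all.hG MonsterN.LitFin.all.hR) := IsConj.refl _
  have hdt := _root_.Cfsg.Agent.BpSpor.MBigModel.card_cent_t ht
  have hdt' : 13 ∣ Nat.card ↥(centralizer ({tG MonsterN.LitFin.all.hG MonsterN.LitFin.all.hR} : Set MG)) := by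
    rw [hdt]; norm_num
  obtain ⟨x₁, hx₁⟩ := exists_prime_orderOf_dvd_card'
    (G := ↥(centralizer ({tG MonsterN.LitFin.all.hG MonsterN.LitFin.all.hR} : Set MG))) 13 hdt'
  obtain ⟨g, hg⟩ := h (x₁ : MG) (x₀ : MG) (by rw [Subgroup.orderOf_coe, hx₁]) (by rw [Subgroup.orderOf_coe, hx₀])
  exact not_conj_thirteen hx₀ (by rw [Subgroup.orderOf_coe, hx₁]) ht
    (Cfsg.Agent.MThirteen.Row.ta_order ht) (mem_centralizer_singleton_iff.1 x₁.2) g 1 (by rw [hg, pow_one])

end monster

theorem m_thirteen {n : ℕ} (h : Hyp 13 n Cfsg.Spor.Monster) : False := by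
  obtain ⟨e⟩ := Cfsg.Agent.MonsterP.Equiv.equiv
  apply m_thirteen_model
  intro x y hx hy
  obtain ⟨g, hg⟩ := conj_of_out h S2085.result (x := e.symm x) (y := e.symm y) (by rw [MulEquiv.orderOf_eq, hx])
    (by rw [MulEquiv.orderOf_eq, hy])
  refine ⟨e g, ?_⟩
  have h1 := congrArg e hg
  rwa [map_mul, map_mul, map_inv, e.apply_symm_apply, e.apply_symm_apply] at h1

/-! ### The row -/

open Cfsg.Agent.H800.Sp.NotAbRows in
/-- **Row SPOR.** -/
theorem row_spor {p n : ℕ} [hp : Fact p.Prime] {S : Type u} [Group S] [Finite S] (h : Hyp p n S) {x : Grp × ℕ}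
    (hx : x ∈ spor) (hr : Real x.1 S) :
    (p = 7 ∧ n = 2 ∧ (x.1 = .th ∨ x.1 = .b)) ∨ (p = 11 ∧ n = 2 ∧ x.1 = .m) := by
  have hc := table_spor S x hx hr
  have hm := mem_exc (ok_spor x hx) hp.out h.five h.two h.three (hc ▸ h.dvd) (hc ▸ h.not_dvd)
  obtain ⟨g, N⟩ := x
  dsimp only at hm hr ⊢
  cases g
  case hs =>
    obtain ⟨rfl, rfl⟩ : p = 5 ∧ n = 3 := by simpa [exc] using hm
    exact (false_of_notAb h (hs_5 hr)).elim
  case mcl =>
    obtain ⟨rfl, rfl⟩ : p = 5 ∧ n = 3 := by simpa [exc] using hm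
    exact (false_of_notAb h (mcl_5 hr)).elim
  case co3 =>
    obtain ⟨rfl, rfl⟩ : p = 5 ∧ n = 3 := by simpa [exc] using hm
    exact (false_of_notAb h (co3_5 hr)).elim
  case co2 =>
    obtain ⟨rfl, rfl⟩ : p = 5 ∧ n = 3 := by simpa [exc] using hm
    exact (false_of_notAb h (co2_5 hr)).elim
  case co1 =>
    rcases (by simpa [exc] using hm : (p = 5 ∧ n = 4) ∨ (p = 7 ∧ n = 2)) with ⟨rfl, rfl⟩ | ⟨rfl, rfl⟩
    · exact (false_of_notAb h (co1_5 hr)).elim
    · obtain ⟨e⟩ := hr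
      exact (co1_seven (h.congr e)).elim
  case he =>
    obtain ⟨rfl, rfl⟩ : p = 7 ∧ n = 3 := by simpa [exc] using hm
    exact (false_of_notAb h (he_7 hr)).elim
  case ru =>
    obtain ⟨rfl, rfl⟩ : p = 5 ∧ n = 3 := by simpa [exc] using hm
    exact (false_of_notAb h (ru_5 hr)).elim
  case on =>
    obtain ⟨rfl, rfl⟩ : p = 7 ∧ n = 3 := by simpa [exc] using hm
    exact (false_of_notAb h (on_7 hr)).elim
  case ly =>
    obtain ⟨rfl, rfl⟩ : p = 5 ∧ n = 6 := by simpa [exc] using hm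
    exact (false_of_notAb h (ly_5 hr)).elim
  case fi24 =>
    obtain ⟨rfl, rfl⟩ : p = 7 ∧ n = 3 := by simpa [exc] using hm
    exact (false_of_notAb h (fi24_7 hr)).elim
  case hn =>
    obtain ⟨rfl, rfl⟩ : p = 5 ∧ n = 6 := by simpa [exc] using hm
    exact (false_of_notAb h (hn_5 hr)).elim
  case th =>
    rcases (by simpa [exc] using hm : (p = 5 ∧ n = 3) ∨ (p = 7 ∧ n = 2)) with ⟨rfl, rfl⟩ | ⟨rfl, rfl⟩
    · exact (false_of_notAb h (th_5 hr)).elim
    · exact Or.inl ⟨rfl, rfl, Or.inl rfl⟩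
  case b =>
    rcases (by simpa [exc] using hm : (p = 5 ∧ n = 6) ∨ (p = 7 ∧ n = 2)) with ⟨rfl, rfl⟩ | ⟨rfl, rfl⟩
    · exact (false_of_notAb h (b_5 hr)).elim
    · exact Or.inl ⟨rfl, rfl, Or.inr rfl⟩
  case m =>
    rcases (by simpa [exc] using hm : (p = 5 ∧ n = 9) ∨ (p = 7 ∧ n = 6) ∨ (p = 11 ∧ n = 2) ∨ (p = 13 ∧ n = 3)) with
      ⟨rfl, rfl⟩ | ⟨rfl, rfl⟩ | ⟨rfl, rfl⟩ | ⟨rfl, rfl⟩
    · exact (false_of_notAb h (m_5 hr)).elim
    · exact (false_of_notAb h (m_7 hr)).elim
    · exact Or.inr ⟨rfl, rfl, rfl⟩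
    · obtain ⟨e⟩ := hr
      exact (m_thirteen (h.congr e)).elim
  case j4 =>
    obtain ⟨rfl, rfl⟩ : p = 11 ∧ n = 3 := by simpa [exc] using hm
    exact (false_of_notAb h (j4_11 hr)).elim
  all_goals exact absurd hm (by simp [exc])

end Cfsg.Agent.H447.One.Spor
end

-- part: H478/Loc/M
section
/-!
# S4880, `Loc 11 5` for the Monster (helper478, task 3414)

`C(x) / ⟨x⟩ ≅ M₁₂` for an element `x` of order 11 commuting with an involution, and `M₁₂ ≥ 11:5`.
-/

set_option autoImplicit false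

namespace Cfsg.Agent.H478.Loc

open Cfsg Subgroup Cfsg.Agent.H319.One

/-- lifting a Frobenius group `r : e` from `C(x) / ⟨x⟩` -/
theorem loc_of_quot {G X : Type*} [Group G] [Group X] {r e : ℕ} (hr : r.Prime) (he : 1 < e) {x : G}
    (hx : orderOf x = r) {C : Type*} [Group C] (j : C →* G)
    (hjx : ∀ c, j c * x = x * j c) (f : C →* X) (hf : Function.Surjective f)
    (hker : ∀ c, f c = 1 ↔ ∃ k : ℤ, j c = x ^ k) (h : Cfsg.Agent.H61.SpAlt.Fb r e X) : Loc r e G := by
  have := Fact.mk hr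
  obtain ⟨a, b, k, ha, hb, hab, hk⟩ := h
  obtain ⟨a, rfl⟩ := hf a
  obtain ⟨b, rfl⟩ := hf b
  -- `k` has order `e` modulo `r`
  have hmod : ∀ m : ℕ, ((k : ZMod r) ^ m = 1 ↔ k ^ m % r = 1 % r) := by
    intro m
    rw [← Nat.cast_pow, show (1 : ZMod r) = ((1 : ℕ) : ZMod r) from Nat.cast_one.symm]
    exact ZMod.natCast_eq_natCast_iff' _ _ _
  have hconj : ∀ m : ℕ, f b ^ m * f a * (f b ^ m)⁻¹ = f a ^ (k ^ m) := by
    intro m
    induction m with
    | zero => simp
    | succ m ih =>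
      calc f b ^ (m + 1) * f a * (f b ^ (m + 1))⁻¹ = f b * (f b ^ m * f a * (f b ^ m)⁻¹) * (f b)⁻¹ := by
            rw [pow_succ']; group
        _ = (f b * f a * (f b)⁻¹) ^ (k ^ m) := by rw [ih, conj_pow]
        _ = _ := by rw [hab, ← pow_mul, ← pow_succ']
  have hke : orderOf (k : ZMod r) = e := by
    have h1 : (k : ZMod r) ^ e = 1 := by
      have h2 := hconj e
      have h3 : f b ^ e = 1 := by rw [← hb]; exact pow_orderOf_eq_one _
      rw [h3, one_mul, inv_one, mul_one] at h2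
      have h4 : f a ^ 1 = f a ^ (k ^ e) := by rw [pow_one]; exact h2
      rw [pow_inj_mod, ha] at h4
      exact (hmod e).2 h4.symm
    rw [orderOf_eq_iff (by omega)]
    exact ⟨h1, fun m hm hm0 h2 => hk m hm hm0 ((hmod m).1 h2)⟩
  have hk1 : (k : ZMod r) - 1 ≠ 0 := by
    intro h1
    rw [sub_eq_zero.1 h1, orderOf_one] at hke
    omega
  have hxz : ∀ m : ℤ, x ^ m = 1 ↔ (m : ZMod r) = 0 := by
    intro m
    rw [← orderOf_dvd_iff_zpow_eq_one, hx, ZMod.intCast_zmod_eq_zero_iff_dvd]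
  have hAx : Commute (j a) x := hjx a
  have hBx : Commute (j b) x := hjx b
  -- the relation
  obtain ⟨i, hi⟩ : ∃ i : ℤ, j b * j a * (j b)⁻¹ = x ^ i * j a ^ k := by
    obtain ⟨i, hi⟩ := (hker (b * a * b⁻¹ * (a ^ k)⁻¹)).1 (by
      rw [map_mul, map_mul, map_mul, map_inv, map_inv, map_pow, hab, mul_inv_cancel])
    refine ⟨i, ?_⟩
    rw [← hi, map_mul, map_mul, map_mul, map_inv, map_inv, map_pow, inv_mul_cancel_right]
  obtain ⟨m, hm⟩ : ∃ m : ℤ, j a ^ r = x ^ m := by
    obtain ⟨m, hm⟩ := (hker (a ^ r)).1 (by rw [map_pow, ← ha, pow_orderOf_eq_one])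
    exact ⟨m, by rw [← hm, map_pow]⟩
  have hxr : x ^ r = 1 := by rw [← hx]; exact pow_orderOf_eq_one x
  have har : j a ^ r = 1 := by
    have h1 : j b * j a ^ r * (j b)⁻¹ = j a ^ r := by
      rw [hm, (hBx.zpow_right m).eq, mul_inv_cancel_right]
    rw [← conj_pow, hi, ((hAx.pow_left k).zpow_right i).symm.mul_pow, ← zpow_natCast (x ^ i) r, ← zpow_mul,
      mul_comm i (r : ℤ), zpow_mul, zpow_natCast, hxr, one_zpow, one_mul, ← pow_mul, mul_comm k r, pow_mul, hm,
      ← zpow_natCast, ← zpow_mul] at h1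
    have h2 : x ^ (m * k - m) = 1 := by rw [zpow_sub, h1, mul_inv_cancel]
    rw [hxz] at h2
    push_cast at h2
    have h3 : (m : ZMod r) * ((k : ZMod r) - 1) = 0 := by rw [mul_sub, mul_one]; exact h2
    rcases mul_eq_zero.1 h3 with h4 | h4
    · rw [hm, hxz]; exact h4
    · exact absurd h4 hk1
  obtain ⟨t, ht⟩ : ∃ t : ℤ, ((t : ℤ) : ZMod r) = (i : ZMod r) * ((k : ZMod r) - 1)⁻¹ :=
    ⟨_, ZMod.intCast_zmod_cast _⟩
  have hfa : f a ≠ 1 := by
    intro h1
    rw [h1, orderOf_one] at ha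
    exact hr.one_lt.ne ha
  have hne : ∀ s : ℤ, j a ≠ x ^ s := fun s hs => hfa ((hker a).2 ⟨s, hs⟩)
  have hAt : Commute (j a) (x ^ t) := hAx.zpow_right t
  refine ⟨x, j a * x ^ t, j b, k, hx, ?_, ?_, ?_, hjx b, ?_, hke⟩
  · refine orderOf_eq_prime ?_ ?_
    · rw [hAt.mul_pow, har, one_mul, ← zpow_natCast, ← zpow_mul, mul_comm, zpow_mul, zpow_natCast, hxr, one_zpow]
    · intro h1
      apply hne (-t)
      rw [zpow_neg]
      exact eq_inv_of_mul_eq_one_left h1
  · exact ((hAx.mul_left ((Commute.refl x).zpow_left t)).eq).symm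
  · rintro ⟨s, hs⟩
    replace hs : x ^ s = j a * x ^ t := hs
    apply hne (s - t)
    rw [zpow_sub, hs, mul_inv_cancel_right]
  · have h1 : j b * (j a * x ^ t) * (j b)⁻¹ = (j b * j a * (j b)⁻¹) * x ^ t := by
      calc j b * (j a * x ^ t) * (j b)⁻¹ = j b * j a * (x ^ t * (j b)⁻¹) := by group
        _ = j b * j a * ((j b)⁻¹ * x ^ t) := by rw [(hBx.inv_left.zpow_right t).eq]
        _ = _ := by group
    rw [h1, hi, hAt.mul_pow, ← zpow_natCast (x ^ t), ← zpow_mul, mul_assoc, ((hAx.pow_left k).zpow_right t).eq,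
      ← mul_assoc, ← zpow_add, ((hAx.pow_left k).zpow_right (t * k)).eq]
    congr 1
    have h2 : x ^ (i + t - t * k) = 1 := by
      rw [hxz]
      push_cast
      rw [ht]
      field_simp
      ring
    rw [zpow_sub, mul_inv_eq_one] at h2
    exact h2

open Cfsg.Agent.OrdDiv Cfsg.Agent.BpSpor.MBig Cfsg.Agent.BpSpor.MBigModel Cfsg.Agent.H546

/-- a simple group of order 95040 -/
theorem m12_of_card (TB : OrderTable.{0})
    (hS : ∀ (X : Type) [Group X] [Finite X] [IsSimpleGroup X], IsKnownSimple' X) {E : Type} [Group E] [Finite E]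
    (hs : IsSimpleGroup E) (hc : Nat.card E = 95040) : Nonempty (E ≃* Cfsg.Spor.M12) := by
  have hna : ¬ ∀ a b : E, a * b = b * a := by
    intro h
    let _ : CommGroup E := { (inferInstance : Group E) with mul_comm := h }
    have h3 := IsSimpleGroup.prime_card (α := E)
    rw [hc] at h3
    exact absurd h3 (by norm_num)
  obtain ⟨g, hg, hr⟩ := exists_real_filter TB (hS E) hna H746.MEleven.valid_l6 (by rw [hc]; decide +kernel)
    (fun n => Nat.beq n 95040) (by rw [hc]; decide)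
  rw [H746.MEleven.cands_95040, List.mem_singleton] at hg
  subst hg
  exact hr

/-- **`Loc 11 5` for the model of the Monster** -/
theorem loc_MG (TB : OrderTable.{0}) (hS : ∀ (X : Type) [Group X] [Finite X] [IsSimpleGroup X], IsKnownSimple' X) :
    Loc 11 5 MG := by
  have hfin := finite
  have hp : Fact (Nat.Prime 11) := ⟨by norm_num⟩
  obtain ⟨x', hx', -⟩ := Cfsg.Agent.MFive.KPair.exists_order chart (by norm_num : Nat.Prime 11) (by decide)
    Cfsg.Agent.BpSpor.MBigCo.orderOf_s11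
  have hx0 : orderOf (x' : MG) = 11 := by rw [Subgroup.orderOf_coe, hx']
  have hxz : (x' : MG) * zz = zz * x' := mem_centralizer_singleton_iff.1 x'.2
  generalize (x' : MG) = x at hx0 hxz
  have hxm : x ∈ centralizer ({x} : Set MG) := mem_centralizer_singleton_iff.2 rfl
  have hxn : (zpowers (⟨x, hxm⟩ : ↥(centralizer ({x} : Set MG)))).Normal := by
    refine ⟨fun n hn c => ?_⟩
    obtain ⟨k, rfl⟩ := mem_zpowers_iff.1 hn
    have h2 : c * (⟨x, hxm⟩ : ↥(centralizer ({x} : Set MG))) = ⟨x, hxm⟩ * c :=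
      Subtype.ext (mem_centralizer_singleton_iff.1 c.2)
    have h3 : Commute c (⟨x, hxm⟩ : ↥(centralizer ({x} : Set MG))) := h2
    rw [(h3.zpow_right k).eq, mul_inv_cancel_right]
    exact hn
  obtain ⟨hcard, hsimple⟩ := H746.MEleven.card_cent_good TB hS hx0 orderOf_zz hxz hxm
  have hq : Nat.card (↥(centralizer ({x} : Set MG)) ⧸ zpowers (⟨x, hxm⟩ : ↥(centralizer ({x} : Set MG)))) = 95040 := by
    have h1 := (zpowers (⟨x, hxm⟩ : ↥(centralizer ({x} : Set MG)))).card_mul_index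
    rw [Nat.card_zpowers, ← Subgroup.orderOf_coe, hx0, hcard] at h1
    exact Nat.eq_of_mul_eq_mul_left (by norm_num) h1
  obtain ⟨e⟩ := m12_of_card TB hS hsimple hq
  refine loc_of_quot (C := ↥(centralizer ({x} : Set MG))) (X := Cfsg.Spor.M12) (by norm_num) (by norm_num) hx0
    (Subgroup.subtype _) (fun c => mem_centralizer_singleton_iff.1 c.2)
    (e.toMonoidHom.comp (QuotientGroup.mk' _)) (e.surjective.comp (QuotientGroup.mk'_surjective _)) ?_
    Cfsg.Agent.H61.SpAlt.fb_M12_eleven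
  intro c
  have h1 : (e.toMonoidHom.comp (QuotientGroup.mk' (zpowers (⟨x, hxm⟩ : ↥(centralizer ({x} : Set MG)))))) c = 1 ↔
      c ∈ zpowers (⟨x, hxm⟩ : ↥(centralizer ({x} : Set MG))) := by
    rw [← QuotientGroup.eq_one_iff]
    change e (QuotientGroup.mk' _ c) = 1 ↔ _
    rw [map_eq_one_iff e e.injective]
    rfl
  rw [h1]
  constructor
  · rintro ⟨k, hk⟩
    exact ⟨k, (congrArg Subtype.val hk).symm⟩
  · rintro ⟨k, hk⟩
    exact ⟨k, Subtype.ext hk.symm⟩

/-- **task 3414** -/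
theorem loc_isoM (TB : OrderTable.{0}) (hS : ∀ (X : Type) [Group X] [Finite X] [IsSimpleGroup X], IsKnownSimple' X)
    {S : Type*} [Group S] (h : Cfsg.Spor.IsoM S) : Loc 11 5 S := by
  obtain ⟨e⟩ := h
  obtain ⟨e'⟩ := Cfsg.Agent.MonsterP.Equiv.equiv
  exact (loc_MG TB hS).congr (e.trans e').symm

end Cfsg.Agent.H478.Loc
end

-- part: H319/One/Main
section
/-!
# S4880, classification half (helper319)

`main`: `S` a known finite simple group with `Hyp p n S` : `Aut S` transitive on the elements of order `p ≥ 5`, the Sylow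
`p`-subgroup elementary abelian of order `p ^ n`, `n ≥ 2`, `n ≥ 3` if `p = 5`. Then `S = PSL₂(p ^ n)`, or `p = 7`, `n = 2` and
`Loc 7 3 S`, or `p = 11`, `n = 2` and `Loc 11 5 S`, or `p = 11`, `n = 2` and `S = ²F₄(q)`.
-/

set_option autoImplicit false

namespace Cfsg.Agent.H319.One

open Cfsg Cfsg.Agent.OrdDiv

universe u

/-- The possibilities. -/
def Outcome (p n : ℕ) (S : Type u) [Group S] : Prop :=
  (∃ (F : Type) (_ : Field F) (_ : Fintype F), Fintype.card F = p ^ n ∧
    Nonempty (S ≃* Matrix.ProjectiveSpecialLinearGroup (Fin 2) F)) ∨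
  (p = 7 ∧ n = 2 ∧ Loc 7 3 S) ∨ (p = 11 ∧ n = 2 ∧ Loc 11 5 S) ∨
  (p = 11 ∧ n = 2 ∧ Lie.Iso2F4 S ∧
    ∀ x g : S, orderOf x = 11 → ∀ j : ℕ, (j = 3 ∨ j = 4 ∨ j = 5 ∨ j = 9) → g * x * g⁻¹ ≠ x ^ j)

theorem cast_ne_zero {F : Type*} [Field F] [Fintype F] {p : ℕ} [hp : Fact p.Prime] (h : ¬ p ∣ Fintype.card F) :
    (p : F) ≠ 0 := by
  intro h0
  apply h
  obtain ⟨r, hr⟩ := CharP.exists F
  obtain ⟨m, hr', hm⟩ := FiniteField.card F r
  rw [CharP.cast_eq_zero_iff F r] at h0
  rw [hm, ← (Nat.prime_dvd_prime_iff_eq hr' hp.out).1 h0]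
  exact dvd_pow_self r m.ne_zero

/-- **The classification half of S4880.** -/
theorem main {S : Type u} [Group S] [Finite S] [IsSimpleGroup S] (hk : IsKnownSimple' S)
    (hK0 : ∀ (X : Type) [Group X] [Finite X] [IsSimpleGroup X], IsKnownSimple' X) {p n : ℕ} [hp : Fact p.Prime]
    (h : Hyp p n S) : Outcome p n S := by
  classical
  have own : IsLieTypeChar p S → Outcome p n S := fun hS => Or.inl (H333.OwnOne.own h hS)
  have spo : ∀ (g : Grp), g ∈ spor.map (fun x => x.1) → Real g S → Outcome p n S := fun g hg hr => by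
    obtain ⟨x, hx, rfl⟩ := List.mem_map.1 hg
    rcases H447.One.Spor.row_spor h hx hr with ⟨h1, h2, h3 | h3⟩ | ⟨h1, h2, h3⟩
    · rw [h3] at hr
      exact Or.inr (Or.inl ⟨h1, h2, H478.Loc.loc_isoTh hr⟩)
    · rw [h3] at hr
      exact Or.inr (Or.inl ⟨h1, h2, H478.Loc.loc_isoB hr⟩)
    · rw [h3] at hr
      exact Or.inr (Or.inr (Or.inl ⟨h1, h2, H478.Loc.loc_isoM OrdDiv.table hK0 hr⟩))
  rcases hk with h' | h' | h' | h' | h' | h' | h' | h' | h' | h'
  · exfalso
    have h1 : (Nat.card S).Prime := h'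
    have h2 : p ^ 2 ∣ Nat.card S := (pow_dvd_pow p h.two).trans h.dvd
    have h3 : p ∣ Nat.card S := (dvd_pow_self p two_ne_zero).trans h2
    have h4 := (Nat.prime_dvd_prime_iff_eq hp.out h1).1 h3
    rw [← h4] at h2
    have h5 := Nat.le_of_dvd hp.out.pos h2
    have h6 := hp.out.two_le
    nlinarith only [h5, h6]
  · obtain ⟨m, hm, ⟨e⟩⟩ := h'
    exact (H600.OneAlt.row_alt (h.congr e)).elim
  · obtain ⟨F, i1, i2, m, hm, hm2, ⟨e⟩⟩ := h'
    by_cases hpF : p ∣ Fintype.card F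
    · exact own (Or.inl ⟨F, i1, i2, H333.OwnOne.charP_of_dvd hpF, m, hm, hm2, ⟨e⟩⟩)
    · exact (H491.One.row_psl hm hpF (h.congr e)).elim
  · obtain ⟨F, i1, i2, m, hm, hm2, ⟨e⟩⟩ := h'
    by_cases hpF : p ∣ Fintype.card F
    · exact own (Or.inr (Or.inl ⟨F, i1, i2, H333.OwnOne.charP_of_dvd hpF, m, hm, hm2, ⟨e⟩⟩))
    · exact (H267.One.row_psp hm hpF (h.congr e)).elim
  · obtain ⟨F, i1, i2, m, q, hF, hm, hm2, ⟨e⟩⟩ := h'
    by_cases hpF : p ∣ q
    · have hpF' : p ∣ Fintype.card F := by rw [hF]; exact hpF.trans (dvd_pow_self q two_ne_zero)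
      exact own (Or.inr (Or.inr (Or.inl ⟨F, i1, i2, H333.OwnOne.charP_of_dvd hpF', m, q, hF, hm, hm2, ⟨e⟩⟩)))
    · exact (H144.One.row_psu hF hm hm2 hpF (h.congr e)).elim
  · obtain ⟨F, i1, i2, m, hm, ho, ⟨e⟩⟩ := h'
    by_cases hpF : p ∣ Fintype.card F
    · exact own (Or.inr (Or.inr (Or.inr (Or.inl ⟨F, i1, i2, H333.OwnOne.charP_of_dvd hpF, m, hm, ho, ⟨e⟩⟩))))
    · exact (H156.One.row_oodd hm ho hpF (h.congr e)).elim
  · obtain ⟨F, i1, i2, m, hm, ⟨e⟩⟩ := h'
    by_cases hpF : p ∣ Fintype.card F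
    · exact own (Or.inr (Or.inr (Or.inr (Or.inr (Or.inl ⟨F, i1, i2, H333.OwnOne.charP_of_dvd hpF, m, hm, ⟨e⟩⟩)))))
    · rcases Nat.lt_or_ge m 5 with h4 | h4
      · have h5 : m = 4 := by omega
        subst h5
        obtain ⟨e'⟩ : Nonempty (↥(Lie.chevD4.group F) ≃* POmega F (quadFormPlus 4 F)) := S1082.result
        exact (ExcRows.d4_false (cast_ne_zero hpF) (h.congr (e.trans e'.symm))).elim
      · exact (H156.One.row_oplus h4 hpF (h.congr e)).elim
  · obtain ⟨F, i1, i2, m, a, b, hm, hab, ⟨e⟩⟩ := h'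
    by_cases hpF : p ∣ Fintype.card F
    · exact own (Or.inr (Or.inr (Or.inr (Or.inr (Or.inr (Or.inl
        ⟨F, i1, i2, H333.OwnOne.charP_of_dvd hpF, m, a, b, hm, hab, ⟨e⟩⟩))))))
    · exact (H156.One.row_ominus hm hab hpF (h.congr e)).elim
  · rcases h' with h' | h' | h' | h' | h' | h' | h' | h' | h' | h' | h'
    · obtain ⟨F, i1, i2, hq, ⟨e⟩⟩ := h'
      by_cases hpF : p ∣ Fintype.card F
      · exact own (Or.inr (Or.inr (Or.inr (Or.inr (Or.inr (Or.inr (Or.inl
          ⟨F, i1, i2, H333.OwnOne.charP_of_dvd hpF, Or.inl ⟨hq, ⟨e⟩⟩⟩)))))))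
      · exact (ExcRows.g2_false (cast_ne_zero hpF) (h.congr e)).elim
    · obtain ⟨F, i1, i2, ⟨e⟩⟩ := h'
      by_cases hpF : p ∣ Fintype.card F
      · exact own (Or.inr (Or.inr (Or.inr (Or.inr (Or.inr (Or.inr (Or.inl
          ⟨F, i1, i2, H333.OwnOne.charP_of_dvd hpF, Or.inr (Or.inl ⟨e⟩)⟩)))))))
      · obtain ⟨h1, h2, h3⟩ := ExcRows.f4_row OrdDiv.table (cast_ne_zero hpF) (h.congr e)
        subst h1
        exact Or.inr (Or.inl ⟨rfl, h2, (H210.EL.loc_f4 h3).congr e.symm⟩)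
    · obtain ⟨F, i1, i2, ⟨e⟩⟩ := h'
      by_cases hpF : p ∣ Fintype.card F
      · exact own (Or.inr (Or.inr (Or.inr (Or.inr (Or.inr (Or.inr (Or.inl
          ⟨F, i1, i2, H333.OwnOne.charP_of_dvd hpF, Or.inr (Or.inr (Or.inl ⟨e⟩))⟩)))))))
      · exact (ExcRows.e6_false OrdDiv.table (cast_ne_zero hpF) (h.congr e)).elim
    · obtain ⟨F, i1, i2, ⟨e⟩⟩ := h'
      by_cases hpF : p ∣ Fintype.card F
      · exact own (Or.inr (Or.inr (Or.inr (Or.inr (Or.inr (Or.inr (Or.inl
          ⟨F, i1, i2, H333.OwnOne.charP_of_dvd hpF, Or.inr (Or.inr (Or.inr (Or.inl ⟨e⟩)))⟩)))))))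
      · exact (ExcRows.e7_false OrdDiv.table (cast_ne_zero hpF) (h.congr e)).elim
    · obtain ⟨F, i1, i2, ⟨e⟩⟩ := h'
      by_cases hpF : p ∣ Fintype.card F
      · exact own (Or.inr (Or.inr (Or.inr (Or.inr (Or.inr (Or.inr (Or.inl
          ⟨F, i1, i2, H333.OwnOne.charP_of_dvd hpF, Or.inr (Or.inr (Or.inr (Or.inr ⟨e⟩)))⟩)))))))
      · have hpF' := cast_ne_zero hpF
        have h' := h.congr e
        by_cases hp5 : p = 5
        · exfalso
          subst hp5
          have h6 := H795.NotAbRows.e8_five (F := F) (by exact_mod_cast hpF')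
          obtain ⟨P⟩ : Nonempty (Sylow 5 ↥(Lie.chevE8.group F)) := inferInstance
          exact h6 P ⟨⟨fun a b => Subtype.ext (h'.comm P P.2 a a.2 b b.2)⟩⟩
        · obtain ⟨h1, h2, h3⟩ := ExcRows.e8_row OrdDiv.table hpF' h' hp5
          subst h1
          exact Or.inr (Or.inr (Or.inl ⟨rfl, h2, (H210.EL.loc_e8 h3).congr e.symm⟩))
    · obtain ⟨F, i1, i2, q, hq, hF, ⟨e⟩⟩ := h'
      by_cases hpF : p ∣ Fintype.card F
      · exact own (Or.inr (Or.inr (Or.inr (Or.inr (Or.inr (Or.inr (Or.inr (Or.inl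
          ⟨F, i1, i2, H333.OwnOne.charP_of_dvd hpF, q, hq, Or.inl ⟨hF, ⟨e⟩⟩⟩))))))))
      · exact (ExcRows.te6_false OrdDiv.table (cast_ne_zero hpF) hq hF (h.congr e)).elim
    · obtain ⟨F, i1, i2, q, hq, hF, ⟨e⟩⟩ := h'
      by_cases hpF : p ∣ Fintype.card F
      · exact own (Or.inr (Or.inr (Or.inr (Or.inr (Or.inr (Or.inr (Or.inr (Or.inl
          ⟨F, i1, i2, H333.OwnOne.charP_of_dvd hpF, q, hq, Or.inr ⟨hF, ⟨e⟩⟩⟩))))))))
      · exact (ExcRows.td4_false (cast_ne_zero hpF) hq hF (h.congr e)).elim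
    · exact (H488.One.SzRee.row_sz h' h).elim
    · exact (H488.One.SzRee.row_ree h' h).elim
    · have h'' := h'
      obtain ⟨F, i1, i2, m, hm, hF, ⟨e⟩⟩ := h'
      have h1 := h.congr e
      obtain ⟨h2, h3⟩ := H969.TwF.row_twF4 hm hF h1
      subst h2 h3
      refine Or.inr (Or.inr (Or.inr ⟨rfl, rfl, h'', fun x g hx j hj hg => ?_⟩))
      refine H969.TwF.no_conj hm hF h1 (x := e x) (g := e g) (by rw [e.orderOf_eq, hx]) hj ?_
      rw [← map_inv, ← map_mul, ← map_mul, hg, map_pow]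
    · exact spo .tits (by decide) h'
  · rcases h' with h' | h' | h' | h' | h' | h' | h' | h' | h' | h' | h' | h' | h' | h' | h' | h' | h' | h' | h' | h' |
      h' | h' | h' | h' | h' | h'
    · exact spo .m11 (by decide) h'
    · exact spo .m12 (by decide) h'
    · exact spo .m22 (by decide) h'
    · exact spo .m23 (by decide) h'
    · exact spo .m24 (by decide) h'
    · exact spo .j1 (by decide) h'
    · exact spo .j2 (by decide) h'
    · exact spo .j3 (by decide) h'
    · exact spo .j4 (by decide) h'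
    · exact spo .co1 (by decide) h'
    · exact spo .co2 (by decide) h'
    · exact spo .co3 (by decide) h'
    · exact spo .mcl (by decide) h'
    · exact spo .hs (by decide) h'
    · exact spo .suz (by decide) h'
    · exact spo .he (by decide) h'
    · exact spo .ru (by decide) h'
    · exact spo .on (by decide) h'
    · exact spo .ly (by decide) h'
    · exact spo .fi22 (by decide) h'
    · exact spo .fi23 (by decide) h'
    · exact spo .fi24 (by decide) h'
    · exact spo .hn (by decide) h'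
    · exact spo .th (by decide) h'
    · exact spo .b (by decide) h'
    · exact spo .m (by decide) h'

end Cfsg.Agent.H319.One
end

private theorem dce_c53361a16237 : _root_.True := by
  try have : _root_.True := by simp only [_root_.Cfsg.Agent.H447.One.Spor.exc._sparseCasesOn_1.else_eq]
  try have : _root_.True := by simp only [_root_.Cfsg.Agent.H447.One.Spor.exc.eq_8]
  try have : _root_.True := by simp only [_root_.Cfsg.Agent.H447.One.Spor.exc.eq_4]
  try have : _root_.True := by simp only [_root_.Cfsg.Agent.H447.One.Spor.exc.eq_16]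
  try have : _root_.True := by simp only [_root_.Cfsg.Agent.H447.One.Spor.ok.eq_1]
  try have : _root_.True := by simp only [_root_.Cfsg.Agent.H447.One.Spor.exc.eq_2]
  try have : _root_.True := by simp only [_root_.Cfsg.Agent.H447.One.Spor.exc.eq_3]
  try have : _root_.True := by simp only [_root_.Cfsg.Agent.H447.One.Spor.exc.eq_6]
  try have : _root_.True := by simp only [_root_.Cfsg.Agent.H447.One.Spor.exc.eq_14]
  try have : _root_.True := by simp only [_root_.Cfsg.Agent.H447.One.Spor.exc.eq_12]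
  try have : _root_.True := by simp only [_root_.Cfsg.Agent.H447.One.Spor.exc.eq_5]
  try have : _root_.True := by simp only [_root_.Cfsg.Agent.H447.One.Spor.exc.eq_9]
  try have : _root_.True := by simp only [_root_.Cfsg.Agent.H447.One.Spor.exc.eq_7]
  try have : _root_.True := by simp only [_root_.Cfsg.Agent.H447.One.Spor.prs.eq_1]
  try have : _root_.True := by simp only [_root_.Cfsg.Agent.H447.One.Spor.exc.eq_13]
  try have : _root_.True := by simp only [_root_.Cfsg.Agent.H447.One.Spor.exc.eq_10]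
  try have : _root_.True := by simp only [_root_.Cfsg.Agent.H447.One.Spor.exc.eq_15]
  try have : _root_.True := by simp only [_root_.Cfsg.Agent.H447.One.Spor.exc.eq_1]
  try have : _root_.True := by simp only [_root_.Cfsg.Agent.H447.One.Spor.exc.eq_11]
  exact _root_.True.intro
end

-- part: H741/One/Asm
section
set_option linter.all false
open scoped Cfsg.Agent.FastGrp

-- part: H741/One/Index
section
/-!
# S4880: `Loc p e G` gives an automizer of order divisible by `e` (helper741)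
-/

set_option autoImplicit false

namespace Cfsg.Agent.H741.One

open Subgroup Cfsg.Agent.H319.One

variable {G : Type*} [Group G]

theorem Loc.of_subgroup {p e : ℕ} {T : Subgroup G} (h : Loc p e ↥T) : Loc p e G := by
  obtain ⟨x, y, c, k, hx, hy, hxy, hn, hc, hk, he⟩ := h
  refine ⟨x, y, c, k, by rw [Subgroup.orderOf_coe, hx], by rw [Subgroup.orderOf_coe, hy], congrArg Subtype.val hxy,
    ?_, congrArg Subtype.val hc, congrArg Subtype.val hk, he⟩
  rintro ⟨m, hm⟩
  exact hn ⟨m, Subtype.ext (by simpa using hm)⟩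

theorem conj_pow_iter {c y : G} {k : ℕ} (h : c * y * c⁻¹ = y ^ k) (m : ℕ) : c ^ m * y * (c ^ m)⁻¹ = y ^ k ^ m := by
  induction m with
  | zero => simp
  | succ m ih =>
    rw [pow_succ' c, pow_succ k, pow_mul, ← ih]
    calc c * c ^ m * y * (c * c ^ m)⁻¹ = c * (c ^ m * y * (c ^ m)⁻¹) * c⁻¹ := by group
      _ = c * y ^ k ^ m * c⁻¹ := by rw [ih]
      _ = (c * y * c⁻¹) ^ k ^ m := by rw [conj_pow]
      _ = (y ^ k) ^ k ^ m := by rw [h]
      _ = (y ^ k ^ m) ^ k := by rw [← pow_mul, ← pow_mul, mul_comm]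
      _ = (c ^ m * y * (c ^ m)⁻¹) ^ k := by rw [ih]

/-- A Sylow subgroup `P` of order `p²` and `x ∈ P` with `|N(P) ∩ C(x) : C(P)|` divisible by `e`. -/
theorem exists_of_loc [Finite G] {p e : ℕ} [hp : Fact p.Prime] (hcard : ∀ P : Sylow p G, Nat.card P = p ^ 2)
    (h : Loc p e G) : ∃ (P : Sylow p G) (x : G), x ∈ (P : Subgroup G) ∧ x ≠ 1 ∧
      e ∣ (centralizer ((P : Subgroup G) : Set G)).relIndex
        (normalizer ((P : Subgroup G) : Set G) ⊓ centralizer ({x} : Set G)) := by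
  obtain ⟨x, y, c, k, hx, hy, hxy, hn, hc, hk, he⟩ := h
  have hp' := hp.out
  set Q : Subgroup G := zpowers x ⊔ zpowers y with hQ
  have hxQ : x ∈ Q := le_sup_left (a := zpowers x) (mem_zpowers x)
  have hyQ : y ∈ Q := le_sup_right (a := zpowers x) (mem_zpowers y)
  have hQc : ∀ g : G, g * x = x * g → g * y = y * g → g ∈ centralizer (Q : Set G) := by
    intro g h1 h2
    have h3 : Q ≤ centralizer {g} := by
      rw [hQ, sup_le_iff, zpowers_le, zpowers_le]
      exact ⟨mem_centralizer_singleton_iff.2 h1.symm, mem_centralizer_singleton_iff.2 h2.symm⟩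
    exact mem_centralizer_iff.2 fun q hq => mem_centralizer_singleton_iff.1 (h3 hq)
  have hQp : IsPGroup p ↥Q := by
    have h1 : IsPGroup p ↥(zpowers x) := IsPGroup.of_card (n := 1) (by rw [Nat.card_zpowers, hx, pow_one])
    have h2 : IsPGroup p ↥(zpowers y) := IsPGroup.of_card (n := 1) (by rw [Nat.card_zpowers, hy, pow_one])
    refine IsPGroup.to_sup_of_normal_left' h1 h2 ?_
    rw [zpowers_le]
    refine centralizer_le_normalizer _ (mem_centralizer_iff.2 ?_)
    rintro _ ⟨m, rfl⟩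
    exact ((Commute.zpow_left (show Commute x y from hxy) m)).eq
  obtain ⟨P, hP⟩ := hQp.exists_le_sylow
  have hPQ : (P : Subgroup G) = Q := by
    symm
    apply Subgroup.eq_of_le_of_card_ge hP
    have h1 : Nat.card ↥(P : Subgroup G) = p ^ 2 := hcard P
    rw [h1]
    obtain ⟨n, hn'⟩ := IsPGroup.iff_card.1 hQp
    rw [hn']
    apply Nat.pow_le_pow_right hp'.pos
    by_contra h2
    apply hn
    have h3 : Nat.card ↥Q ≤ Nat.card ↥(zpowers x) := by
      rw [hn', Nat.card_zpowers, hx]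
      calc p ^ n ≤ p ^ 1 := Nat.pow_le_pow_right hp'.pos (by omega)
        _ = p := pow_one p
    have h4 := Subgroup.eq_of_le_of_card_ge (le_sup_left : zpowers x ≤ zpowers x ⊔ zpowers y) h3
    rw [h4]
    exact hyQ
  have hcN : c ∈ normalizer ((P : Subgroup G) : Set G) := by
    rw [hPQ]
    have h1 : Q.map (MulAut.conj c).toMonoidHom ≤ Q := by
      rw [hQ, Subgroup.map_sup, sup_le_iff, MonoidHom.map_zpowers, MonoidHom.map_zpowers, zpowers_le, zpowers_le]
      constructor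
      · show c * x * c⁻¹ ∈ Q
        rw [hc, mul_inv_cancel_right]
        exact hxQ
      · show c * y * c⁻¹ ∈ Q
        rw [hk]
        exact pow_mem hyQ k
    have h2 : Q.map (MulAut.conj c).toMonoidHom = Q := by
      apply Subgroup.eq_of_le_of_card_ge h1
      rw [Subgroup.card_map_of_injective (MulAut.conj c).injective]
    rw [mem_normalizer_iff]
    intro g
    constructor
    · intro hg
      exact h1 ⟨g, hg, rfl⟩
    · intro hg
      rw [← h2] at hg
      obtain ⟨q, hq, hq2⟩ := hg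
      have hq3 : c * q * c⁻¹ = c * g * c⁻¹ := hq2
      have hq4 : q = g := by
        have := mul_right_cancel hq3
        exact mul_left_cancel this
      rw [← hq4]
      exact hq
  refine ⟨P, x, hP hxQ, ?_, ?_⟩
  · rintro rfl
    rw [orderOf_one] at hx
    exact hp'.ne_one hx.symm
  set D := normalizer ((P : Subgroup G) : Set G) ⊓ centralizer ({x} : Set G) with hD
  have hcD : c ∈ D := ⟨hcN, mem_centralizer_singleton_iff.2 hc⟩
  have hnorm : ((centralizer ((P : Subgroup G) : Set G)).subgroupOf D).Normal := by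
    constructor
    rintro ⟨n, hnD⟩ hn' ⟨g, hgD⟩
    rw [mem_subgroupOf] at hn' ⊢
    have h1 := mem_centralizer_iff.1 hn'
    rw [mem_centralizer_iff]
    intro q hq
    have h2 : g⁻¹ * q * g ∈ (P : Subgroup G) := by
      have h3 := (mem_normalizer_iff.1 (inv_mem hgD.1)) q
      rw [inv_inv] at h3
      exact h3.1 hq
    have h4 : (g⁻¹ * q * g) * n = n * (g⁻¹ * q * g) := h1 _ h2
    show q * (g * n * g⁻¹) = g * n * g⁻¹ * q
    calc q * (g * n * g⁻¹) = g * ((g⁻¹ * q * g) * n) * g⁻¹ := by group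
      _ = g * (n * (g⁻¹ * q * g)) * g⁻¹ := by rw [h4]
      _ = g * n * g⁻¹ * q := by group
  rw [relIndex, index_eq_card]
  refine dvd_trans ?_ (orderOf_dvd_natCard (QuotientGroup.mk (⟨c, hcD⟩ : D) :
    D ⧸ (centralizer ((P : Subgroup G) : Set G)).subgroupOf D))
  rw [← he]
  apply orderOf_dvd_of_pow_eq_one
  obtain ⟨m, hm⟩ : ∃ m, m = orderOf (QuotientGroup.mk (⟨c, hcD⟩ : D) :
    D ⧸ (centralizer ((P : Subgroup G) : Set G)).subgroupOf D) := ⟨_, rfl⟩
  rw [← hm]
  have h1 : (QuotientGroup.mk (⟨c, hcD⟩ : D) :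
      D ⧸ (centralizer ((P : Subgroup G) : Set G)).subgroupOf D) ^ m = 1 := by
    rw [hm]
    exact pow_orderOf_eq_one _
  rw [← QuotientGroup.mk_pow, QuotientGroup.eq_one_iff, mem_subgroupOf] at h1
  have h2 : c ^ m * y * (c ^ m)⁻¹ = y := by
    have h3 : y * c ^ m = c ^ m * y := mem_centralizer_iff.1 h1 y (hP hyQ)
    rw [← h3, mul_inv_cancel_right]
  rw [conj_pow_iter hk m] at h2
  have h3 : y ^ (k ^ m) = y ^ 1 := by rw [h2, pow_one]
  rw [pow_eq_pow_iff_modEq, hy] at h3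
  have h4 := (ZMod.natCast_eq_natCast_iff _ _ _).2 h3
  push_cast at h4
  exact h4

end Cfsg.Agent.H741.One
end

-- part: H741/One/Asm
section
/-!
# S4880: reduction and assembly (helper741)

`goal_of_rows` : the statement of S4880 from
* `RowEA` : S4605 for `p ≥ 7`;
* `RowCls` : the classification half (`H319.One.main`);
* `RowPS` : `p`-solvable groups; `RowPSL` : `PSL₂(pⁿ)`; `RowBlk` : the block half (`H634.OneP.main`); `RowF4` : `²F₄(q)`.
-/

set_option autoImplicit false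

namespace Cfsg.Agent.H741.One

open Cfsg Subgroup Cfsg.Agent.H319.One

universe u

/-- The outcome of the classification half (same as `H319.One.Outcome`). -/
def Out4 (p n : ℕ) (S : Type u) [Group S] : Prop :=
  (∃ (F : Type) (_ : Field F) (_ : Fintype F), Fintype.card F = p ^ n ∧
    Nonempty (S ≃* Matrix.ProjectiveSpecialLinearGroup (Fin 2) F)) ∨
  (p = 7 ∧ n = 2 ∧ Loc 7 3 S) ∨ (p = 11 ∧ n = 2 ∧ Loc 11 5 S) ∨
  (p = 11 ∧ n = 2 ∧ Lie.Iso2F4 S ∧
    ∀ x g : S, orderOf x = 11 → ∀ j : ℕ, (j = 3 ∨ j = 4 ∨ j = 5 ∨ j = 9) → g * x * g⁻¹ ≠ x ^ j)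

def RowEA (p : ℕ) : Prop :=
  ∀ (G : Type u) [Group G] [Finite G], OneC p G → ∀ P : Sylow p G, IsElementaryAbelian p (P : Subgroup G)

def RowCls (p : ℕ) : Prop :=
  ∀ (S : Type u) [Group S] [Finite S] [IsSimpleGroup S] (n : ℕ), Hyp p n S → Out4 p n S

def RowPS (p : ℕ) (M : Ideal AlgInt) : Prop :=
  ∀ (G : Type u) [Group G] [Finite G], IsPSolvable p G → pPrimeCore p G = ⊥ → p ^ 2 ∣ Nat.card G → OneC p G →
    Goal p M G

def RowPSL (p : ℕ) (M : Ideal AlgInt) : Prop :=
  ∀ (G : Type u) [Group G] [Finite G] (T : Subgroup G) [T.Normal],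
    (∀ g : G, (∀ t ∈ T, Commute g t) → g = 1) → (∀ x : G, (∃ k : ℕ, orderOf x = p ^ k) → x ∈ T) →
    ∀ (F : Type) [Field F] [Fintype F] (n : ℕ), Fintype.card F = p ^ n → 2 ≤ n →
      Nonempty (↥T ≃* Matrix.ProjectiveSpecialLinearGroup (Fin 2) F) → p ≤ kz p M G

def RowBlk (p : ℕ) (M : Ideal AlgInt) : Prop :=
  ∀ (G : Type u) [Group G] [Finite G] (P : Sylow p G), Nat.card P = p ^ 2 → (∀ x ∈ (P : Subgroup G), x ^ p = 1) →
    ∀ x : G, x ∈ (P : Subgroup G) → x ≠ 1 → ∀ e : ℕ,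
      e = (centralizer ((P : Subgroup G) : Set G)).relIndex
        (normalizer ((P : Subgroup G) : Set G) ⊓ centralizer ({x} : Set G)) → p - 1 ≤ 2 * e →
      2 * e ≤ Nat.card (principalBlock M G) ∧
        (p % 4 = 3 → Odd e → Nat.card (principalBlock M G) ≠ 2 * e)

def RowF4 (p : ℕ) (M : Ideal AlgInt) : Prop :=
  p = 11 → ∀ (G : Type u) [Group G] [Finite G], OneC p G → ∀ (T : Subgroup G) [T.Normal],
    (∀ g : G, (∀ t ∈ T, Commute g t) → g = 1) → (∀ x : G, (∃ k : ℕ, orderOf x = p ^ k) → x ∈ T) →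
    (∀ P : Sylow p G, Nat.card P = p ^ 2) → Lie.Iso2F4 ↥T →
    (∀ x g : ↥T, orderOf x = p → ∀ j : ℕ, (j = 3 ∨ j = 4 ∨ j = 5 ∨ j = 9) → g * x * g⁻¹ ≠ x ^ j) →
    10 ≤ Nat.card (principalBlock M G)

variable {p : ℕ} [hp : Fact p.Prime] {M : Ideal AlgInt}

theorem isPElt {G : Type*} [Group G] {Q : Subgroup G} (hQ : IsPGroup p ↥Q) {x : G} (hx : x ∈ Q) :
    ∃ k : ℕ, orderOf x = p ^ k := by
  obtain ⟨k, hk⟩ := IsPGroup.iff_orderOf.1 hQ ⟨x, hx⟩
  exact ⟨k, by rw [← hk, ← Subgroup.orderOf_coe]⟩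

/-- The hypothesis of the classification half. -/
theorem hyp_of {G : Type u} [Group G] [Finite G] (h7 : 7 ≤ p) (hp2 : p ^ 2 ∣ Nat.card G) (hconj : OneC p G)
    (hEA : ∀ P : Sylow p G, IsElementaryAbelian p (P : Subgroup G)) (T : Subgroup G) [T.Normal]
    (hTp : ∀ x : G, (∃ k : ℕ, orderOf x = p ^ k) → x ∈ T) :
    Hyp p ((Nat.card G).factorization p) ↥T := by
  have hp' := hp.out
  have hG0 : Nat.card G ≠ 0 := Nat.card_pos.ne'
  have hT0 : Nat.card ↥T ≠ 0 := Nat.card_pos.ne'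
  have hle : ∀ P : Sylow p G, (P : Subgroup G) ≤ T := fun P x hx => hTp x (isPElt P.isPGroup' hx)
  have hpow : ∀ (x : G) (k : ℕ), x ^ p ^ k = 1 → x ^ p = 1 := by
    intro x k hk
    have h1 : IsPGroup p ↥(zpowers x) := by
      obtain ⟨m, -, hm⟩ := (Nat.dvd_prime_pow hp').1 (orderOf_dvd_of_pow_eq_one hk)
      exact IsPGroup.of_card (n := m) (by rw [Nat.card_zpowers, hm])
    obtain ⟨P, hP⟩ := h1.exists_le_sylow
    exact (hEA P).2 x (hP (mem_zpowers x))
  refine ⟨by omega, ?_, fun h => by omega, ?_, ?_, ?_, ?_⟩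
  · exact (hp'.pow_dvd_iff_le_factorization hG0).1 hp2
  · intro x y hx hy
    have hx' : orderOf (x : G) = p := by rw [Subgroup.orderOf_coe, hx]
    have hy' : orderOf (y : G) = p := by rw [Subgroup.orderOf_coe, hy]
    have hne : ∀ z : G, orderOf z = p → z ≠ 1 := by
      rintro z hz rfl
      rw [orderOf_one] at hz
      exact hp'.ne_one hz.symm
    obtain ⟨g, hg⟩ := isConj_iff.1 (hconj x y (hne _ hx') (hne _ hy') ⟨1, by rw [pow_one, hx']⟩
      ⟨1, by rw [pow_one, hy']⟩)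
    refine ⟨MulAut.conjNormal g, Subtype.ext ?_⟩
    rw [MulAut.conjNormal_apply, hg]
  · intro P
    have h1 : Nat.card ↥(P : Subgroup ↥T) = p ^ (Nat.card ↥T).factorization p := P.card_eq_multiplicity
    rw [h1]
    congr 1
    obtain ⟨Q⟩ : Nonempty (Sylow p G) := inferInstance
    have h2 : Nat.card ↥(Q : Subgroup G) = p ^ (Nat.card G).factorization p := Q.card_eq_multiplicity
    apply le_antisymm
    · exact (Nat.factorization_le_iff_dvd hT0 hG0).2 (Subgroup.card_subgroup_dvd_card T) p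
    · rw [← hp'.pow_dvd_iff_le_factorization hT0, ← h2]
      exact Subgroup.card_dvd_of_le (hle Q)
  · intro Q hQ a ha b hb
    obtain ⟨P, hP⟩ := (hQ.map T.subtype).exists_le_sylow
    have h1 := (hEA P).1
    have h2 := h1.is_comm.comm ⟨(a : G), hP ⟨a, ha, rfl⟩⟩ ⟨(b : G), hP ⟨b, hb, rfl⟩⟩
    have h3 : (a : G) * (b : G) = (b : G) * (a : G) := congrArg Subtype.val h2
    exact Subtype.ext h3
  · intro x k hx
    have h1 : (x : G) ^ p ^ k = 1 := congrArg Subtype.val hx
    exact Subtype.ext (hpow x k h1)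

/-- the cases `p = 7`, `p = 11` with a large automizer -/
theorem goal_of_loc {G : Type u} [Group G] [Finite G] (hM : IsPModular p M) (hBlk : RowBlk.{u} p M)
    (hEA : ∀ P : Sylow p G, IsElementaryAbelian p (P : Subgroup G)) (h2 : (Nat.card G).factorization p = 2)
    {e0 : ℕ} (hL : Loc p e0 G) (hc : (p = 7 ∧ e0 = 3) ∨ (p = 11 ∧ e0 = 5)) : Goal p M G := by
  have hcard : ∀ P : Sylow p G, Nat.card ↥(P : Subgroup G) = p ^ 2 := fun P => by
    rw [← h2]
    exact P.card_eq_multiplicity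
  obtain ⟨P, x, hx, hx1, hdvd⟩ := exists_of_loc hcard hL
  have hpos : (centralizer ((P : Subgroup G) : Set G)).relIndex
      (normalizer ((P : Subgroup G) : Set G) ⊓ centralizer ({x} : Set G)) ≠ 0 := by
    rw [relIndex]
    exact Subgroup.index_ne_zero_of_finite
  set e := (centralizer ((P : Subgroup G) : Set G)).relIndex
      (normalizer ((P : Subgroup G) : Set G) ⊓ centralizer ({x} : Set G)) with he
  have h3 : e0 ≤ e := Nat.le_of_dvd (Nat.pos_of_ne_zero hpos) hdvd
  have h4 : p - 1 ≤ 2 * e := by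
    rcases hc with ⟨rfl, rfl⟩ | ⟨rfl, rfl⟩ <;> omega
  obtain ⟨h5, h6⟩ := hBlk G P (hcard P) (hEA P).2 x hx hx1 e he h4
  have hk := kz_eq_card (G := G) hM h2
  rcases hc with ⟨rfl, rfl⟩ | ⟨rfl, rfl⟩
  · apply goal_of_le
    rw [hk]
    rcases Nat.lt_or_ge 3 e with h7 | h7
    · omega
    · have h8 : e = 3 := le_antisymm h7 h3
      have h9 := h6 (by norm_num) (by rw [h8]; decide)
      omega
  · apply goal_of_ten rfl
    rw [hk]
    omega

/-- the almost simple case -/
theorem goal_as {G : Type u} [Group G] [Finite G] (hM : IsPModular p M) (h7 : 7 ≤ p) (hp2 : p ^ 2 ∣ Nat.card G)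
    (hconj : OneC p G) (hEA : RowEA.{u} p) (hCls : RowCls.{u} p) (hPSL : RowPSL.{u} p M) (hBlk : RowBlk.{u} p M)
    (hF4 : RowF4.{u} p M) (hns : ¬ IsPSolvable p G) (hcore : pPrimeCore p G = ⊥) : Goal p M G := by
  obtain ⟨T, hTn, hTs, hTc, hTC, hTp⟩ := H697.OneClass.almost_simple hns hcore hconj
  have hyp := hyp_of h7 hp2 hconj (hEA G hconj) T hTp
  rcases hCls ↥T _ hyp with ⟨F, i1, i2, hF, e⟩ | ⟨hp7, hn, hL⟩ | ⟨hp11, hn, hL⟩ | ⟨hp11, hn, hI, hj⟩
  · exact goal_of_le (hPSL G T hTC hTp F _ hF hyp.two e)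
  · subst hp7
    exact goal_of_loc hM hBlk (hEA G hconj) hn (Loc.of_subgroup hL) (Or.inl ⟨rfl, rfl⟩)
  · subst hp11
    exact goal_of_loc hM hBlk (hEA G hconj) hn (Loc.of_subgroup hL) (Or.inr ⟨rfl, rfl⟩)
  · subst hp11
    apply goal_of_ten rfl
    rw [kz_eq_card hM hn]
    refine hF4 rfl G hconj T hTC hTp (fun P => ?_) hI hj
    rw [← hn]
    exact P.card_eq_multiplicity

/-- **S4880 from the rows.** -/
theorem goal_of_rows {G : Type u} [Group G] [Finite G] (hM : IsPModular p M) (hdiv : p ∣ Nat.card G)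
    (hconj : OneC p G) (hEA : 7 ≤ p → RowEA.{u} p) (hCls : RowCls.{u} p) (hPS : 7 ≤ p → RowPS.{u} p M)
    (hPSL : 7 ≤ p → RowPSL.{u} p M) (hBlk : 7 ≤ p → RowBlk.{u} p M) (hF4 : RowF4.{u} p M) : Goal p M G := by
  by_cases h : 7 ≤ p ∧ p ^ 2 ∣ Nat.card G
  swap
  · exact goal_small hM hdiv hconj h
  obtain ⟨h7, hp2⟩ := h
  have hcop := Lib.Cores.pPrimeCore_coprime (G := G) p
  have hN : ¬ p ∣ Nat.card ↥(pPrimeCore p G) := (Nat.Prime.coprime_iff_not_dvd hp.out).1 hcop.symm
  have hnn : (pPrimeCore p G).Normal := Lib.Cores.pPrimeCore_normal p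
  have hf : Function.Surjective (QuotientGroup.mk' (pPrimeCore p G)) := QuotientGroup.mk'_surjective _
  have hk : kz p M G = kz p M (G ⧸ pPrimeCore p G) := H657.PrinQuot.card_height_eq hM (pPrimeCore p G) hN
  have hc' : OneC p (G ⧸ pPrimeCore p G) := H697.PSolvA.hconj_map _ hf hconj
  have h2' : p ^ 2 ∣ Nat.card (G ⧸ pPrimeCore p G) := by
    have h1 := Subgroup.card_eq_card_quotient_mul_card_subgroup (pPrimeCore p G)
    rw [h1] at hp2
    exact (Nat.Coprime.pow_left 2 ((Nat.Prime.coprime_iff_not_dvd hp.out).2 hN)).dvd_of_dvd_mul_right hp2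
  have hco' := Lib.Cores.pPrimeCore_quotient_pPrimeCore (G := G) p
  have key : Goal p M (G ⧸ pPrimeCore p G) := by
    by_cases hs : IsPSolvable p (G ⧸ pPrimeCore p G)
    · exact hPS h7 _ hs hco' h2' hc'
    · exact goal_as hM h7 h2' hc' (hEA h7) hCls (hPSL h7) (hBlk h7) hF4 hs hco'
  unfold Goal at key ⊢
  rw [hk]
  exact key

end Cfsg.Agent.H741.One
end
end
end
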